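import Mathlib.GroupTheory.Sylow

/-!
Coordinates for the centraliser of shape `2^(1+8).Sp6(2)`: eight elements over the basis of the
tensor model of the spin module and seven lifts of transvections in the class of the involution,
with the relations of the Coxeter diagram `E7` and the action.

Vectors are coded by bit masks (`i`-th bit = `i`-th coordinate); `qword v` is the ordered product
`q 0 ^ v_0 * ... * q 7 ^ v_7`.  The diagram is the chain `0-1-2-3-4-5` with `6` joined to `2`.
-/

set_option autoImplicit false

namespace Cfsg.Agent.Co2Type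

/-- The images of the basis vectors under the seven transvections. -/
def actTbl : Fin 7 → Fin 8 → ℕ :=
  ![![17, 34, 68, 136, 16, 32, 64, 128], ![1, 2, 4, 8, 17, 34, 68, 136], ![17, 34, 69, 138, 16, 32, 80, 160],
    ![7, 10, 12, 8, 112, 160, 192, 128], ![1, 3, 4, 12, 16, 48, 64, 192], ![3, 2, 12, 8, 48, 32, 192, 128],
    ![5, 10, 4, 8, 80, 160, 64, 128]]

/-- The signs of the action, one bit mask for each transvection. -/
def sgnTbl : Fin 7 → ℕ := ![0, 0, 12, 17, 0, 0, 0]

/-- Adjacency in the diagram. -/
def adj (i j : Fin 7) : Bool :=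
  (i.val, j.val) ∈ [(0, 1), (1, 0), (1, 2), (2, 1), (2, 3), (3, 2), (3, 4), (4, 3), (4, 5), (5, 4), (2, 6), (6, 2)]

variable {G : Type*} [Group G]

/-- The ordered product with exponents the bits of `v`. -/
def qword (q : Fin 8 → G) (v : ℕ) : G :=
  ((List.finRange 8).map fun i => if v.testBit i.val then q i else 1).prod

/-- Coordinates of the extraspecial normal subgroup of `centralizer {t}`. -/
structure QGens (t : G) (q : Fin 8 → G) : Prop where
  t_sq : t * t = 1
  t_ne : t ≠ 1
  t_comm_q : ∀ i, t * q i = q i * t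
  q_sq : ∀ i, q i * q i = 1
  q_comm : ∀ i j : Fin 8, i.val + j.val ≠ 7 → q i * q j = q j * q i
  q_pair : ∀ i j : Fin 8, i.val + j.val = 7 → q i * q j = t * (q j * q i)

/-- Coordinates of `centralizer {t}`, without the conjugacy class of `t`. -/
structure Pre (t : G) (q : Fin 8 → G) (a : Fin 7 → G) : Prop extends QGens t q where
  t_comm_a : ∀ k, t * a k = a k * t
  a_sq : ∀ k, a k * a k = 1
  a_comm : ∀ k l, adj k l = false → a k * a l = a l * a k
  a_braid : ∀ k l, adj k l = true → a k * a l * a k = a l * a k * a l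
  cox : (a 0 * a 1 * a 2 * a 3 * a 4 * a 5 * a 6) ^ 9 = 1
  act : ∀ k i, a k * q i * a k = qword q (actTbl k i) * if (sgnTbl k).testBit i.val then t else 1
  gen : Subgroup.closure ({t} ∪ Set.range q ∪ Set.range a) = Subgroup.centralizer ({t} : Set G)
  card : Nat.card (Subgroup.centralizer ({t} : Set G)) = 512 * 1451520

/-- Coordinates of `centralizer {t}`. -/
structure CGens (t : G) (q : Fin 8 → G) (a : Fin 7 → G) : Prop extends Pre t q a where
  class_a : ∀ k, ∃ g : G, g * t * g⁻¹ = a k
  class_at : ∀ k, ¬ ∃ g : G, g * t * g⁻¹ = a k * t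

end Cfsg.Agent.Co2Type
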