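import Mathlib.Algebra.Group.Subgroup.Finite
import Mathlib.GroupTheory.Coset.Basic
import Mathlib.GroupTheory.Index
import Mathlib.Tactic.Group

/-!
Centralisers bounded from above by lists of conjugating elements: an orbit that is seen to have `m`
points cuts the order at least by `m`.
-/

set_option autoImplicit false

namespace Cfsg.Agent.Co2Type.Chain

variable {G : Type*} [Group G]

/-- The elements commuting with all members of a list. -/
def cent (ys : List G) : Subgroup G := Subgroup.centralizer {y | y ∈ ys}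

theorem mem_cent {ys : List G} {x : G} : x ∈ cent ys ↔ ∀ y ∈ ys, y * x = x * y :=
  Subgroup.mem_centralizer_iff

/-- One step of the chain. -/
theorem card_step [Finite G] (S : Subgroup G) {ys : List G} {y : G} (gs : List G)
    (hg : ∀ g ∈ gs, g ∈ cent ys) (hS : ∀ g ∈ gs, g ∈ S) (hnd : (gs.map fun g => g * y * g⁻¹).Nodup) :
    gs.length * Nat.card (cent (ys ++ [y]) ⊓ S : Subgroup G) ≤ Nat.card (cent ys ⊓ S : Subgroup G) := by
  have hle : ∀ z ∈ cent (ys ++ [y]), z ∈ cent ys ∧ y * z = z * y := fun z hz =>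
    ⟨mem_cent.2 fun w hw => mem_cent.1 hz w (List.mem_append_left _ hw),
      mem_cent.1 hz y (List.mem_append_right _ (List.mem_singleton.2 rfl))⟩
  let f : Fin gs.length × (cent (ys ++ [y]) ⊓ S : Subgroup G) → (cent ys ⊓ S : Subgroup G) := fun p =>
    ⟨gs.get p.1 * p.2.1, mul_mem (hg _ (List.get_mem gs p.1)) (hle _ p.2.2.1).1,
      mul_mem (hS _ (List.get_mem gs p.1)) p.2.2.2⟩
  have hf : Function.Injective f := fun p q h => by
    have h' : gs.get p.1 * p.2.1 = gs.get q.1 * q.2.1 := congrArg Subtype.val h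
    have hc : ∀ p : Fin gs.length × (cent (ys ++ [y]) ⊓ S : Subgroup G),
        gs.get p.1 * p.2.1 * y * (gs.get p.1 * p.2.1)⁻¹ = gs.get p.1 * y * (gs.get p.1)⁻¹ := fun p => by
      calc gs.get p.1 * p.2.1 * y * (gs.get p.1 * p.2.1)⁻¹
          = gs.get p.1 * (p.2.1 * y * p.2.1⁻¹) * (gs.get p.1)⁻¹ := by group
        _ = gs.get p.1 * y * (gs.get p.1)⁻¹ := by rw [← (hle _ p.2.2.1).2, mul_inv_cancel_right]
    have e : gs.get p.1 * y * (gs.get p.1)⁻¹ = gs.get q.1 * y * (gs.get q.1)⁻¹ := by
      rw [← hc p, h', hc q]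
    have hij : p.1 = q.1 := by
      have hn := List.nodup_iff_injective_get.1 hnd
      have hlen : (gs.map fun g => g * y * g⁻¹).length = gs.length := List.length_map _
      have := hn (a₁ := ⟨p.1.1, by rw [hlen]; exact p.1.2⟩) (a₂ := ⟨q.1.1, by rw [hlen]; exact q.1.2⟩)
        (by simpa using e)
      simpa [Fin.ext_iff] using this
    refine Prod.ext hij (Subtype.ext ?_)
    rw [hij] at h'
    exact mul_left_cancel h'
  simpa [Nat.card_prod] using Nat.card_le_card_of_injective f hf

/-- All steps: each entry is a point with elements fixing the earlier points that move it to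
different places. -/
def Steps : List G → List (G × List G) → Prop
  | _, [] => True
  | ys, (y, gs) :: l => (∀ g ∈ gs, ∀ w ∈ ys, w * g = g * w) ∧ (gs.map fun g => g * y * g⁻¹).Nodup ∧
      Steps (ys ++ [y]) l

theorem card_steps [Finite G] (S : Subgroup G) : ∀ (l : List (G × List G)) (ys : List G), Steps ys l →
    (∀ p ∈ l, ∀ g ∈ p.2, g ∈ S) →
    (l.map fun p => p.2.length).prod * Nat.card (cent (ys ++ l.map Prod.fst) ⊓ S : Subgroup G) ≤
      Nat.card (cent ys ⊓ S : Subgroup G)
  | [], ys, _, _ => by simp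
  | (y, gs) :: l, ys, ⟨h1, h2, h3⟩, hS => by
    have ih := card_steps S l (ys ++ [y]) h3 fun p hp => hS p (List.mem_cons_of_mem _ hp)
    rw [List.append_assoc] at ih
    have := card_step S gs (fun g hg => mem_cent.2 (h1 g hg)) (hS _ (List.mem_cons_self)) h2
    calc (((y, gs) :: l).map fun p => p.2.length).prod * Nat.card (cent (ys ++ ((y, gs) :: l).map Prod.fst) ⊓ S : Subgroup G)
        = gs.length * ((l.map fun p => p.2.length).prod * Nat.card (cent (ys ++ ([y] ++ l.map Prod.fst)) ⊓ S : Subgroup G)) := by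
          simp [mul_assoc]
      _ ≤ gs.length * Nat.card (cent (ys ++ [y]) ⊓ S : Subgroup G) := Nat.mul_le_mul_left _ ih
      _ ≤ _ := this

/-- A centraliser is a list of known elements once the chain leaves no room for another one. -/
theorem mem_of_steps [Finite G] [DecidableEq G] {l : List (G × List G)} {L : List G} (h : Steps [] l)
    (hL : L.Nodup) (hLc : ∀ x ∈ L, ∀ p ∈ l, p.1 * x = x * p.1)
    (hroom : Nat.card G < (l.map fun p => p.2.length).prod * (L.length + 1)) {x : G}
    (hx : ∀ p ∈ l, p.1 * x = x * p.1) : x ∈ L := by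
  by_contra hxL
  have h1 := card_steps ⊤ l [] h fun _ _ _ _ => Subgroup.mem_top _
  simp only [inf_top_eq] at h1
  have h2 : Nat.card (cent ([] : List G)) ≤ Nat.card G := Finite.card_subtype_le _
  have h3 : L.length + 1 ≤ Nat.card (cent ([] ++ l.map Prod.fst)) := by
    have hm : ∀ z ∈ x :: L, z ∈ cent ([] ++ l.map Prod.fst) := fun z hz => mem_cent.2 fun w hw => by
      rw [List.nil_append] at hw
      obtain ⟨p, hp, rfl⟩ := List.mem_map.1 hw
      rcases List.mem_cons.1 hz with rfl | hz
      · exact hx p hp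
      · exact hLc z hz p hp
    have hnd : (x :: L).Nodup := List.nodup_cons.2 ⟨hxL, hL⟩
    have := Nat.card_le_card_of_injective
      (fun i : Fin (x :: L).length => (⟨(x :: L).get i, hm _ (List.get_mem _ i)⟩ : cent ([] ++ l.map Prod.fst)))
      (fun i j e => List.nodup_iff_injective_get.1 hnd (congrArg Subtype.val e))
    simpa using this
  have := Nat.mul_le_mul_left ((l.map fun p => p.2.length).prod) h3
  omega

/-- A subgroup is at least as large as the product of the orbits seen. -/
theorem le_card [Finite G] (S : Subgroup G) {l : List (G × List G)} (h : Steps [] l)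
    (hS : ∀ p ∈ l, ∀ g ∈ p.2, g ∈ S) {m : ℕ}
    (hm : m ≤ Nat.card (cent (l.map Prod.fst) ⊓ S : Subgroup G)) :
    (l.map fun p => p.2.length).prod * m ≤ Nat.card S :=
  (Nat.mul_le_mul_left _ (by simpa using hm)).trans
    ((card_steps S l [] h hS).trans (Subgroup.card_le_of_le inf_le_right))

end Cfsg.Agent.Co2Type.Chain
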