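import Mathlib.GroupTheory.Subgroup.Centralizer
import Mathlib.Algebra.Group.Subgroup.Lattice

/-!
The interface of the recognition of the second Conway group from the centraliser of an involution
(plan: `notes/s1675-plan-h11.md`).

`C₀` is the code group of the centraliser, `τ` the code of the involution, `α` that of a commuting
conjugate and `P` a list of pairs generating the action of the swap of `τ` and `α` on the
centraliser of `α`.  A `Frame` is an embedding of these data in a group; the certificate compares
two frames by the words `ev`.
-/

set_option autoImplicit false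

namespace Cfsg.Agent.Co2Type

/-- An embedding of the code group as an involution centraliser, with the swap of an edge. -/
structure Frame (C₀ : Type*) [Group C₀] (τ α : C₀) (P : List (C₀ × C₀)) (G : Type*) [Group G] where
  /-- the coordinates of the centraliser -/
  φ : C₀ →* G
  /-- the swap of the edge -/
  n : G
  inj : Function.Injective φ
  range_eq : φ.range = Subgroup.centralizer ({φ τ} : Set G)
  n_sq : n * n = 1
  n_tau : n * φ τ * n = φ α
  n_act : ∀ p ∈ P, n * φ p.1 * n = φ p.2

/-- The pairs generated by a list of pairs. -/
def pairGroup {C₀ : Type*} [Group C₀] (P : List (C₀ × C₀)) : Subgroup (C₀ × C₀) :=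
  Subgroup.closure {p | p ∈ P}

/-- The word `h₀ n h₁ n ... n hₖ`. -/
def Frame.ev {C₀ : Type*} [Group C₀] {τ α : C₀} {P : List (C₀ × C₀)} {G : Type*} [Group G]
    (F : Frame C₀ τ α P G) : List C₀ → G
  | [] => 1
  | [h] => F.φ h
  | h :: l => F.φ h * F.n * F.ev l

/-- The relations: each word of the list takes the value of its code. -/
def Frame.Squares {C₀ : Type*} [Group C₀] {τ α : C₀} {P : List (C₀ × C₀)} {G : Type*} [Group G]
    (F : Frame C₀ τ α P G) (l : List (List C₀ × C₀)) : Prop :=
  ∀ p ∈ l, F.ev p.1 = F.φ p.2

end Cfsg.Agent.Co2Type
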