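import Mathlib.Algebra.Group.Subgroup.Lattice
import Mathlib.Tactic.Group

/-!
An injective endomorphism of a centraliser that maps roots to roots agrees, up to an inner
automorphism, with given images of generators, when level by level there is one orbit of possible
images.
-/

set_option autoImplicit false

namespace Cfsg.Agent.Co2Type.Rigid

variable {C₀ : Type*} [Group C₀]

/-- The value of a pattern in the letters: `none` stands for the unknown. -/
def val (Q : List C₀) (r : C₀) (W : List (Option ℕ)) : C₀ :=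
  (W.map fun o => o.elim r fun i => Q.getD i 1).prod

/-- At this level there is one orbit of images: the patterns are evaluated at the sources and the
targets, and compared with one and, those of the second list, with the roots. -/
def Level (α : C₀) (Root : C₀ → Prop) (P : List (C₀ × C₀)) (x : C₀ × C₀)
    (Ws : List (List (Option ℕ)) × List (List (Option ℕ))) : Prop :=
  x.1 * α = α * x.1 ∧ Root x.1 ∧ (∀ V ∈ Ws.2, Root (val (P.map Prod.fst) x.1 V)) ∧
    ∀ r, r * α = α * r → Root r →
      (∀ W ∈ Ws.1, val (P.map Prod.snd) r W = 1 ↔ val (P.map Prod.fst) x.1 W = 1) →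
      (∀ V ∈ Ws.2, Root (val (P.map Prod.snd) r V)) →
      ∃ d, d * α = α * d ∧ (∀ p ∈ P, d * p.2 * d⁻¹ = p.2) ∧ d * x.2 * d⁻¹ = r

/-- All levels. -/
def Levels (α : C₀) (Root : C₀ → Prop) :
    List (C₀ × C₀) → List ((C₀ × C₀) × List (List (Option ℕ)) × List (List (Option ℕ))) → Prop
  | _, [] => True
  | P, (x, Ws) :: l => Level α Root P x Ws ∧ Levels α Root (P ++ [x]) l

variable {α : C₀} {Root : C₀ → Prop}

theorem exists_inner (hroot : ∀ d y : C₀, Root y → Root (d * y * d⁻¹)) :
    ∀ (l : List ((C₀ × C₀) × List (List (Option ℕ)) × List (List (Option ℕ)))) (P : List (C₀ × C₀)) (ψ : C₀ → C₀),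
    Levels α Root P l → (∀ p ∈ P, p.1 * α = α * p.1) →
    (∀ y, y * α = α * y → ψ y * α = α * ψ y) →
    (∀ y z, y * α = α * y → z * α = α * z → ψ (y * z) = ψ y * ψ z) →
    (∀ y z, y * α = α * y → z * α = α * z → ψ y = ψ z → y = z) →
    (∀ y, y * α = α * y → Root y → Root (ψ y)) → (∀ p ∈ P, ψ p.1 = p.2) →
    ∃ d, d * α = α * d ∧ ∀ p ∈ P ++ l.map Prod.fst, ψ p.1 = d * p.2 * d⁻¹
  | [], P, ψ, _, _, _, _, _, _, hfix =>
    ⟨1, by rw [one_mul, mul_one], fun p hp => by
      rw [List.map_nil, List.append_nil] at hp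
      rw [hfix p hp, one_mul, inv_one, mul_one]⟩
  | (x, Ws) :: l, P, ψ, ⟨⟨hxα, hxR, hV, hlev⟩, hl⟩, hP, hmap, hmul, hinj, hR, hfix => by
    have c1 : (1 : C₀) * α = α * 1 := by rw [one_mul, mul_one]
    have hone : ψ 1 = 1 := by
      have := hmul 1 1 c1 c1
      rw [one_mul] at this
      exact mul_left_cancel (this.symm.trans (mul_one _).symm)
    have cmul : ∀ {y z : C₀}, y * α = α * y → z * α = α * z → y * z * α = α * (y * z) :=
      fun {y z} hy hz => by rw [mul_assoc, hz, ← mul_assoc, hy, mul_assoc]
    have hval : ∀ W : List (Option ℕ),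
        ψ (val (P.map Prod.fst) x.1 W) = val (P.map Prod.snd) (ψ x.1) W ∧
          val (P.map Prod.fst) x.1 W * α = α * val (P.map Prod.fst) x.1 W := by
      intro W
      induction W with
      | nil => exact ⟨by simp [val, hone], by simp [val]⟩
      | cons o W ih =>
        obtain ⟨ih1, ih2⟩ := ih
        have e : ∀ (Q : List C₀) (r : C₀), val Q r (o :: W) = (o.elim r fun i => Q.getD i 1) * val Q r W :=
          fun Q r => by simp [val]
        rcases o with _ | i
        · rw [e, e]
          simp only [Option.elim]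
          exact ⟨by rw [hmul _ _ hxα ih2, ih1], cmul hxα ih2⟩
        · rw [e, e]
          simp only [Option.elim, List.getD_eq_getElem?_getD, List.getElem?_map]
          rcases hi : P[i]? with _ | p
          · exact ⟨by simp [ih1], by simpa using ih2⟩
          · have hp : p ∈ P := List.mem_of_getElem? hi
            simp only [Option.map_some, Option.getD_some]
            exact ⟨by rw [hmul _ _ (hP p hp) ih2, ih1, hfix p hp], cmul (hP p hp) ih2⟩
    obtain ⟨d, hd, hdP, hdx⟩ := hlev (ψ x.1) (hmap x.1 hxα) (hR x.1 hxα hxR) (fun W _ => by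
      obtain ⟨h1, h2⟩ := hval W
      rw [← h1]
      exact ⟨fun h => hinj _ _ h2 c1 (h.trans hone.symm), fun h => by rw [h, hone]⟩) fun V hmem => by
      obtain ⟨h1, h2⟩ := hval V
      rw [← h1]
      exact hR _ h2 (hV V hmem)
    have hd' : d⁻¹ * α = α * d⁻¹ := by
      calc d⁻¹ * α = d⁻¹ * (α * d) * d⁻¹ := by group
        _ = α * d⁻¹ := by rw [← hd]; group
    obtain ⟨d', hd'α, hd'P⟩ := exists_inner hroot l (P ++ [x]) (fun y => d⁻¹ * ψ y * d) hl
      (fun p hp => by
        rcases List.mem_append.1 hp with h | h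
        · exact hP p h
        · rw [List.mem_singleton.1 h]; exact hxα)
      (fun y hy => cmul (cmul hd' (hmap y hy)) hd)
      (fun y z hy hz => by rw [hmul y z hy hz]; group)
      (fun y z hy hz e => hinj y z hy hz (mul_left_cancel (mul_right_cancel e)))
      (fun y hy hr => by simpa using hroot d⁻¹ _ (hR y hy hr))
      (fun p hp => by
        rcases List.mem_append.1 hp with h | h
        · show d⁻¹ * ψ p.1 * d = p.2
          rw [hfix p h]
          nth_rw 1 [← hdP p h]
          group
        · show d⁻¹ * ψ p.1 * d = p.2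
          rw [List.mem_singleton.1 h, ← hdx]
          group)
    refine ⟨d * d', cmul hd hd'α, fun p hp => ?_⟩
    have h := hd'P p (by simpa [List.append_assoc] using hp)
    calc ψ p.1 = d * (d⁻¹ * ψ p.1 * d) * d⁻¹ := by group
      _ = d * d' * p.2 * (d * d')⁻¹ := by rw [h]; group

end Cfsg.Agent.Co2Type.Rigid
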