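import Mathlib.Algebra.Group.Commute.Basic
import Mathlib.Tactic.Group
import Cfsg.Agent.Lib.Co2Type.Defs

/-!
Words of a frame: moving codes through the swap, conjugation along a word, rotation of a loop.
-/

set_option autoImplicit false

namespace Cfsg.Agent.Co2Type

variable {C₀ : Type*} [Group C₀] {τ α : C₀} {P : List (C₀ × C₀)} {G : Type*} [Group G]
  (F : Frame C₀ τ α P G)

theorem Frame.n_inv : F.n⁻¹ = F.n :=
  inv_eq_of_mul_eq_one_left F.n_sq

theorem Frame.ev_single (h : C₀) : F.ev [h] = F.φ h := rfl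

theorem Frame.ev_cons (h g : C₀) (l : List C₀) : F.ev (h :: g :: l) = F.φ h * F.n * F.ev (g :: l) :=
  rfl

/-- Two words glued at one letter. -/
theorem Frame.ev_mul : ∀ (l : List C₀) (h g : C₀) (l' : List C₀),
    F.ev (l ++ [h]) * F.ev (g :: l') = F.ev (l ++ (h * g) :: l')
  | [], h, g, [] => by simp [Frame.ev]
  | [], h, g, g' :: l' => by simp only [List.nil_append, Frame.ev_cons, Frame.ev_single, map_mul, mul_assoc]
  | [a], h, g, l' => by
    rw [List.singleton_append, List.singleton_append, Frame.ev_cons, Frame.ev_cons, mul_assoc,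
      show F.ev [h] = F.ev ([] ++ [h]) from rfl, Frame.ev_mul [] h g l']
    rfl
  | a :: b :: l, h, g, l' => by
    rw [List.cons_append, List.cons_append, List.cons_append, List.cons_append, Frame.ev_cons,
      Frame.ev_cons, mul_assoc, ← List.cons_append, Frame.ev_mul (b :: l) h g l', List.cons_append]

/-- The swap twice is no letter. -/
theorem Frame.ev_cancel (h g : C₀) (l : List C₀) : F.ev (h :: 1 :: g :: l) = F.ev ((h * g) :: l) := by
  rw [Frame.ev_cons, Frame.ev_cons, map_one, one_mul, mul_assoc, ← mul_assoc F.n F.n, F.n_sq, one_mul,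
    show F.φ h = F.ev ([] ++ [h]) from rfl, Frame.ev_mul, List.nil_append]

/-- The inverse of a word. -/
theorem Frame.ev_inv : ∀ l : List C₀, (F.ev l)⁻¹ = F.ev (l.reverse.map (·⁻¹))
  | [] => by simp [Frame.ev]
  | [h] => by simp [Frame.ev]
  | h :: g :: l => by
    rw [Frame.ev_cons, mul_inv_rev, mul_inv_rev, Frame.ev_inv (g :: l), F.n_inv, ← map_inv,
      List.reverse_cons (a := h), List.map_append, List.map_singleton, List.reverse_cons, List.map_append,
      List.map_singleton,
      show F.n * F.φ h⁻¹ = F.ev [1, h⁻¹] by rw [Frame.ev_cons, Frame.ev_single, map_one, one_mul],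
      Frame.ev_mul, mul_one, List.append_assoc, List.singleton_append]

/-- A pair of codes passes the swap. -/
theorem Frame.n_move {e e' : C₀} (he : (e, e') ∈ pairGroup P) : F.n * F.φ e = F.φ e' * F.n := by
  suffices h : ∀ p ∈ pairGroup P, F.n * F.φ p.1 * F.n = F.φ p.2 by
    rw [← h _ he, mul_assoc, F.n_sq, mul_one]
  intro p hp
  induction hp using Subgroup.closure_induction with
  | mem p hp => exact F.n_act p hp
  | one => rw [Prod.fst_one, Prod.snd_one, map_one, mul_one, F.n_sq]
  | mul p q _ _ h₁ h₂ =>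
    rw [Prod.fst_mul, Prod.snd_mul, map_mul, map_mul, ← h₁, ← h₂]
    simp only [mul_assoc]
    rw [← mul_assoc F.n F.n, F.n_sq, one_mul]
  | inv p _ h =>
    rw [Prod.fst_inv, Prod.snd_inv, map_inv, map_inv, ← h, mul_inv_rev, mul_inv_rev, F.n_inv,
      mul_assoc]

include F in
/-- The images are determined. -/
theorem Frame.pair_unique {e e' e'' : C₀} (h₁ : (e, e') ∈ pairGroup P) (h₂ : (e, e'') ∈ pairGroup P) :
    e' = e'' :=
  F.inj (mul_right_cancel ((F.n_move h₁).symm.trans (F.n_move h₂)))

/-- Conjugation along a word: the first code is carried to the second. -/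
def Chased (P : List (C₀ × C₀)) : List C₀ → C₀ → C₀ → Prop
  | [], y, z => y = z
  | [h], y, z => h * y * h⁻¹ = z
  | h :: l, y, z => ∃ e e', Chased P l y e ∧ (e, e') ∈ pairGroup P ∧ h * e' * h⁻¹ = z

theorem Frame.ev_chased : ∀ (l : List C₀) (y z : C₀), Chased P l y z →
    F.ev l * F.φ y = F.φ z * F.ev l
  | [], y, z, h => by obtain rfl : y = z := h; simp [Frame.ev]
  | [h], y, z, e => by
    obtain rfl : h * y * h⁻¹ = z := e
    simp only [Frame.ev, map_mul, map_inv, inv_mul_cancel_right]
  | h :: g :: l, y, z, e => by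
    obtain ⟨e, e', hl, hp, rfl⟩ := e
    rw [Frame.ev_cons, mul_assoc (F.φ h * F.n), Frame.ev_chased (g :: l) y e hl, ← mul_assoc,
      mul_assoc (F.φ h), F.n_move hp]
    simp only [map_mul, map_inv, mul_assoc, inv_mul_cancel_left]

/-- A loop at the base vertex is a code. -/
theorem Frame.exists_code {l : List C₀} (hc : Chased P l τ τ) : ∃ k, F.ev l = F.φ k := by
  have h : F.ev l ∈ F.φ.range := by
    rw [F.range_eq, Subgroup.mem_centralizer_singleton_iff]
    exact F.ev_chased l τ τ hc
  obtain ⟨k, hk⟩ := h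
  exact ⟨k, hk.symm⟩

/-- The code of a loop centralises what it carries to itself. -/
theorem Frame.code_commute {l : List C₀} {k : C₀} (hk : F.ev l = F.φ k) {y : C₀}
    (hc : Chased P l y y) : k * y = y * k := by
  have := F.ev_chased l y y hc
  rw [hk, ← map_mul, ← map_mul] at this
  exact F.inj this

/-- Rotation of a loop by one step. -/
theorem Frame.ev_rotate {h g : C₀} {l : List C₀} {k k' : C₀}
    (hk : F.ev (g :: l) * F.ev [h, 1] = F.φ k) (hp : (k, k') ∈ pairGroup P) :
    F.ev (h :: g :: l) = F.φ (h * k' * h⁻¹) := by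
  rw [F.ev_cons h 1, F.ev_single, map_one, mul_one, ← eq_mul_inv_iff_mul_eq, mul_inv_rev,
    F.n_inv] at hk
  rw [Frame.ev_cons, hk, ← mul_assoc, ← mul_assoc, mul_assoc (F.φ h), F.n_move hp, map_mul, map_mul,
    map_inv]
  simp only [mul_assoc]
  rw [← mul_assoc F.n F.n, F.n_sq, one_mul]

end Cfsg.Agent.Co2Type
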