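import Cfsg.Agent.Lib.Co2Type.Word

/-!
Identities between words that follow by cancelling swaps, and words moved by a code.
-/

set_option autoImplicit false

namespace Cfsg.Agent.Co2Type

variable {C₀ : Type*} [Group C₀] {τ α : C₀} {P : List (C₀ × C₀)} {G : Type*} [Group G]
  (F : Frame C₀ τ α P G)

/-- Prepend a letter, cancelling a pair of swaps around a trivial letter. -/
def push [DecidableEq C₀] (h : C₀) : List C₀ → List C₀
  | x :: g :: l => if x = 1 then (h * g) :: l else h :: x :: g :: l
  | l => h :: l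

/-- The word without trivial inner letters. -/
def red [DecidableEq C₀] : List C₀ → List C₀
  | [] => []
  | [h] => [h]
  | h :: g :: l => push h (red (g :: l))

/-- Two words multiplied at their ends. -/
def glue : List C₀ → List C₀ → List C₀
  | [], l => l
  | [h], g :: l => (h * g) :: l
  | [h], [] => [h]
  | h :: g :: l, l' => h :: glue (g :: l) l'

theorem Frame.ev_push [DecidableEq C₀] (h : C₀) :
    ∀ l : List C₀, l ≠ [] → F.ev (push h l) = F.φ h * F.n * F.ev l
  | [], hl => absurd rfl hl
  | [x], _ => rfl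
  | x :: g :: l, _ => by
    by_cases hx : x = 1
    · rw [push, if_pos hx, hx, ← F.ev_cancel, Frame.ev_cons]
    · rw [push, if_neg hx]
      rfl

theorem push_ne_nil [DecidableEq C₀] (h : C₀) : ∀ l : List C₀, push h l ≠ []
  | [] => by simp [push]
  | [x] => by simp [push]
  | x :: g :: l => by rw [push]; split <;> simp

theorem red_ne_nil [DecidableEq C₀] : ∀ {l : List C₀}, l ≠ [] → red l ≠ []
  | [], h => absurd rfl h
  | [_], _ => by simp [red]
  | _ :: _ :: _, _ => push_ne_nil _ _

theorem Frame.ev_red [DecidableEq C₀] : ∀ l : List C₀, F.ev (red l) = F.ev l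
  | [] => rfl
  | [_] => rfl
  | h :: g :: l => by
    rw [red, F.ev_push h _ (red_ne_nil (List.cons_ne_nil g l)), Frame.ev_red (g :: l), Frame.ev_cons]

theorem Frame.ev_glue : ∀ l l' : List C₀, F.ev (glue l l') = F.ev l * F.ev l'
  | [], l' => by simp [glue, Frame.ev]
  | [h], [] => by simp [glue, Frame.ev]
  | [h], g :: l => (F.ev_mul [] h g l).symm
  | h :: g :: l, l' => by
    rw [glue, F.ev_cons h g l, mul_assoc (F.φ h * F.n), ← Frame.ev_glue (g :: l) l']
    rcases hgl : glue (g :: l) l' with _ | ⟨x, xs⟩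
    · exfalso
      rcases l with _ | ⟨b, l⟩
      · rcases l' with _ | ⟨c, l'⟩ <;> simp [glue] at hgl
      · simp [glue] at hgl
    · rw [F.ev_cons]

/-- Two products of words agree when their reduced forms do. -/
theorem Frame.ev_eq_of_red [DecidableEq C₀] {l l' : List C₀} (h : red l = red l') :
    F.ev l = F.ev l' := by
  rw [← F.ev_red l, h, F.ev_red l']

/-- The witnesses that a code moved through a word gives another word. -/
def Moved (P : List (C₀ × C₀)) : List C₀ → List C₀ → C₀ → C₀ → List (C₀ × C₀) → Prop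
  | [h], [k], d, dc, [] => h * d = dc * k
  | h :: l, k :: l', d, dc, e :: es =>
    e ∈ pairGroup P ∧ h * e.2 = dc * k ∧ Moved P l l' d e.1 es
  | _, _, _, _, _ => False

theorem Frame.ev_moved : ∀ (l l' : List C₀) (d dc : C₀) (es : List (C₀ × C₀)), Moved P l l' d dc es →
    F.ev l * F.φ d = F.φ dc * F.ev l'
  | [h], [k], d, dc, [], hm => by
    rw [Frame.ev_single, Frame.ev_single, ← map_mul, ← map_mul]
    exact congrArg F.φ hm
  | h :: g :: l, k :: k' :: l', d, dc, (e, e') :: es, ⟨he, hq, hm⟩ => by
    rw [Frame.ev_cons, Frame.ev_cons, mul_assoc (F.φ h * F.n), Frame.ev_moved (g :: l) (k' :: l') d e es hm,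
      ← mul_assoc, mul_assoc (F.φ h), F.n_move he, ← mul_assoc, ← map_mul, hq, map_mul]
    simp only [mul_assoc]
  | [_], _ :: _ :: _, _, _, _ :: es, ⟨_, _, hm⟩ => by
    cases es <;> simp [Moved] at hm
  | _ :: _ :: _, [_], _, _, _ :: es, ⟨_, _, hm⟩ => by
    cases es <;> simp [Moved] at hm
  | [_], [_], _, _, _ :: es, ⟨_, _, hm⟩ => by
    cases es <;> simp [Moved] at hm

end Cfsg.Agent.Co2Type
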