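import Cfsg.Agent.Lib.Co2Type.End.Base
import Cfsg.Agent.Lib.Co2Type.Code.Card
import Cfsg.Agent.Lib.LargeExtra.MonsterBaby.Main
import Cfsg.Agent.Lib.LeechAut.Conway23
import Cfsg.Agent.Lib.PcMult.Leech.Stab

/-!
A frame in the second Conway group generates it: the subgroup of the frame moves the involution to more than
`2475` conjugates, so its index is less than `23`.
-/

set_option autoImplicit false
set_option maxRecDepth 100000

namespace Cfsg.Agent.Co2Type.Model

open Code

theorem card_spor : Nat.card ↥Cfsg.Spor.Co2 = 42305421312000 := by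
  show Nat.card (Cfsg.Agent.Lib.PcMult.Leech.stabP Cfsg.Spor.leechU) = _
  rw [Nat.card_congr (Cfsg.Agent.Lib.PcMult.Leech.stabEquiv Cfsg.Spor.leechU).toEquiv,
    LeechAut.Conway23.card_stab32 (v := Cfsg.Spor.leechU)
      (show Cfsg.sqNorm Cfsg.Spor.vecU = 32 by decide +kernel)]

/-- The root moves the edge. -/
noncomputable def moves (i : ℕ) : Bool :=
  !Roots.beqC (mulC (Roots.rootC i) (cw alphaW)) (mulC (cw alphaW) (Roots.rootC i))

/-- The roots moving the edge. -/
noncomputable def moved : List ℕ := (List.range 2269).filter moves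

theorem moved_card : Nat.ble 207 moved.length = true := by decide +kernel

/-- A subgroup of small index in a simple group whose order is divisible by a larger prime. -/
theorem eq_top_of_index {G : Type*} [Group G] [Finite G] [IsSimpleGroup G] {p : ℕ} (hp : p.Prime)
    (hdvd : p ∣ Nat.card G) {M : Subgroup G} (hM : M.index < p) : M = ⊤ := by
  classical
  by_contra hne
  haveI : Fintype (G ⧸ M) := Fintype.ofFinite _
  have hker : (MulAction.toPermHom G (G ⧸ M)).ker = ⊥ := by
    rcases (MulAction.toPermHom G (G ⧸ M)).normal_ker.eq_bot_or_eq_top with h | h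
    · exact h
    · refine absurd ((Subgroup.eq_top_iff' _).2 fun g => ?_) hne
      have : g ∈ (MulAction.toPermHom G (G ⧸ M)).ker := h ▸ Subgroup.mem_top g
      rw [MonoidHom.mem_ker] at this
      have h1 : g • ((1 : G) : G ⧸ M) = ((1 : G) : G ⧸ M) := by
        have := congrArg (fun e : Equiv.Perm (G ⧸ M) => e ((1 : G) : G ⧸ M)) this
        simpa using this
      rw [MulAction.Quotient.smul_mk, smul_eq_mul, mul_one, QuotientGroup.eq, mul_one] at h1
      simpa using inv_mem h1
  have h := hdvd.trans (Subgroup.card_dvd_of_injective _ ((MonoidHom.ker_eq_bot_iff _).1 hker))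
  rw [Nat.card_perm] at h
  have := (Nat.Prime.dvd_factorial hp).1 h
  rw [Subgroup.index] at hM
  omega

/-- The frame generates. -/
theorem closure_eq_top (F : Frame C0 Code.tau Code.alpha Code.pairs ↥Cfsg.Spor.Co2) :
    Subgroup.closure (insert F.n (Set.range F.φ)) = ⊤ := by
  classical
  set M := Subgroup.closure (insert F.n (Set.range F.φ))
  obtain ⟨hs, h23⟩ := Cfsg.Agent.MonsterBaby.co2_simple
  haveI := hs
  haveI : Finite ↥Cfsg.Spor.Co2 := Nat.finite_of_card_ne_zero (by rw [card_spor]; norm_num)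
  haveI : Finite C0 := Nat.finite_of_card_ne_zero (by rw [card_C0]; norm_num)
  refine eq_top_of_index (by norm_num) h23 ?_
  have I : End.Inside F M := by
    refine ⟨?_, Subgroup.subset_closure (Set.mem_insert _ _)⟩
    rintro _ ⟨c, rfl⟩
    exact Subgroup.subset_closure (Set.mem_insert_of_mem _ ⟨c, rfl⟩)
  let O := {x : ↥Cfsg.Spor.Co2 // ∃ m ∈ M, m * F.φ Code.tau * m⁻¹ = x}
  choose c hc _ using fun i : Fin 2269 => Roots.exists_code i.1 i.2
  have hO : ∀ i, ∃ m ∈ M, m * F.φ Code.tau * m⁻¹ = F.φ (c i) := fun i =>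
    I.root (Roots.root_iff.2 ⟨i.1, i.2, hc i⟩)
  have hO' : ∀ i, ∃ m ∈ M, m * F.φ Code.tau * m⁻¹ = F.n * F.φ (c i) * F.n := fun i => by
    obtain ⟨m, hm, e⟩ := hO i
    refine ⟨F.n * m, mul_mem I.n_mem hm, ?_⟩
    rw [← e, mul_inv_rev, F.n_inv]
    group
  have hmv : ∀ k : Fin moved.length, moved[k.1] < 2269 ∧ moves moved[k.1] = true := fun k => by
    have h := List.mem_filter.1 (List.getElem_mem k.2 : moved[k.1] ∈ (List.range 2269).filter moves)
    exact ⟨List.mem_range.1 h.1, h.2⟩
  let f : Fin 2269 ⊕ Fin moved.length → O := Sum.elim (fun i => ⟨_, hO i⟩)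
    fun k => ⟨_, hO' ⟨_, (hmv k).1⟩⟩
  have hinj : Function.Injective c := fun i j e =>
    Fin.ext (Roots.rootC_inj i.2 j.2 (by rw [← hc i, ← hc j, e]))
  have hsep : ∀ i (k : Fin moved.length), F.φ (c i) ≠ F.n * F.φ (c ⟨_, (hmv k).1⟩) * F.n := fun i k e => by
    set r := c ⟨_, (hmv k).1⟩ with hr
    have hcomm : F.φ (c i) * F.φ Code.tau = F.φ Code.tau * F.φ (c i) := by
      have h : F.φ (c i) ∈ Subgroup.centralizer ({F.φ Code.tau} : Set _) := F.range_eq ▸ ⟨c i, rfl⟩
      exact Subgroup.mem_centralizer_singleton_iff.1 h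
    have h2 : r * Code.alpha = Code.alpha * r := F.inj (by
      have hn2 : ∀ x, F.n * (F.n * x) = x := fun x => by rw [← mul_assoc, F.n_sq, one_mul]
      rw [e, ← mul_right_inj F.n] at hcomm
      rw [map_mul, map_mul, ← F.n_tau]
      have h4 := congrArg (· * F.n) hcomm
      simp only [mul_assoc, hn2, F.n_sq, mul_one] at h4 ⊢
      exact h4)
    have hm := (hmv k).2
    rw [moves, Bool.not_eq_true'] at hm
    have h3 : mulC (Roots.rootC moved[k.1]) (cw alphaW) = mulC (cw alphaW) (Roots.rootC moved[k.1]) := by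
      rw [← hc ⟨_, (hmv k).1⟩, cw_eq, ← code_el, ← code_mul, ← code_mul]
      exact congrArg code h2
    have hrefl : ∀ l : List ℕ, Roots.beqL l l = true := fun l => by
      induction l with
      | nil => rfl
      | cons a l ih =>
        show (Nat.beq a a && Roots.beqL l l) = true
        rw [Nat.beq_refl, ih]
        rfl
    rw [h3, Roots.beqC, Nat.beq_refl, hrefl] at hm
    exact Bool.noConfusion hm
  have hf : Function.Injective f := by
    rintro (i | k) (j | l) e <;> have e' := congrArg Subtype.val e <;> simp only [f, Sum.elim_inl, Sum.elim_inr] at e'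
    · rw [hinj (F.inj e')]
    · exact absurd e' (hsep i l)
    · exact absurd e'.symm (hsep j k)
    · have h1 := congrArg Fin.val (hinj (F.inj (mul_left_cancel (mul_right_cancel e'))))
      rw [Fin.ext ((List.nodup_range.filter moves).getElem_inj_iff.1 h1)]
  have hOcard : 2476 ≤ Nat.card O := by
    have h := Nat.card_le_card_of_injective f hf
    rw [Nat.card_sum, Nat.card_fin, Nat.card_fin] at h
    have := Nat.ble_eq.mp moved_card
    omega
  have hM : Nat.card O * Nat.card C0 ≤ Nat.card M := by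
    rw [← Nat.card_prod]
    choose m hm he using fun x : O => x.2
    refine Nat.card_le_card_of_injective
      (fun p => (⟨m p.1 * F.φ p.2, mul_mem (hm p.1) (I.mem p.2)⟩ : M)) ?_
    rintro ⟨x, a⟩ ⟨y, b⟩ e
    have e' : m x * F.φ a = m y * F.φ b := congrArg Subtype.val e
    have key : ∀ (x : O) (a : C0), m x * F.φ a * F.φ Code.tau * (m x * F.φ a)⁻¹ = x.1 := fun x a => by
      have h : F.φ a ∈ Subgroup.centralizer ({F.φ Code.tau} : Set _) := F.range_eq ▸ ⟨a, rfl⟩
      calc m x * F.φ a * F.φ Code.tau * (m x * F.φ a)⁻¹ = m x * (F.φ a * F.φ Code.tau) * (F.φ a)⁻¹ * (m x)⁻¹ := by group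
        _ = m x * F.φ Code.tau * (m x)⁻¹ := by rw [Subgroup.mem_centralizer_singleton_iff.1 h]; group
        _ = x.1 := he x
    obtain rfl : x = y := Subtype.ext (by rw [← key x a, ← key y b, e'])
    rw [F.inj (mul_left_cancel e')]
  rw [card_C0] at hM
  have hcardM := M.index_mul_card
  rw [card_spor] at hcardM
  by_contra hlt
  have h1 : 23 * Nat.card M ≤ 42305421312000 :=
    hcardM ▸ Nat.mul_le_mul_right _ (not_lt.1 hlt)
  have h2 : 2476 * 743178240 ≤ Nat.card M := (Nat.mul_le_mul_right _ hOcard).trans hM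
  omega

end Cfsg.Agent.Co2Type.Model
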