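import Cfsg.Agent.Lib.Co2Type.Code.Edge.Main
import Cfsg.Agent.Lib.Co2Type.Code.Triangle
import Cfsg.Agent.Lib.Co2Type.Cert.Hom
import Cfsg.Agent.Lib.Co2Type.End.Main
import Cfsg.Agent.Lib.Co2Type.Model
import Cfsg.Agent.Lib.LargeExtra.MonsterBaby.Main

/-!
A group with the coordinates and the roots of the centraliser is isomorphic to the second Conway group:
both get frames, the certificate embeds the model, the ending shows that the embedding is onto.
-/

set_option autoImplicit false

namespace Cfsg.Agent.Co2Type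

/-- Coordinates of the centraliser in which the conjugates of the involution are the roots. -/
def HasCoords (G : Type*) [Group G] : Prop :=
  ∃ φ : Code.C0 →* G, Function.Injective φ ∧
    φ.range = Subgroup.centralizer ({φ Code.tau} : Set G) ∧
    ∀ c, (∃ g, g * φ Code.tau * g⁻¹ = φ c) ↔ Code.Root c

/-- The recognition from coordinates, given coordinates of the model. -/
theorem nonempty_iso {G : Type*} [Group G] [Finite G] (hG : HasCoords G) (hM : HasCoords ↥Cfsg.Spor.Co2) :
    Nonempty (G ≃* ↥Cfsg.Spor.Co2) := by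
  obtain ⟨φ, hinj, hrange, hroot⟩ := hG
  obtain ⟨φ₂, hinj₂, hrange₂, hroot₂⟩ := hM
  haveI : IsSimpleGroup ↥Cfsg.Spor.Co2 := Cfsg.Agent.MonsterBaby.co2_simple.1
  obtain ⟨F, hF⟩ := Code.edgeCode.exists_frame φ hinj hrange hroot
  obtain ⟨F₂, -⟩ := Code.edgeCode.exists_frame φ₂ hinj₂ hrange₂ hroot₂
  obtain ⟨f, hf, hfφ, hfn⟩ := Cert.exists_injective_hom F F₂ (Code.squares_triRel F) (Code.squares_triRel F₂)
    Model.card_spor (Model.closure_eq_top F₂)
  have hC : F.φ.range ≤ f.range := by
    rintro _ ⟨c, rfl⟩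
    exact ⟨F₂.φ c, DFunLike.congr_fun hfφ c⟩
  let e : f.range ≃* ↥Cfsg.Spor.Co2 := (MonoidHom.ofInjective hf).symm
  have htop := End.eq_top F f.range hC ⟨F₂.n, hfn⟩ e (by rw [hF]; exact hroot)
  exact ⟨((MulEquiv.subgroupCongr htop).trans Subgroup.topEquiv).symm.trans e⟩

end Cfsg.Agent.Co2Type
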