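import Cfsg.Agent.Lib.OctadInv.Co2Cent
import Cfsg.Agent.Lib.PLocal.Cores
import Cfsg.Agent.Lib.LargeExtra.MonsterBaby.Main

/-!
The second Conway group meets the hypotheses of the recognition: the centraliser of its involution is
2-constrained, since a monomial element moves a sign change of the fixer other than by the centre.
-/

set_option autoImplicit false
set_option maxRecDepth 20000

namespace Cfsg.Agent.Co2Type.Co2Hyps

open Cfsg Cfsg.Agent.Golay.Basic Cfsg.Agent.Golay.Cert Cfsg.Agent.Leech.Basic Cfsg.Agent.LeechAut.Basic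
  Cfsg.Agent.LeechAut.Cross Cfsg.Agent.OctadInv.Lattice Cfsg.Agent.OctadInv.Elements
  Cfsg.Agent.OctadInv.Fixer Cfsg.Agent.OctadInv.Local
open scoped Pointwise

/-- A permutation of the octad stabiliser fixing the two points of the vector. -/
def tabC : ℕ := 570201146840939055847189821698183200

theorem tabC_ok : tabOK tabC = true := by decide +kernel

theorem tabC_O : imgTab tabC 12656663 = 12656663 := by decide +kernel

theorem tabC_local : ∀ k : Fin 8,
    Cfsg.Agent.Golay.M24.tabAt tabC (ix (o ((![0, 1, 6, 7, 2, 3, 4, 5] : Fin 8 → Fin 8) k))) = ix (o k) := by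
  decide +kernel

/-- A code word off the octad. -/
def cW : Finset GolayPt := maskSet 168928

/-- Its image. -/
def dW : Finset GolayPt := maskSet 3704512

theorem cW_code : cW ∈ codeSets := mem_supports_iff.2 (by decide +kernel)

theorem dW_code : dW ∈ codeSets := mem_supports_iff.2 (by decide +kernel)

theorem cW_disjoint : Disjoint cW O := by
  rw [disjoint_iff_mask, mask_O]
  decide +kernel

/-- The sign change. -/
noncomputable def xEl : Co0 := sign cW cW_code

theorem xEl_mem : xEl ∈ K := fun v hv => Subtype.ext (funext fun i => by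
  rw [xEl, sign_smul]
  by_cases hi : i ∈ cW
  · have hO : i ∉ O := Finset.disjoint_left.1 cW_disjoint hi
    simp [LeechAut.Basic.flip, mem_L.1 hv i hO]
  · simp [LeechAut.Basic.flip, hi])

/-- The monomial element. -/
noncomputable def gEl : Co0 := tabEl tabC tabC_ok

theorem gEl_v : gEl • OctadInv.Co2Cent.v = OctadInv.Co2Cent.v := by
  have hH : gEl ∈ H := tabEl_mem tabC_ok tabC_O
  refine ext_L ((hH _).2 OctadInv.Co2Cent.v_mem) OctadInv.Co2Cent.v_mem ?_
  rw [gEl, r_tabEl tabC_ok _ tabC_local, OctadInv.Co2Cent.r_v]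
  funext k
  fin_cases k <;> rfl

theorem conj_eq : gEl * xEl = sign dW dW_code * gEl := by
  refine ext' fun v => Subtype.ext (funext fun i => ?_)
  have hd : dW = tabPerm tabC • cW := mask_injective (by
    rw [← imgTab_mask (isTab_tabPerm tabC_ok)]
    decide +kernel)
  have hiff : (tabPerm tabC).symm i ∈ cW ↔ i ∈ dW := by
    rw [hd]
    have := Cfsg.Agent.Golay.M24.mem_smul_iff (tabPerm tabC) cW ((tabPerm tabC).symm i)
    rw [Equiv.apply_symm_apply] at this
    exact this.symm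
  rw [mul_smul, mul_smul, gEl, tabEl, mono_apply, xEl, sign_smul, sign_smul]
  simp only [LeechAut.Basic.flip, mono_apply, Finset.notMem_empty, if_false, hiff]

theorem sign_ne {c d : Finset GolayPt} (hc : c ∈ codeSets) (hd : d ∈ codeSets) {i : GolayPt} (h1 : i ∈ c)
    (h2 : i ∉ d) : sign c hc ≠ sign d hd := fun e => by
  have := congrArg (fun g : Co0 => ((g • frame i : leechLattice) : GolayPt → ℤ) i) e
  simp only [sign_smul, LeechAut.Basic.flip, h1, h2, if_true, if_false, frame_on] at this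
  omega

open OctadInv.Co2Cent in
/-- The centraliser does not act on its fixer by inner automorphisms. -/
theorem exists_outer : ∃ g x : C, x ∈ Cfsg.pCore 2 C ∧ g * x * g⁻¹ ≠ x ∧
    ((g * x * g⁻¹ : C) : G2) ≠ (x : G2) * t := by
  have hH : gEl ∈ H := tabEl_mem tabC_ok tabC_O
  obtain ⟨x, hx⟩ := K_mem_C xEl_mem
  let g : C := ⟨⟨gEl, gEl_v⟩, mem_C.2 hH⟩
  have hxk : x ∈ rep.ker := by
    have : kerEquiv ⟨xEl, xEl_mem⟩ = (kerEquiv ⟨xEl, xEl_mem⟩) := rfl
    have h2 : ((kerEquiv ⟨xEl, xEl_mem⟩ : rep.ker) : C) = x := Subtype.ext (Subtype.ext hx.symm)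
    exact h2 ▸ SetLike.coe_mem _
  have hval : (((g * x * g⁻¹ : C) : G2) : Co0) = sign dW dW_code := by
    show gEl * ((x : G2) : Co0) * gEl⁻¹ = _
    rw [hx, conj_eq, mul_inv_cancel_right]
  refine ⟨g, x, pCore_eq ▸ hxk, fun e => ?_, fun e => ?_⟩
  · have := congrArg (fun y : C => ((y : G2) : Co0)) e
    rw [hval, hx] at this
    exact sign_ne dW_code cW_code (i := pt 10) (by decide +kernel) (by decide +kernel) this
  · have := congrArg (fun y : G2 => (y : Co0)) e
    rw [hval] at this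
    change _ = ((x : G2) : Co0) * zK at this
    rw [hx, xEl, zK, LeechAut.Co1.sign_mul] at this
    exact sign_ne (symmDiff_mem_supports cW_code Oc_code) dW_code (i := pt 3) (by decide +kernel)
      (by decide +kernel) this.symm

/-- An element not acting as an inner automorphism forces the 2-constraint. -/
theorem constrained_of {G : Type*} [Group G] [Finite G] {t : G} (ht : orderOf t = 2)
    (hQ : Cfsg.IsExtraspecial 2 ↥(Cfsg.pCore 2 ↥(Subgroup.centralizer ({t} : Set G))))
    (hcard : Nat.card ↥(Cfsg.pCore 2 ↥(Subgroup.centralizer ({t} : Set G))) = 2 ^ 9)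
    (e : ↥(Subgroup.centralizer ({t} : Set G)) ⧸ Cfsg.pCore 2 ↥(Subgroup.centralizer ({t} : Set G)) ≃*
      Matrix.symplecticGroup (Fin 3) (ZMod 2))
    (hout : ∃ g x : ↥(Subgroup.centralizer ({t} : Set G)),
      x ∈ Cfsg.pCore 2 ↥(Subgroup.centralizer ({t} : Set G)) ∧ g * x * g⁻¹ ≠ x ∧
        ((g * x * g⁻¹ : ↥(Subgroup.centralizer ({t} : Set G))) : G) ≠ (x : G) * t) :
    Cfsg.IsPConstrained 2 ↥(Subgroup.centralizer ({t} : Set G)) := by
  haveI : Fact (Nat.Prime 2) := ⟨Nat.prime_two⟩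
  haveI := OctadInv.Co2Cent.simple_sp
  set C := Subgroup.centralizer ({t} : Set G)
  set P := Cfsg.pCore 2 ↥C
  let π : ↥C →* Matrix.symplecticGroup (Fin 3) (ZMod 2) := e.toMonoidHom.comp (QuotientGroup.mk' P)
  have hsurj : Function.Surjective π := e.surjective.comp (QuotientGroup.mk'_surjective P)
  have hker : ∀ c : ↥C, π c = 1 ↔ c ∈ P := fun c => by
    rw [← QuotientGroup.eq_one_iff (N := P)]; exact e.map_eq_one_iff
  have hP2 : IsPGroup 2 ↥P := PLocal.Cores.isPGroup_pCore
  -- elements fixing `P` lie in `P`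
  have hcent : Subgroup.centralizer (P : Set ↥C) ≤ P := by
    haveI : (Subgroup.centralizer (P : Set ↥C)).Normal := Subgroup.normal_centralizer
    haveI hn : ((Subgroup.centralizer (P : Set ↥C)).map π).Normal := Subgroup.Normal.map inferInstance π hsurj
    rcases IsSimpleGroup.eq_bot_or_eq_top_of_normal _ hn with h | h
    · intro c hc
      exact (hker c).1 (Subgroup.mem_bot.1 (h ▸ Subgroup.mem_map_of_mem π hc))
    exfalso
    obtain ⟨g, x, hx, h1, h2⟩ := hout
    obtain ⟨y, hy, hyg⟩ := (h ▸ Subgroup.mem_top (π g) : π g ∈ (Subgroup.centralizer (P : Set ↥C)).map π)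
    have hq : g * y⁻¹ ∈ P := (hker _).1 (by rw [map_mul, map_inv, hyg, mul_inv_cancel])
    set q : ↥P := ⟨g * y⁻¹, hq⟩
    have hconj : g * x * g⁻¹ = (q : ↥C) * x * (q : ↥C)⁻¹ := by
      have hyx : x * y = y * x := Subgroup.mem_centralizer_iff.1 hy x hx
      show g * x * g⁻¹ = g * y⁻¹ * x * (g * y⁻¹)⁻¹
      calc g * x * g⁻¹ = g * y⁻¹ * (y * x) * g⁻¹ := by group
        _ = g * y⁻¹ * (x * y) * g⁻¹ := by rw [hyx]
        _ = _ := by group
    -- the commutator lies in the centre, which is generated by `t`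
    have htC : t ∈ C := Subgroup.mem_centralizer_singleton_iff.2 rfl
    have htc : (⟨t, htC⟩ : ↥C) ∈ Subgroup.center ↥C :=
      Subgroup.mem_center_iff.2 fun v => Subtype.ext (Subgroup.mem_centralizer_singleton_iff.1 v.2)
    have htP : (⟨t, htC⟩ : ↥C) ∈ P := by
      haveI : (Subgroup.zpowers (⟨t, htC⟩ : ↥C)).Normal := ⟨fun w hw u => by
        rw [Subgroup.mem_center_iff.1 ((Subgroup.zpowers_le.2 htc) hw) u, mul_inv_cancel_right]; exact hw⟩
      exact PLocal.Cores.le_pCore (IsPGroup.of_card (n := 1)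
        (by rw [Nat.card_zpowers, ← Subgroup.orderOf_coe, ht, pow_one])) (Subgroup.mem_zpowers _)
    have hz : Nat.card (Subgroup.center ↥P) = 2 := hQ.2
    set z : ↥P := ⟨_, htP⟩
    have hzc : z ∈ Subgroup.center ↥P :=
      Subgroup.mem_center_iff.2 fun v => Subtype.ext (Subgroup.mem_center_iff.1 htc v)
    have hcomm : q * ⟨x, hx⟩ * q⁻¹ * (⟨x, hx⟩ : ↥P)⁻¹ ∈ Subgroup.center ↥P := by
      rw [← hQ.1.2.2, ← commutatorElement_def]
      exact Subgroup.commutator_mem_commutator (Subgroup.mem_top _) (Subgroup.mem_top _)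
    obtain ⟨a, b, hab, huniv⟩ := Nat.card_eq_two_iff.1 hz
    have hone : ∀ w : Subgroup.center ↥P, w = 1 ∨ w = ⟨z, hzc⟩ := fun w => by
      have hne : (⟨z, hzc⟩ : Subgroup.center ↥P) ≠ 1 := fun h0 => by
        have h1 : t = 1 := congrArg (fun w : Subgroup.center ↥P => (((w : ↥P) : ↥C) : G)) h0
        rw [h1, orderOf_one] at ht
        omega
      have m := fun w : Subgroup.center ↥P => (huniv.ge (Set.mem_univ w) : w ∈ ({a, b} : Set _))
      by_contra hw
      push Not at hw
      rcases m w with e1 | e1 <;> rcases m 1 with h0 | h0 <;> rcases m ⟨z, hzc⟩ with h3 | h3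
      all_goals first
        | exact hw.1 (e1.trans h0.symm)
        | exact hw.2 (e1.trans h3.symm)
        | exact hne (h3.trans h0.symm)
    rcases hone ⟨_, hcomm⟩ with h0 | h0
    · refine h1 ?_
      have := congrArg (fun w : Subgroup.center ↥P => ((w : ↥P) : ↥C)) h0
      simp only [Subgroup.coe_mul, InvMemClass.coe_inv, OneMemClass.coe_one] at this
      rw [hconj]
      exact mul_inv_eq_one.1 this
    · refine h2 ?_
      have := congrArg (fun w : Subgroup.center ↥P => ((w : ↥P) : ↥C)) h0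
      simp only [Subgroup.coe_mul, InvMemClass.coe_inv] at this
      rw [mul_inv_eq_iff_eq_mul] at this
      rw [hconj, this]
      show t * (x : G) = (x : G) * t
      exact (Subgroup.mem_centralizer_singleton_iff.1 x.2).symm
  -- the constrained predicate
  have hO : Cfsg.pPrimeCore 2 ↥C = ⊥ := by
    have hcop : (Nat.card ↥(Cfsg.pPrimeCore 2 ↥C)).Coprime 2 := PLocal.Cores.coprime_card_pPrimeCore
    have hle : Cfsg.pPrimeCore 2 ↥C ≤ P := by
      haveI hn : ((Cfsg.pPrimeCore 2 ↥C).map π).Normal := Subgroup.Normal.map inferInstance π hsurj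
      rcases IsSimpleGroup.eq_bot_or_eq_top_of_normal _ hn with h | h
      · intro c hc
        exact (hker c).1 (Subgroup.mem_bot.1 (h ▸ Subgroup.mem_map_of_mem π hc))
      · exfalso
        have h1 : Nat.card ↥((Cfsg.pPrimeCore 2 ↥C).map π) ∣ Nat.card ↥(Cfsg.pPrimeCore 2 ↥C) :=
          Subgroup.card_map_dvd _ _
        rw [h, Subgroup.card_top, OctadInv.Co2Cent.card_sp] at h1
        exact absurd (Nat.eq_one_of_dvd_coprimes hcop ((show 2 ∣ 1451520 by norm_num).trans h1) dvd_rfl) (by norm_num)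
    have h1 : Nat.card ↥(Cfsg.pPrimeCore 2 ↥C) ∣ 2 ^ 9 := hcard ▸ Subgroup.card_dvd_of_le hle
    exact Subgroup.card_eq_one.1 (Nat.eq_one_of_dvd_coprimes (hcop.pow_right 9) dvd_rfl h1)
  have hW : Cfsg.pPrimePCore 2 ↥C = P := by
    refine le_antisymm ?_ PLocal.Cores.pCore_le_pPrimePCore
    refine PLocal.Cores.le_pCore ?_
    obtain ⟨k, hk⟩ := PLocal.Cores.relIndex_pPrimePCore (G := ↥C) (p := 2)
    rw [hO, Subgroup.relIndex_bot_left] at hk
    exact IsPGroup.of_card hk
  intro S c hc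
  rw [hW]
  have htop : (S : Subgroup ↥(Cfsg.pPrimePCore 2 ↥C)) = ⊤ := by
    refine S.3 ?_ le_top |>.symm
    exact ((hW ▸ hP2 : IsPGroup 2 ↥(Cfsg.pPrimePCore 2 ↥C))).of_equiv Subgroup.topEquiv.symm
  refine hcent (Subgroup.mem_centralizer_iff.2 fun v hv => Subgroup.mem_centralizer_iff.1 hc v ?_)
  exact ⟨⟨v, hW ▸ hv⟩, by rw [htop]; trivial, rfl⟩

/-- The second Conway group satisfies the hypotheses of the recognition. -/
theorem exists_involution : ∃ t : ↥Cfsg.Spor.Co2, orderOf t = 2 ∧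
    Cfsg.IsPConstrained 2 ↥(Subgroup.centralizer ({t} : Set ↥Cfsg.Spor.Co2)) ∧
    Cfsg.IsExtraspecial 2 ↥(Cfsg.pCore 2 ↥(Subgroup.centralizer ({t} : Set ↥Cfsg.Spor.Co2))) ∧
    Nat.card ↥(Cfsg.pCore 2 ↥(Subgroup.centralizer ({t} : Set ↥Cfsg.Spor.Co2))) = 2 ^ 9 ∧
    Nonempty (↥(Subgroup.centralizer ({t} : Set ↥Cfsg.Spor.Co2)) ⧸
      Cfsg.pCore 2 ↥(Subgroup.centralizer ({t} : Set ↥Cfsg.Spor.Co2)) ≃*
        Matrix.symplecticGroup (Fin 3) (ZMod 2)) := by
  obtain ⟨E⟩ := OctadInv.Co2Cent.nonempty_equiv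
  haveI := Cfsg.Agent.LeechAut.Cross.finite_Co0
  haveI : Finite OctadInv.Co2Cent.G2 := inferInstance
  haveI : Finite ↥Cfsg.Spor.Co2 := Finite.of_equiv _ E.symm.toEquiv
  haveI : Finite OctadInv.Co2Cent.C := inferInstance
  set u := E.symm OctadInv.Co2Cent.t with hu
  have hc : ∀ g : ↥Cfsg.Spor.Co2, g ∈ Subgroup.centralizer ({u} : Set ↥Cfsg.Spor.Co2) ↔
      E g ∈ OctadInv.Co2Cent.C := fun g => by
    rw [Subgroup.mem_centralizer_singleton_iff, Subgroup.mem_centralizer_singleton_iff,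
      ← E.injective.eq_iff, map_mul, map_mul, hu, MulEquiv.apply_symm_apply]
  let F : ↥(Subgroup.centralizer ({u} : Set ↥Cfsg.Spor.Co2)) ≃* OctadInv.Co2Cent.C :=
    { toFun := fun g => ⟨E g.1, (hc _).1 g.2⟩
      invFun := fun g => ⟨E.symm g.1, (hc _).2 (by rw [MulEquiv.apply_symm_apply]; exact g.2)⟩
      left_inv := fun g => Subtype.ext (E.symm_apply_apply _)
      right_inv := fun g => Subtype.ext (E.apply_symm_apply _)
      map_mul' := fun g h => Subtype.ext (map_mul E _ _) }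
  haveI : Fact (Nat.Prime 2) := ⟨Nat.prime_two⟩
  have hle : ∀ {A B : Type} [Group A] [Group B] [Finite A] [Finite B] (f : A ≃* B),
      (Cfsg.pCore 2 A).map f.toMonoidHom ≤ Cfsg.pCore 2 B := fun {A B} _ _ _ _ f =>
    haveI : ((Cfsg.pCore 2 A).map f.toMonoidHom).Normal := Subgroup.Normal.map inferInstance _ f.surjective
    PLocal.Cores.le_pCore (PLocal.Cores.isPGroup_pCore.map _)
  have hp : (Cfsg.pCore 2 _).map F.toMonoidHom = Cfsg.pCore 2 OctadInv.Co2Cent.C :=
    le_antisymm (hle F) fun g hg => ⟨F.symm g, hle F.symm ⟨g, hg, rfl⟩, F.apply_symm_apply g⟩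
  let P := (F.subgroupMap _).trans (MulEquiv.subgroupCongr hp)
  have hut : orderOf u = 2 := by
    rw [hu, ← OctadInv.Co2Cent.orderOf_t]
    exact orderOf_injective E.symm.toMonoidHom E.symm.injective _
  have hQ := Cfsg.Agent.LargeExtra.isExtraspecial_of_equiv (Cfsg.Agent.LargeExtra.isExtraspecial_of_equiv
    isExtraspecial_K (OctadInv.Co2Cent.kerEquiv.trans (MulEquiv.subgroupCongr OctadInv.Co2Cent.pCore_eq.symm))) P.symm
  have hcard : Nat.card ↥(Cfsg.pCore 2 ↥(Subgroup.centralizer ({u} : Set ↥Cfsg.Spor.Co2))) = 2 ^ 9 :=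
    (Nat.card_congr P.toEquiv).trans (by
      rw [Nat.card_congr (MulEquiv.subgroupCongr OctadInv.Co2Cent.pCore_eq).toEquiv, OctadInv.Co2Cent.card_ker])
  let e := ((QuotientGroup.congr _ _ F hp).trans (QuotientGroup.quotientMulEquivOfEq OctadInv.Co2Cent.pCore_eq)).trans
    (QuotientGroup.quotientKerEquivOfSurjective OctadInv.Co2Cent.rep OctadInv.Co2Cent.rep_surjective)
  refine ⟨u, hut, constrained_of hut hQ hcard e ?_, hQ, hcard, ⟨e⟩⟩
  obtain ⟨g, x, hx, h1, h2⟩ := exists_outer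
  refine ⟨F.symm g, F.symm x, hle F.symm ⟨x, hx, rfl⟩, ?_, fun h => h2 ?_⟩
  · rw [← map_inv, ← map_mul, ← map_mul]
    exact fun h => h1 (F.symm.injective h)
  · rw [← map_inv, ← map_mul, ← map_mul] at h
    have h' : E (E.symm ((g * x * g⁻¹ : OctadInv.Co2Cent.C) : OctadInv.Co2Cent.G2)) =
        E (E.symm (x : OctadInv.Co2Cent.G2) * E.symm OctadInv.Co2Cent.t) := congrArg E h
    simpa using h'

end Cfsg.Agent.Co2Type.Co2Hyps
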