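import Mathlib.GroupTheory.OrderOfElement
import Mathlib.Data.Finite.Defs
import Mathlib.SetTheory.Cardinal.Finite
import Mathlib.Tactic.Group
import Cfsg.Agent.Lib.Co2Type.Defs

/-!
Existence of a frame: from the coordinates of the centraliser of `φ τ`, its roots and a rigidity
property of the centraliser of the edge, an element swapping the edge acts as the given pairs.
-/

set_option autoImplicit false

namespace Cfsg.Agent.Co2Type

/-- What the swap of an edge needs from the code group. -/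
structure EdgeCode {C₀ : Type*} [Group C₀] (τ α : C₀) (P : List (C₀ × C₀)) (Root : C₀ → Prop) : Prop where
  tau_sq : τ * τ = 1
  alpha_sq : α * α = 1
  ne : τ ≠ α
  tau_central : ∀ y : C₀, τ * y = y * τ
  alpha_root : Root α
  tau_alpha : (τ, α) ∈ pairGroup P
  pair_swap : ∀ p ∈ P, p.swap ∈ P
  pair_mem : ∀ p ∈ P, p.1 * α = α * p.1
  gen : ∀ y, y * α = α * y → ∃ z, (y, z) ∈ pairGroup P
  alpha_class : ∀ c, Root c → c ≠ τ →
    Nat.card {y : C₀ // y * c = c * y} = Nat.card {y : C₀ // y * α = α * y} → ∃ h, h * c * h⁻¹ = α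
  rigid : ∀ ψ : C₀ → C₀, (∀ y, y * α = α * y → ψ y * α = α * ψ y) →
    (∀ y z, y * α = α * y → z * α = α * z → ψ (y * z) = ψ y * ψ z) →
    (∀ y z, y * α = α * y → z * α = α * z → ψ y = ψ z → y = z) → ψ τ = α → ψ α = τ →
    (∀ y, y * α = α * y → Root y → Root (ψ y)) →
    ∃ d, d * α = α * d ∧ ∀ p ∈ P, ψ p.1 = d * p.2 * d⁻¹
  centre : ∀ z, (∀ y, y * α = α * y → z * y = y * z) → z = 1 ∨ z = τ ∨ z = α ∨ z = τ * α

variable {C₀ : Type*} [Group C₀] {τ α : C₀} {P : List (C₀ × C₀)} {Root : C₀ → Prop} {G : Type*} [Group G]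

/-- A frame on given coordinates. -/
theorem EdgeCode.exists_frame (E : EdgeCode τ α P Root) (φ : C₀ →* G) (hinj : Function.Injective φ)
    (hrange : φ.range = Subgroup.centralizer ({φ τ} : Set G))
    (hroot : ∀ c, (∃ g : G, g * φ τ * g⁻¹ = φ c) ↔ Root c) :
    ∃ F : Frame C₀ τ α P G, F.φ = φ := by
  obtain ⟨g, hg⟩ := (hroot α).2 E.alpha_root
  have hta : φ τ * φ α = φ α * φ τ := by rw [← map_mul, ← map_mul, E.tau_central]
  have mem : ∀ {x : G}, x * φ τ = φ τ * x → ∃ y, φ y = x := fun h => by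
    have : _ ∈ φ.range := hrange ▸ Subgroup.mem_centralizer_singleton_iff.2 h
    exact this
  set t₁ := g⁻¹ * φ τ * g with ht₁
  obtain ⟨c, hc⟩ : ∃ c, φ c = t₁ := mem <| by
    calc t₁ * φ τ = g⁻¹ * (φ τ * (g * φ τ * g⁻¹)) * g := by rw [ht₁]; group
      _ = g⁻¹ * (g * φ τ * g⁻¹ * φ τ) * g := by rw [hg, hta]
      _ = φ τ * t₁ := by rw [ht₁]; group
  have hcr : Root c := (hroot c).1 ⟨g⁻¹, by rw [hc, inv_inv, ht₁]⟩
  have hcn : c ≠ τ := fun h => E.ne <| hinj <| by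
    calc φ τ = g * t₁ * g⁻¹ := by rw [ht₁]; group
      _ = g * φ τ * g⁻¹ := by rw [← hc, h]
      _ = φ α := hg
  have tr : ∀ y : C₀, y * c = c * y → ∃ z, φ z = g * φ y * g⁻¹ ∧ z * α = α * z := fun y hy => by
    obtain ⟨z, hz⟩ : ∃ z, φ z = g * φ y * g⁻¹ := mem <| by
      calc g * φ y * g⁻¹ * φ τ = g * (φ y * t₁) * g⁻¹ := by rw [ht₁]; group
        _ = g * (t₁ * φ y) * g⁻¹ := by rw [← hc, ← map_mul, hy, map_mul]
        _ = φ τ * (g * φ y * g⁻¹) := by rw [ht₁]; group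
    refine ⟨z, hz, hinj ?_⟩
    rw [map_mul, map_mul, hz, ← hg]
    calc g * φ y * g⁻¹ * (g * φ τ * g⁻¹) = g * φ (y * τ) * g⁻¹ := by rw [map_mul]; group
      _ = g * φ (τ * y) * g⁻¹ := by rw [E.tau_central]
      _ = _ := by rw [map_mul]; group
  have rt : ∀ z : C₀, z * α = α * z → ∃ y, φ y = g⁻¹ * φ z * g ∧ y * c = c * y := fun z hz => by
    obtain ⟨y, hy⟩ : ∃ y, φ y = g⁻¹ * φ z * g := mem <| by
      calc g⁻¹ * φ z * g * φ τ = g⁻¹ * (φ z * (g * φ τ * g⁻¹)) * g := by group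
        _ = g⁻¹ * (g * φ τ * g⁻¹ * φ z) * g := by rw [hg, ← map_mul, hz, map_mul]
        _ = φ τ * (g⁻¹ * φ z * g) := by group
    refine ⟨y, hy, hinj ?_⟩
    rw [map_mul, map_mul, hy, hc, ht₁]
    calc g⁻¹ * φ z * g * (g⁻¹ * φ τ * g) = g⁻¹ * φ (z * τ) * g := by rw [map_mul]; group
      _ = g⁻¹ * φ (τ * z) * g := by rw [E.tau_central]
      _ = _ := by rw [map_mul]; group
  have hcard : Nat.card {y : C₀ // y * c = c * y} = Nat.card {y : C₀ // y * α = α * y} := by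
    refine Nat.card_congr (Equiv.ofBijective (fun y => ⟨(tr y.1 y.2).choose, (tr y.1 y.2).choose_spec.2⟩)
      ⟨fun y z h => Subtype.ext (hinj ?_), fun z => ?_⟩)
    · have h' := congrArg (fun w => φ w.1) h
      simp only [(tr y.1 y.2).choose_spec.1, (tr z.1 z.2).choose_spec.1] at h'
      exact mul_left_cancel (mul_right_cancel h')
    · obtain ⟨y, hy, hyc⟩ := rt z.1 z.2
      refine ⟨⟨y, hyc⟩, Subtype.ext (hinj ?_)⟩
      rw [(tr y hyc).choose_spec.1, hy]
      group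
  obtain ⟨h, hh⟩ := E.alpha_class c hcr hcn hcard
  obtain ⟨x, hxt, hxa⟩ : ∃ x : G, x * φ τ * x⁻¹ = φ α ∧ x * φ α * x⁻¹ = φ τ := by
    refine ⟨g * (φ h)⁻¹, ?_, ?_⟩
    · rw [← hg]
      calc g * (φ h)⁻¹ * φ τ * (g * (φ h)⁻¹)⁻¹ = g * ((φ h)⁻¹ * φ (τ * h)) * g⁻¹ := by rw [map_mul]; group
        _ = _ := by rw [E.tau_central, map_mul, inv_mul_cancel_left]
    · rw [← hh, map_mul, map_mul, map_inv, hc, ht₁]
      group
  have cx : ∀ y : C₀, y * α = α * y → ∃ z, φ z = x * φ y * x⁻¹ ∧ z * α = α * z := fun y hy => by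
    obtain ⟨z, hz⟩ : ∃ z, φ z = x * φ y * x⁻¹ := mem <| by
      rw [← hxa]
      calc x * φ y * x⁻¹ * (x * φ α * x⁻¹) = x * φ (y * α) * x⁻¹ := by rw [map_mul]; group
        _ = x * φ (α * y) * x⁻¹ := by rw [hy]
        _ = _ := by rw [map_mul]; group
    refine ⟨z, hz, hinj ?_⟩
    rw [map_mul, map_mul, hz, ← hxt]
    calc x * φ y * x⁻¹ * (x * φ τ * x⁻¹) = x * φ (y * τ) * x⁻¹ := by rw [map_mul]; group
      _ = x * φ (τ * y) * x⁻¹ := by rw [E.tau_central]
      _ = _ := by rw [map_mul]; group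
  classical
  let ψ : C₀ → C₀ := fun y => if hy : y * α = α * y then (cx y hy).choose else 1
  have hψ : ∀ y, y * α = α * y → φ (ψ y) = x * φ y * x⁻¹ ∧ ψ y * α = α * ψ y := fun y hy => by
    simp only [ψ, dif_pos hy]
    exact (cx y hy).choose_spec
  have hτ : τ * α = α * τ := E.tau_central α
  have hmul : ∀ y z, y * α = α * y → z * α = α * z → (y * z) * α = α * (y * z) := fun y z hy hz => by
    rw [mul_assoc, hz, ← mul_assoc, hy, mul_assoc]
  obtain ⟨d, hd, hψd⟩ := E.rigid ψ (fun y hy => (hψ y hy).2)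
    (fun y z hy hz => hinj <| by
      rw [(hψ _ (hmul y z hy hz)).1, map_mul, map_mul, (hψ y hy).1, (hψ z hz).1]
      group)
    (fun y z hy hz e => hinj <| mul_left_cancel (mul_right_cancel (by
      rw [← (hψ y hy).1, ← (hψ z hz).1, e] : x * φ y * x⁻¹ = x * φ z * x⁻¹)))
    (hinj <| by rw [(hψ τ hτ).1, hxt])
    (hinj <| by rw [(hψ α rfl).1, hxa])
    (fun y hy hr => by
      obtain ⟨g', hg'⟩ := (hroot _).2 hr
      refine (hroot _).1 ⟨x * g', ?_⟩
      rw [(hψ y hy).1, ← hg']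
      group)
  set n := (φ d)⁻¹ * x with hn
  have hact : ∀ p ∈ pairGroup P, n * φ p.1 * n⁻¹ = φ p.2 := fun p hp => by
    induction hp using Subgroup.closure_induction with
    | mem p hp =>
      have h1 := (hψ p.1 (E.pair_mem p hp)).1
      rw [hψd p hp, map_mul, map_mul, map_inv] at h1
      calc n * φ p.1 * n⁻¹ = (φ d)⁻¹ * (x * φ p.1 * x⁻¹) * φ d := by rw [hn]; group
        _ = φ p.2 := by rw [← h1]; group
    | one => simp
    | mul p q _ _ h₁ h₂ => rw [Prod.fst_mul, Prod.snd_mul, map_mul, map_mul, ← h₁, ← h₂]; group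
    | inv p _ h => rw [Prod.fst_inv, Prod.snd_inv, map_inv, map_inv, ← h]; group
  have hsw : ∀ p ∈ pairGroup P, p.swap ∈ pairGroup P := fun p hp => by
    induction hp using Subgroup.closure_induction with
    | mem p hp => exact Subgroup.subset_closure (E.pair_swap p hp)
    | one => exact one_mem _
    | mul p q _ _ h₁ h₂ => exact mul_mem h₁ h₂
    | inv p _ h => exact inv_mem h
  have h1 : n * φ τ * n⁻¹ = φ α := hact _ E.tau_alpha
  have h2 : n * φ α * n⁻¹ = φ τ := hact _ (hsw _ E.tau_alpha)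
  obtain ⟨z, hz⟩ : ∃ z, φ z = n * n := mem <| by
    calc n * n * φ τ = n * (n * φ τ * n⁻¹) * n⁻¹ * (n * n) := by group
      _ = φ τ * (n * n) := by rw [h1, h2]
  have hzc : ∀ y, y * α = α * y → z * y = y * z := fun y hy => by
    obtain ⟨y', hy'⟩ := E.gen y hy
    refine hinj ?_
    rw [map_mul, map_mul, hz]
    calc n * n * φ y = n * (n * φ y * n⁻¹) * n⁻¹ * (n * n) := by group
      _ = φ y * (n * n) := by
        rw [show n * φ y * n⁻¹ = φ y' from hact _ hy', show n * φ y' * n⁻¹ = φ y from hact _ (hsw _ hy')]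
  have hzn : n * φ z * n⁻¹ = φ z := by rw [hz]; group
  have hfin : ∀ m : G, m * m = 1 → (∀ p ∈ pairGroup P, m * φ p.1 * m⁻¹ = φ p.2) →
      ∃ F : Frame C₀ τ α P G, F.φ = φ := fun m h1 h2 => by
    have hi : m⁻¹ = m := inv_eq_of_mul_eq_one_left h1
    refine ⟨⟨φ, m, hinj, hrange, h1, ?_, fun p hp => ?_⟩, rfl⟩
    · rw [← h2 _ E.tau_alpha, hi]
    · rw [← h2 p (Subgroup.subset_closure hp), hi]
  rcases E.centre z hzc with h0 | h0 | h0 | h0 <;> subst h0
  · exact hfin n (by rw [← hz, map_one]) hact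
  · exact absurd (hinj (h1.symm.trans hzn)) E.ne.symm
  · exact absurd (hinj (h2.symm.trans hzn)) E.ne
  · refine hfin (n * φ τ) ?_ fun p hp => ?_
    · have e1 : n⁻¹ * φ τ * n = φ α := by
        calc n⁻¹ * φ τ * n = n⁻¹ * (n * φ α * n⁻¹) * n := by rw [h2]
          _ = φ α := by group
      calc n * φ τ * (n * φ τ) = n * n * (n⁻¹ * φ τ * n) * φ τ := by group
        _ = φ (τ * α * α * τ) := by rw [← hz, e1]; simp only [map_mul]
        _ = 1 := by rw [mul_assoc τ, E.alpha_sq, mul_one, E.tau_sq, map_one]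
    · rw [← hact p hp]
      calc n * φ τ * φ p.1 * (n * φ τ)⁻¹ = n * φ (τ * p.1) * (φ τ)⁻¹ * n⁻¹ := by rw [map_mul]; group
        _ = n * φ (p.1 * τ) * (φ τ)⁻¹ * n⁻¹ := by rw [E.tau_central]
        _ = n * φ p.1 * n⁻¹ := by rw [map_mul]; group

end Cfsg.Agent.Co2Type
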