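import Cfsg.Agent.Lib.Co2Type.Hyp

/-!
The setting with the orthogonal module attached, and the elementary rules of the dictionary.
-/

set_option autoImplicit false
set_option linter.unusedSectionVars false

namespace Cfsg.Agent.Co2Type

open Subgroup Cfsg.Agent.LargeExtra

/-- The centraliser `C(t)`, its normal subgroup `Q`, and the module `Q/⟨t⟩`. -/
structure Coord {G : Type*} [Group G] {V : Type*} [AddCommGroup V] (M : Mod V) (t : G) (Q : Subgroup G) where make ::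
  ctr : Ctr Q t
  card : Nat.card ↥Q = 512
  π : ↥(centralizer ({t} : Set G)) →* X6
  surj : Function.Surjective π
  ker : ∀ c, π c = 1 ↔ (c : G) ∈ Q
  mk : G → V
  mk_mul : ∀ x ∈ Q, ∀ y ∈ Q, mk (x * y) = mk x + mk y
  mk_t : mk t = 0
  mk_cases : ∀ x ∈ Q, mk x = 0 → x = 1 ∨ x = t
  mk_surj : ∀ v, ∃ x ∈ Q, mk x = v
  mk_sq : ∀ x ∈ Q, x * x = zb t (M.q (mk x))
  mk_comm : ∀ x ∈ Q, ∀ y ∈ Q, x * y = zb t (M.b (mk x) (mk y)) * (y * x)
  mk_conj : ∀ (c : ↥(centralizer ({t} : Set G))) (x : G), x ∈ Q → mk ((c : G) * x * (c : G)⁻¹) = M.ρ (π c) (mk x)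

universe uG

/-- The bundled setting exists under the hypotheses of the recognition theorem. -/
theorem exists_coord {G : Type uG} [Group G] [Finite G] (t : G) (ht : orderOf t = 2)
    (hcon : Cfsg.IsPConstrained 2 ↥(centralizer ({t} : Set G)))
    (hQ : Cfsg.IsExtraspecial 2 ↥(Cfsg.pCore 2 ↥(centralizer ({t} : Set G))))
    (hcard : Nat.card ↥(Cfsg.pCore 2 ↥(centralizer ({t} : Set G))) = 2 ^ 9)
    (e : ↥(centralizer ({t} : Set G)) ⧸ Cfsg.pCore 2 ↥(centralizer ({t} : Set G)) ≃* X6) :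
    ∃ (V : Type uG) (_ : AddCommGroup V) (_ : Finite V) (M : Mod V) (Q : Subgroup G), Nonempty (Coord M t Q) := by
  obtain ⟨Q, π, h, hc, hs, hk⟩ := exists_setting t ht hcon hQ hcard e
  obtain ⟨V, i1, i2, M, mk, a, b, c, d, s, m, f⟩ := exists_mod h hc π hs hk
  exact ⟨V, i1, i2, M, Q, ⟨⟨h, hc, π, hs, hk, mk, a, b, c, d, s, m, f⟩⟩⟩

namespace Coord

variable {G : Type*} [Group G] {V : Type*} [AddCommGroup V] {M : Mod V} {t : G} {Q : Subgroup G}
  (S : Coord M t Q)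
include S

theorem mk_one : S.mk 1 = 0 := by
  have := S.mk_mul 1 Q.one_mem 1 Q.one_mem
  rw [one_mul, M.add_self] at this
  exact this

theorem mk_inv {x : G} (hx : x ∈ Q) : S.mk x⁻¹ = S.mk x := by
  have := S.mk_mul x hx x⁻¹ (Q.inv_mem hx)
  rw [mul_inv_cancel, S.mk_one] at this
  calc S.mk x⁻¹ = (S.mk x + S.mk x) + S.mk x⁻¹ := by rw [M.add_self, zero_add]
    _ = S.mk x := by rw [add_assoc, ← this, add_zero]

theorem sq_false {x : G} (hx : x ∈ Q) : x * x = 1 ↔ M.q (S.mk x) = false := by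
  rw [S.mk_sq x hx]
  cases M.q (S.mk x) <;> simp [zb, S.ctr.ne_one]

theorem comm_false {x y : G} (hx : x ∈ Q) (hy : y ∈ Q) : x * y = y * x ↔ M.b (S.mk x) (S.mk y) = false := by
  rw [S.mk_comm x hx y hy]
  cases M.b (S.mk x) (S.mk y) <;> simp [zb, S.ctr.ne_one]

theorem conj_true {x y : G} (hx : x ∈ Q) (hy : y ∈ Q) (h : M.b (S.mk x) (S.mk y) = true) :
    x * y * x⁻¹ = t * y := by
  rw [S.mk_comm x hx y hy, h, zb_true]
  group

theorem mk_eq {x y : G} (hx : x ∈ Q) (hy : y ∈ Q) (h : S.mk x = S.mk y) : y = x ∨ y = x * t := by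
  rcases S.mk_cases (x⁻¹ * y) (Q.mul_mem (Q.inv_mem hx) hy)
      (by rw [S.mk_mul _ (Q.inv_mem hx) _ hy, S.mk_inv hx, h, M.add_self]) with e | e
  · exact .inl (inv_mul_eq_one.1 e).symm
  · exact .inr (by rw [← e, mul_inv_cancel_left])

theorem mem_C {x : G} (hx : x ∈ Q) : x ∈ centralizer ({t} : Set G) := S.ctr.le_centralizer hx

theorem pi_Q {x : G} (hx : x ∈ Q) : S.π ⟨x, S.mem_C hx⟩ = 1 := (S.ker _).2 hx

/-- A conjugate of `t` (other data may follow it). -/
theorem conj_mem_Q {c x : G} (hc : c * t = t * c) (hx : x ∈ Q) : c * x * c⁻¹ ∈ Q := S.ctr.conj_mem hc hx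

theorem mk_conj' {c : G} (hc : c ∈ centralizer ({t} : Set G)) {x : G} (hx : x ∈ Q) :
    S.mk (c * x * c⁻¹) = M.ρ (S.π ⟨c, hc⟩) (S.mk x) := S.mk_conj ⟨c, hc⟩ x hx

/-- An element of `C` acting trivially on the module lies in `Q`. -/
theorem mem_of_rho {c : ↥(centralizer ({t} : Set G))} (h : ∀ v, M.ρ (S.π c) v = v) : (c : G) ∈ Q :=
  (S.ker c).1 (M.inj _ (DFunLike.ext _ _ h))

theorem lift (g : X6) : ∃ c : ↥(centralizer ({t} : Set G)), S.π c = g := S.surj g

/-- An abelian subgroup of `Q` has at most 32 elements. -/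
theorem card_abelian [Finite G] {A : Subgroup G} (hA : A ≤ Q) (hc : ∀ x ∈ A, ∀ y ∈ A, x * y = y * x) :
    Nat.card ↥A ≤ 32 := by
  have : Fact (Nat.Prime 2) := ⟨Nat.prime_two⟩
  set B : Subgroup ↥Q := A.subgroupOf Q ⊔ center ↥Q with hB
  have hcomm : B ≤ centralizer (B : Set ↥Q) := by
    have h1 : A.subgroupOf Q ≤ centralizer (A.subgroupOf Q : Set ↥Q) := fun x hx => by
      rw [mem_centralizer_iff]
      exact fun y hy => Subtype.ext (hc _ (mem_subgroupOf.1 hy) _ (mem_subgroupOf.1 hx))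
    have h2 : B ≤ centralizer (A.subgroupOf Q : Set ↥Q) := sup_le h1 (center_le_centralizer _)
    rw [Subgroup.le_centralizer_iff] at h2
    exact sup_le h2 (center_le_centralizer _)
  have h := Cfsg.Agent.PGroups.Extraspecial.card_mul_card_centralizer S.ctr.ext B le_sup_right
  rw [S.card] at h
  have hle : Nat.card ↥B ≤ Nat.card ↥(centralizer (B : Set ↥Q)) := card_le_of_le hcomm
  have hAB : Nat.card ↥A ≤ Nat.card ↥B := by
    rw [← Nat.card_congr (subgroupOfEquivOfLe hA).toEquiv]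
    exact card_le_of_le le_sup_left
  by_contra hgt
  have : 33 * 33 ≤ Nat.card ↥B * Nat.card ↥(centralizer (B : Set ↥Q)) := Nat.mul_le_mul (by omega) (by omega)
  omega

end Coord

end Cfsg.Agent.Co2Type
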