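import Cfsg.Agent.Lib.Co2Type.Spin

/-!
The frame of the spin module.
-/

set_option autoImplicit false
set_option maxRecDepth 20000

namespace Cfsg.Agent.Co2Type

variable {V : Type*} [AddCommGroup V] (M : Mod V)

/-- The vector of a bit mask in a basis. -/
def evec (e : Fin 8 → V) (n : ℕ) : V := ∑ j : Fin 8, if n.testBit j.val then e j else 0

theorem evec_zero (e : Fin 8 → V) : evec e 0 = 0 := by simp [evec]

theorem evec_xor {W : Type*} [AddCommGroup W] (h2 : ∀ v : W, v + v = 0) (e : Fin 8 → W) (x y : ℕ) :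
    evec e (x ^^^ y) = evec e x + evec e y := by
  simp only [evec, Nat.testBit_xor, ← Finset.sum_add_distrib]
  refine Finset.sum_congr rfl fun j _ => ?_
  cases x.testBit j.val <;> cases y.testBit j.val <;> simp [h2]

theorem evec_single (e : Fin 8 → V) (j : Fin 8) : evec e (2 ^ j.val) = e j := by
  rw [evec, Finset.sum_eq_single j]
  · simp [Nat.testBit_two_pow_self]
  · intro i _ hi
    rw [Nat.testBit_two_pow, decide_eq_false (fun h => hi (Fin.ext h.symm))]
    rfl
  · intro h; exact absurd (Finset.mem_univ j) h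

/-- An element acts on the coordinates by a table. -/
def Acts (e : Fin 8 → V) (g : X6) (a : List ℕ) : Prop :=
  a.length = 8 ∧ ∀ n, M.ρ g (evec e n) = evec e (ap a n)

theorem acts_of_basis {e : Fin 8 → V} {g : X6} {a : List ℕ} (hl : a.length = 8)
    (h : ∀ j : Fin 8, M.ρ g (e j) = evec e (a.getD j.val 0)) : Acts M e g a := by
  refine ⟨hl, fun n => ?_⟩
  rw [ap_sum (evec e) (evec_zero e) (evec_xor M.add_self e), evec, map_sum]
  refine Fintype.sum_equiv (finCongr hl.symm) _ _ fun j => ?_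
  rw [apply_ite (M.ρ g), map_zero, h j]
  have hj : j.val < a.length := by rw [hl]; exact j.isLt
  rw [List.getD_eq_getElem _ _ hj]
  rfl

theorem ap_zero : ∀ b : List ℕ, ap b 0 = 0 := by
  intro b
  induction b with
  | nil => rfl
  | cons x b ih => simp [ap, ih]

theorem ap_unit : ∀ (b : List ℕ) (i : ℕ) (hi : i < b.length), ap b (2 ^ i) = b[i] := by
  intro b
  induction b with
  | nil => intro i hi; simp at hi
  | cons x b ih =>
    intro i hi
    rcases i with _ | i
    · simp [ap, ap_zero]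
    · rw [ap, show (2 : ℕ) ^ (i + 1) / 2 = 2 ^ i by rw [pow_succ, Nat.mul_div_cancel _ (by norm_num)],
        ih i (by simpa using hi)]
      simp

theorem acts_of_images {e : Fin 8 → V} {g : X6} {a0 a1 a2 a3 a4 a5 a6 a7 : ℕ}
    (h0 : M.ρ g (evec e (2 ^ 0)) = evec e a0) (h1 : M.ρ g (evec e (2 ^ 1)) = evec e a1)
    (h2 : M.ρ g (evec e (2 ^ 2)) = evec e a2) (h3 : M.ρ g (evec e (2 ^ 3)) = evec e a3)
    (h4 : M.ρ g (evec e (2 ^ 4)) = evec e a4) (h5 : M.ρ g (evec e (2 ^ 5)) = evec e a5)
    (h6 : M.ρ g (evec e (2 ^ 6)) = evec e a6) (h7 : M.ρ g (evec e (2 ^ 7)) = evec e a7) :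
    Acts M e g [a0, a1, a2, a3, a4, a5, a6, a7] := by
  refine acts_of_basis M rfl fun j => ?_
  rw [← evec_single e j]
  fin_cases j <;> simp only [List.getD_cons_zero, List.getD_cons_succ] <;> assumption

theorem acts_mul {e : Fin 8 → V} {g h : X6} {a b : List ℕ} (hg : Acts M e g a) (hh : Acts M e h b) :
    Acts M e (g * h) (tmul a b) := by
  refine acts_of_basis M (by simpa [tmul] using hh.1) fun j => ?_
  have hj := hh.2 (2 ^ j.val)
  rw [evec_single, ap_sum (evec e) (evec_zero e) (evec_xor M.add_self e)] at hj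
  rw [Mod.rho_mul, hj, ← ap_sum (evec e) (evec_zero e) (evec_xor M.add_self e), hg.2]
  congr 1
  rw [tmul, List.getD_eq_getElem _ _ (by simpa [hh.1] using j.isLt), List.getElem_map]
  congr 1
  exact ap_unit b j.val (by simp [hh.1])

/-- The lowering table `1 + P` of a plane. -/
def lowTbl (i : Fin 3) : List ℕ :=
  List.ofFn fun j : Fin 8 => if j.val.testBit (axis i) then 2 ^ (j.val ^^^ 2 ^ axis i) else 0

/-- Applying a subset of the lowerings. -/
def lowBy (s : Fin 8) (n : ℕ) : ℕ :=
  let f : Fin 3 → ℕ → ℕ := fun i m => if s.val.testBit i.val then ap (lowTbl i) m else m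
  f 0 (f 1 (f 2 n))

theorem low_reach : ∀ n < 256, n = 0 ∨ ∃ s : Fin 8, lowBy s n = 1 := by decide +kernel

theorem low_table : ∀ i : Fin 3, ∀ n < 256, ap (lowTbl i) n = n ^^^ ap (planeTbl i false) n := by
  decide +kernel

theorem low_lt : ∀ i : Fin 3, ∀ n < 256, ap (lowTbl i) n < 256 := by decide +kernel

theorem planeTbl_getD : ∀ (i : Fin 3) (s : Bool) (j : Fin 8),
    (planeTbl i s).getD j.val 0 =
      if j.val.testBit (axis i) = s then 2 ^ j.val else 2 ^ j.val ^^^ 2 ^ (j.val ^^^ 2 ^ axis i) := by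
  decide +kernel

theorem flip_lt : ∀ (i : Fin 3) (j : Fin 8), j.val ^^^ 2 ^ axis i < 8 := by decide +kernel

/-- The third step's candidates for the first crossing transvection. -/
def cand2 (n : ℕ) : List ℕ :=
  let P := fun m => m ^^^ ap (planeTbl 1 false) m
  let Q := fun m => m ^^^ ap (planeTbl 0 true) m
  let R := fun m => m ^^^ ap (planeTbl 2 true) m
  [P n, R (P n), n, R n, Q (P n), R (Q (P n)), Q n, R (Q n)]

/-- The candidates for the second crossing transvection. -/
def cand3 (n : ℕ) : List ℕ :=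
  let P := fun m => m ^^^ ap (planeTbl 0 true) m
  let Q := fun m => m ^^^ ap (planeTbl 1 true) m
  let R := fun m => m ^^^ ap (planeTbl 2 true) m
  [n, R n, Q n, R (Q n), P n, R (P n), P (Q n), R (P (Q n))]

/-- The braid equation of tables. -/
def tbraid (a b : List ℕ) : Bool := tmul (tmul a b) a == tmul (tmul b a) b

/-- The equations on a candidate. -/
def chk (a : List ℕ) (P Q R : List ℕ) : Bool :=
  tmul a a == [1, 2, 4, 8, 16, 32, 64, 128] && tbraid a P && tbraid a Q && tmul a R == tmul R a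

theorem cand2_check : ∀ n < 256,
    chk (cand2 n) (planeTbl 0 false) (planeTbl 1 true) (planeTbl 2 false) = true → cand2 n = sp8 2 := by
  decide +kernel

theorem cand3_check : ∀ n < 256,
    chk (cand3 n) (planeTbl 2 false) (sp8 2) (planeTbl 0 false) = true → cand3 n = sp8 3 := by
  decide +kernel

theorem chk_intro {a P Q R : List ℕ} (h0 : tmul a a = El.id.2) (h1 : tmul (tmul a P) a = tmul (tmul P a) P)
    (h2 : tmul (tmul a Q) a = tmul (tmul Q a) Q) (h3 : tmul a R = tmul R a) : chk a P Q R = true := by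
  simp only [chk, tbraid, Bool.and_eq_true, beq_iff_eq]
  exact ⟨⟨⟨h0, h1⟩, h2⟩, h3⟩

theorem cand_lt : ∀ n < 256, (∀ x ∈ cand2 n, x < 256) ∧ ∀ x ∈ cand3 n, x < 256 := by decide +kernel

theorem tbl_lt : ∀ x, (x ∈ planeTbl 0 false ∨ x ∈ planeTbl 0 true ∨ x ∈ planeTbl 1 true ∨
    x ∈ planeTbl 2 false ∨ x ∈ planeTbl 2 true ∨ x ∈ sp8 2 ∨ x ∈ El.id.2) → x < 256 := by
  intro x
  have h : ∀ x ∈ planeTbl 0 false ++ planeTbl 0 true ++ planeTbl 1 true ++ planeTbl 2 false ++
      planeTbl 2 true ++ sp8 2 ++ El.id.2, x < 256 := by decide +kernel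
  intro hx
  refine h x ?_
  simp only [List.mem_append]
  rcases hx with h | h | h | h | h | h | h <;> simp [h]

theorem ap_lt : ∀ (a : List ℕ), (∀ x ∈ a, x < 256) → ∀ n, ap a n < 256 := by
  intro a
  induction a with
  | nil => intro _ n; simp [ap]
  | cons x a ih =>
    intro h n
    refine Nat.xor_lt_two_pow (n := 8) ?_ (ih (fun y hy => h y (List.mem_cons_of_mem _ hy)) _)
    split
    · exact h x List.mem_cons_self
    · norm_num

theorem tmul_lt {a b : List ℕ} (ha : ∀ x ∈ a, x < 256) : ∀ x ∈ tmul a b, x < 256 := by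
  intro x hx
  rw [tmul, List.mem_map] at hx
  obtain ⟨y, -, rfl⟩ := hx
  exact ap_lt a ha y

variable [Finite V]

set_option maxHeartbeats 1600000 in
/-- The frame of the spin module. -/
theorem exists_frame_of_moved {v : V} (hv0 : v ≠ 0) (hv : ∀ i, M.Moved (rot i) v) : Nonempty (SpinFrame M) := by
  obtain ⟨w, hw0, hm, hP⟩ := exists_low M hv0 hv
  set e : Fin 8 → V := fun j => basVec M w j.val with he
  have hx := evec_xor M.add_self e
  have hplane : ∀ i s, Acts M e (xw (plane i s)) (planeTbl i s) := by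
    intro i s
    refine acts_of_basis M (by simp [planeTbl]) fun j => ?_
    rw [planeTbl_getD, he]
    simp only
    rw [basVec_rule M hm hP i s j]
    split
    · exact (evec_single e j).symm
    · rw [hx, evec_single, show (j.val ^^^ 2 ^ axis i) = (⟨_, flip_lt i j⟩ : Fin 8).val from rfl, evec_single]
  have he1 : evec e 1 = w := by
    have := evec_single e 0
    simpa [he, basVec, axis] using this
  have hinj0 : ∀ n < 256, evec e n = 0 → n = 0 := by
    intro n hn h0
    rcases low_reach n hn with h | ⟨s, hs⟩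
    · exact h
    exfalso
    have hlow : ∀ (i : Fin 3) (m : ℕ), m < 256 → evec e m = 0 → evec e (ap (lowTbl i) m) = 0 := by
      intro i m hm0 hm1
      rw [low_table i m hm0, hx, hm1, zero_add, ← (hplane i false).2, hm1, map_zero]
    have hstep : ∀ (i : Fin 3) (m : ℕ), m < 256 → evec e m = 0 →
        (if s.val.testBit i.val then ap (lowTbl i) m else m) < 256 ∧
          evec e (if s.val.testBit i.val then ap (lowTbl i) m else m) = 0 := by
      intro i m h1 h2
      split
      · exact ⟨low_lt i m h1, hlow i m h1 h2⟩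
      · exact ⟨h1, h2⟩
    obtain ⟨a1, a2⟩ := hstep 2 n hn h0
    obtain ⟨b1, b2⟩ := hstep 1 _ a1 a2
    obtain ⟨c1, c2⟩ := hstep 0 _ b1 b2
    apply hw0
    rw [← he1, ← hs]
    exact c2
  have hinj : ∀ x < 256, ∀ y < 256, evec e x = evec e y → x = y := by
    intro x hx' y hy h
    refine Nat.eq_of_testBit_eq fun i => ?_
    have := hinj0 (x ^^^ y) (Nat.xor_lt_two_pow (n := 8) hx' hy) (by rw [hx, h, M.add_self])
    have hb := congrArg (fun z => Nat.testBit z i) this
    simp only [Nat.testBit_xor, Nat.zero_testBit] at hb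
    simpa using hb
  have hsurj : ∀ u, ∃ x < 256, evec e x = u := by
    have hb : Function.Bijective (fun n : Fin 256 => evec e n.val) :=
      (Nat.bijective_iff_injective_and_card _).2
        ⟨fun a b h => Fin.ext (hinj _ a.isLt _ b.isLt h), by rw [Nat.card_fin, M.card]⟩
    intro u
    obtain ⟨n, hn⟩ := hb.2 u
    exact ⟨n.val, n.isLt, hn⟩
  -- uniqueness of tables
  have huniq : ∀ {g : X6} {a b : List ℕ}, Acts M e g a → Acts M e g b → (∀ x ∈ a, x < 256) →
      (∀ x ∈ b, x < 256) → a = b := by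
    intro g a b ha hb la lb
    refine List.ext_getElem (ha.1.trans hb.1.symm) fun i hi hi' => ?_
    refine hinj _ (la _ (List.getElem_mem _)) _ (lb _ (List.getElem_mem _)) ?_
    have h1 := ha.2 (2 ^ i)
    rw [hb.2, ap_unit a i hi, ap_unit b i hi'] at h1
    exact h1.symm
  have hsq : ∀ (k : Fin 7) (a : List ℕ), Acts M e (gen k) a → (∀ x ∈ a, x < 256) → tmul a a = El.id.2 := by
    intro k a ha la
    refine huniq (acts_mul M ha ha) (acts_of_basis M (by rfl) fun j => ?_) (tmul_lt la)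
      (fun x hx => tbl_lt x (.inr (.inr (.inr (.inr (.inr (.inr hx)))))))
    rw [gen_sq, Mod.rho_one]
    have : El.id.2.getD j.val 0 = 2 ^ j.val := by fin_cases j <;> rfl
    rw [this, evec_single]
  have hbraid : ∀ (g h : X6) (a b : List ℕ), Acts M e g a → Acts M e h b → g * h * g = h * g * h →
      (∀ x ∈ a, x < 256) → (∀ x ∈ b, x < 256) → tmul (tmul a b) a = tmul (tmul b a) b := by
    intro g h a b ha hb e1 la lb
    refine huniq (acts_mul M (acts_mul M ha hb) ha) ?_ (tmul_lt (tmul_lt la)) (tmul_lt (tmul_lt lb))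
    rw [e1]
    exact acts_mul M (acts_mul M hb ha) hb
  have hcomm : ∀ (g h : X6) (a b : List ℕ), Acts M e g a → Acts M e h b → g * h = h * g →
      (∀ x ∈ a, x < 256) → (∀ x ∈ b, x < 256) → tmul a b = tmul b a := by
    intro g h a b ha hb e1 la lb
    refine huniq (acts_mul M ha hb) ?_ (tmul_lt la) (tmul_lt lb)
    rw [e1]
    exact acts_mul M hb ha
  have w1 : xw (plane 0 false) = gen 1 := xw_single 1
  have w0 : xw (plane 0 true) = gen 0 := xw_single 0
  have w6 : xw (plane 1 true) = gen 6 := xw_single 6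
  have w4 : xw (plane 2 false) = gen 4 := xw_single 4
  have w5 : xw (plane 2 true) = gen 5 := xw_single 5
  have hE2 := hplane 1 false
  have h0 := w0 ▸ hplane 0 true
  have h1 := w1 ▸ hplane 0 false
  have h6 := w6 ▸ hplane 1 true
  have h4 := w4 ▸ hplane 2 false
  have h5 := w5 ▸ hplane 2 true
  have rel : ∀ {a b : List (Fin 7)}, code6 a = code6 b → xw a = xw b := fun h => xw_eq h
  obtain ⟨c2e, c20, c24, c25, b21, b26, -⟩ := mv2_comm
  obtain ⟨c30, c31, c36, c35, b34, b32, -⟩ := mv3_comm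
  -- the first crossing transvection
  have hC : Acts M e (gen 2) (sp8 2) := by
    obtain ⟨n, hn, hy⟩ := hsurj (M.ρ (gen 2) (e 2))
    have hgen : ∀ (g : X6) (a : List ℕ) (x y : ℕ), Acts M e g a → gen 2 * g = g * gen 2 →
        M.ρ (gen 2) (evec e x) = evec e y → M.ρ (gen 2) (evec e x + evec e (ap a x)) = evec e (y ^^^ ap a y) := by
      intro g a x y ha hg hxy
      rw [map_add, ← ha.2, ← Mod.rho_mul, hg, Mod.rho_mul, hxy, ha.2, hx]
    have g2e : gen 2 * xw (plane 1 false) = xw (plane 1 false) * gen 2 := by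
      have := rel c2e; rw [xw_append, xw_append, xw_single] at this; exact this
    have g20 : gen 2 * gen 0 = gen 0 * gen 2 := by
      have := rel c20; rwa [xw_append, xw_append, xw_single, xw_single] at this
    have g25 : gen 2 * gen 5 = gen 5 * gen 2 := by
      have := rel c25; rwa [xw_append, xw_append, xw_single, xw_single] at this
    have y2 : M.ρ (gen 2) (evec e (2 ^ 2)) = evec e n := by rw [hy]; congr 1; exact evec_single e 2
    have y0 := hgen _ _ _ _ hE2 g2e y2
    rw [← hx, show (2 ^ 2 ^^^ ap (planeTbl 1 false) (2 ^ 2)) = 2 ^ 0 by decide +kernel] at y0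
    have y6 := hgen _ _ _ _ h0 g20 y2
    rw [← hx, show (2 ^ 2 ^^^ ap (planeTbl 0 true) (2 ^ 2)) = 2 ^ 6 by decide +kernel] at y6
    have y4 := hgen _ _ _ _ h0 g20 y0
    rw [← hx, show (2 ^ 0 ^^^ ap (planeTbl 0 true) (2 ^ 0)) = 2 ^ 4 by decide +kernel] at y4
    have y3 := hgen _ _ _ _ h5 g25 y2
    rw [← hx, show (2 ^ 2 ^^^ ap (planeTbl 2 true) (2 ^ 2)) = 2 ^ 3 by decide +kernel] at y3
    have y1 := hgen _ _ _ _ h5 g25 y0
    rw [← hx, show (2 ^ 0 ^^^ ap (planeTbl 2 true) (2 ^ 0)) = 2 ^ 1 by decide +kernel] at y1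
    have y7 := hgen _ _ _ _ h5 g25 y6
    rw [← hx, show (2 ^ 6 ^^^ ap (planeTbl 2 true) (2 ^ 6)) = 2 ^ 7 by decide +kernel] at y7
    have y5 := hgen _ _ _ _ h5 g25 y4
    rw [← hx, show (2 ^ 4 ^^^ ap (planeTbl 2 true) (2 ^ 4)) = 2 ^ 5 by decide +kernel] at y5
    have hA : Acts M e (gen 2) (cand2 n) := by
      rw [cand2]
      exact acts_of_images M y0 y1 y2 y3 y4 y5 y6 y7
    have l := (cand_lt n hn).1
    rw [← cand2_check n hn (chk_intro (hsq 2 _ hA l)
      (hbraid _ _ _ _ hA h1 (by have := rel b21; simp only [xw_append, xw_single] at this; exact this) l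
        (fun x hx => tbl_lt x (.inl hx)))
      (hbraid _ _ _ _ hA h6 (by have := rel b26; simp only [xw_append, xw_single] at this; exact this) l
        (fun x hx => tbl_lt x (.inr (.inr (.inl hx)))))
      (hcomm _ _ _ _ hA h4 (by have := rel c24; rwa [xw_append, xw_append, xw_single, xw_single] at this) l
        (fun x hx => tbl_lt x (.inr (.inr (.inr (.inl hx)))))))]
    exact hA
  -- the second crossing transvection
  have hD : Acts M e (gen 3) (sp8 3) := by
    obtain ⟨n, hn, hy⟩ := hsurj (M.ρ (gen 3) (e 0))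
    have hgen : ∀ (g : X6) (a : List ℕ) (x y : ℕ), Acts M e g a → gen 3 * g = g * gen 3 →
        M.ρ (gen 3) (evec e x) = evec e y → M.ρ (gen 3) (evec e x + evec e (ap a x)) = evec e (y ^^^ ap a y) := by
      intro g a x y ha hg hxy
      rw [map_add, ← ha.2, ← Mod.rho_mul, hg, Mod.rho_mul, hxy, ha.2, hx]
    have g30 : gen 3 * gen 0 = gen 0 * gen 3 := by
      have := rel c30; rwa [xw_append, xw_append, xw_single, xw_single] at this
    have g36 : gen 3 * gen 6 = gen 6 * gen 3 := by
      have := rel c36; rwa [xw_append, xw_append, xw_single, xw_single] at this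
    have g35 : gen 3 * gen 5 = gen 5 * gen 3 := by
      have := rel c35; rwa [xw_append, xw_append, xw_single, xw_single] at this
    have y0 : M.ρ (gen 3) (evec e (2 ^ 0)) = evec e n := by rw [hy]; congr 1
    have y2 := hgen _ _ _ _ h6 g36 y0
    rw [← hx, show (2 ^ 0 ^^^ ap (planeTbl 1 true) (2 ^ 0)) = 2 ^ 2 by decide +kernel] at y2
    have y1 := hgen _ _ _ _ h5 g35 y0
    rw [← hx, show (2 ^ 0 ^^^ ap (planeTbl 2 true) (2 ^ 0)) = 2 ^ 1 by decide +kernel] at y1
    have y3 := hgen _ _ _ _ h5 g35 y2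
    rw [← hx, show (2 ^ 2 ^^^ ap (planeTbl 2 true) (2 ^ 2)) = 2 ^ 3 by decide +kernel] at y3
    have y4 := hgen _ _ _ _ h0 g30 y0
    rw [← hx, show (2 ^ 0 ^^^ ap (planeTbl 0 true) (2 ^ 0)) = 2 ^ 4 by decide +kernel] at y4
    have y6 := hgen _ _ _ _ h0 g30 y2
    rw [← hx, show (2 ^ 2 ^^^ ap (planeTbl 0 true) (2 ^ 2)) = 2 ^ 6 by decide +kernel] at y6
    have y5 := hgen _ _ _ _ h5 g35 y4
    rw [← hx, show (2 ^ 4 ^^^ ap (planeTbl 2 true) (2 ^ 4)) = 2 ^ 5 by decide +kernel] at y5
    have y7 := hgen _ _ _ _ h5 g35 y6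
    rw [← hx, show (2 ^ 6 ^^^ ap (planeTbl 2 true) (2 ^ 6)) = 2 ^ 7 by decide +kernel] at y7
    have hA : Acts M e (gen 3) (cand3 n) := by
      rw [cand3]
      exact acts_of_images M y0 y1 y2 y3 y4 y5 y6 y7
    have l := (cand_lt n hn).2
    rw [← cand3_check n hn (chk_intro (hsq 3 _ hA l)
      (hbraid _ _ _ _ hA h4 (by have := rel b34; simp only [xw_append, xw_single] at this; exact this) l
        (fun x hx => tbl_lt x (.inr (.inr (.inr (.inl hx))))))
      (hbraid _ _ _ _ hA hC (by have := rel b32; simp only [xw_append, xw_single] at this; exact this) l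
        (fun x hx => tbl_lt x (.inr (.inr (.inr (.inr (.inr (.inl hx))))))))
      (hcomm _ _ _ _ hA h1 (by have := rel c31; rwa [xw_append, xw_append, xw_single, xw_single] at this) l
        (fun x hx => tbl_lt x (.inl hx))))]
    exact hA
  obtain ⟨t1, t0, t6, t4, t5⟩ := planeTbl_eq
  refine ⟨⟨evec e, hx, hinj, hsurj, fun k n => ?_⟩⟩
  fin_cases k
  exacts [(t0 ▸ h0).2 n, (t1 ▸ h1).2 n, hC.2 n, hD.2 n, (t4 ▸ h4).2 n, (t5 ▸ h5).2 n, (t6 ▸ h6).2 n]

end Cfsg.Agent.Co2Type
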