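import Cfsg.Agent.Lib.Co2Type.Excl
import Cfsg.Agent.Lib.Co2Type.SpinFrame
import Cfsg.Agent.Lib.ZStar.Main

/-!
The module of a centraliser in the recognition theorem is the spin module, and `t` commutes with
another conjugate.
-/

set_option autoImplicit false
set_option linter.unusedSectionVars false

namespace Cfsg.Agent.Co2Type

open Subgroup Cfsg.Agent.LargeExtra

variable {G : Type*} [Group G] [Finite G] {V : Type*} [AddCommGroup V] [Finite V] {M : Mod V} {t : G}
  {Q : Subgroup G}

/-- By the `Z*`-theorem `t` commutes with a conjugate other than itself. -/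
theorem exists_partner (hO : Cfsg.oddCore G = ⊥) (hZ : Subgroup.center G = ⊥) (ht : orderOf t = 2) :
    ∃ g : G, g * t * g⁻¹ * t = t * (g * t * g⁻¹) ∧ g * t * g⁻¹ ≠ t := by
  by_contra hc
  push Not at hc
  have hz : Cfsg.IsIsolatedInvolution t := ⟨ht, fun g hg => hc g hg.symm.eq⟩
  have h := ZStar.Main.mem_center_of_isolated hO hz
  rw [hZ, Subgroup.mem_bot] at h
  rw [h, orderOf_one] at ht
  exact absurd ht (by norm_num)

/-- The module is the spin module. -/
theorem exists_spinFrame (S : Coord M t Q) (hO : Cfsg.oddCore G = ⊥) (hZ : Subgroup.center G = ⊥) :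
    Nonempty (SpinFrame M) := by
  by_cases hN : NoMoved M
  · exfalso
    obtain ⟨F⟩ := exists_natFrame hN
    obtain ⟨q, hq, hqv⟩ := S.mk_surj F.v
    obtain ⟨g, hg, hne⟩ := exists_partner hO hZ S.ctr.two
    exact hne (fixed_isolated S F hq hqv hg)
  · simp only [NoMoved, not_forall] at hN
    obtain ⟨v, hv, hv0⟩ := hN
    exact exists_frame_of_moved M hv0 hv

end Cfsg.Agent.Co2Type
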