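import Cfsg.Agent.Lib.Co2Type.EndStep

/-!
The centraliser of a set of commuting involutions lies in `M` when two classes of its roots, told
apart by a class function, meet only in ways whose larger sets are already treated.
-/

set_option autoImplicit false

namespace Cfsg.Agent.Co2Type.EndStep

variable {G : Type*} [Group G] {κ : Type*} {M : Subgroup G} {Root : G → Prop}

/-- The classes of the products of `r` with the elements of `l`. -/
def sig (Cl : G → κ) (l : List G) (r : G) : List κ := l.map fun a => Cl (r * a)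

theorem sig_conj {Cl : G → κ} (hCl : ∀ m ∈ M, ∀ x ∈ M, Cl (m * x * m⁻¹) = Cl x) {l : List G}
    (hl : ∀ a ∈ l, a ∈ M) {d r : G} (hd : d ∈ M)
    (h : InOrb M (Subgroup.centralizer {x | x ∈ l}) d r) : sig Cl l r = sig Cl l d := by
  obtain ⟨g, ⟨hgK, hgM⟩, rfl⟩ := h
  refine List.map_congr_left fun a ha => ?_
  rw [← hCl g hgM (d * a) (mul_mem hd (hl a ha))]
  congr 1
  have := Subgroup.mem_centralizer_iff.1 hgK a ha
  calc g * d * g⁻¹ * a = g * d * g⁻¹ * (a * g) * g⁻¹ := by group
    _ = g * (d * a) * g⁻¹ := by rw [this]; group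

/-- The general step of the ending, with `t` the base root. -/
theorem good [Finite G] {Cl : G → κ} (hCl : ∀ m ∈ M, ∀ x ∈ M, Cl (m * x * m⁻¹) = Cl x)
    (hR : RootClosed M Root) (hRconj : ∀ g r : G, Root r → Root (g * r * g⁻¹)) {l : List G}
    (hl : ∀ a ∈ l, a ∈ M) {t e : G} (htR : Root t) (heR : Root e) (ht : t ∈ M) (he : e ∈ M)
    (ht2 : orderOf t = 2) (he2 : orderOf e = 2)
    (htl : ∀ a ∈ l, a * t = t * a) (hel : ∀ a ∈ l, a * e = e * a)
    (hsep : sig Cl l e ≠ sig Cl l t)
    (hext : ∀ r ∈ M, Root r → r * t = t * r → r ≠ t → (∀ a ∈ l, a * r = r * a) →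
      sig Cl l r = sig Cl l t ∨ sig Cl l r = sig Cl l e →
      Subgroup.centralizer {x | x ∈ t * r :: l} ≤ M) :
    Subgroup.centralizer {x | x ∈ l} ≤ M := by
  by_contra hK
  have hmem : ∀ {x : G}, (∀ a ∈ l, a * x = x * a) → x ∈ Subgroup.centralizer {x | x ∈ l} :=
    fun h => Subgroup.mem_centralizer_iff.2 h
  obtain ⟨z, hz2, ⟨hzK, hzM⟩, hzt, ⟨x, hxK, hxM, hxz⟩, h⟩ :=
    step hR hK ⟨hmem htl, ht⟩ ⟨hmem hel, he⟩ htR heR ht2 he2
      fun h => hsep (sig_conj hCl hl ht h)
  set r := t * z with hr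
  have hor : InOrb M (Subgroup.centralizer {x | x ∈ l}) t r ∨
      InOrb M (Subgroup.centralizer {x | x ∈ l}) e r := h.elim Or.inr fun h => Or.inl h.1
  have hrR : Root r := by
    rcases hor with ⟨g, -, e'⟩ | ⟨g, -, e'⟩
    · exact e' ▸ hRconj g t htR
    · exact e' ▸ hRconj g e heR
  have htt : t * t = 1 := Involutions.Basic.inv_sq_one ht2
  have htr : t * r = z := by rw [hr, ← mul_assoc, htt, one_mul]
  have hrt : r * t = t * r := by rw [htr, hr, mul_assoc, hzt, ← mul_assoc, htt, one_mul]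
  have hrne : r ≠ t := fun e' => Involutions.Basic.ne_one hz2 (by rw [← htr, e', htt])
  have hrK : r ∈ Subgroup.centralizer {x | x ∈ l} := mul_mem (hmem htl) hzK
  refine hxM (hext r (mul_mem ht hzM) hrR hrt hrne (Subgroup.mem_centralizer_iff.1 hrK) ?_ ?_)
  · rcases hor with h | h
    · exact Or.inl (sig_conj hCl hl ht h)
    · exact Or.inr (sig_conj hCl hl he h)
  · refine Subgroup.mem_centralizer_iff.2 fun a ha => ?_
    rcases List.mem_cons.1 ha with rfl | ha
    · rw [htr, hxz]
    · exact Subgroup.mem_centralizer_iff.1 hxK a ha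

/-- A set containing a treated involution is treated. -/
theorem good_of_mem {l : List G} {b : G} (hb : b ∈ Subgroup.closure {x | x ∈ l})
    (h : Subgroup.centralizer ({b} : Set G) ≤ M) : Subgroup.centralizer {x | x ∈ l} ≤ M := fun g hg => by
  refine h (Subgroup.mem_centralizer_singleton_iff.2 ?_)
  clear h
  induction hb using Subgroup.closure_induction with
  | mem x hx => exact (Subgroup.mem_centralizer_iff.1 hg x hx).symm
  | one => rw [mul_one, one_mul]
  | mul x y _ _ hx hy => rw [← mul_assoc, hx, mul_assoc, hy, mul_assoc]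
  | inv x _ hx => exact (Commute.inv_right (show Commute g x from hx)).eq

/-- A set containing a root of `M` is treated. -/
theorem good_of_root (hR : RootClosed M Root) {l : List G} {a : G} (ha : a ∈ Subgroup.closure {x | x ∈ l})
    (haR : Root a) (haM : a ∈ M) : Subgroup.centralizer {x | x ∈ l} ≤ M :=
  good_of_mem ha fun g hg => hR g a haM haR (by
    rw [Subgroup.mem_centralizer_singleton_iff.1 hg, mul_inv_cancel_right]
    exact haM)

/-- Centralisers pass to conjugates in `M`. -/
theorem centralizer_conj_le {m x : G} (hm : m ∈ M) (h : Subgroup.centralizer ({x} : Set G) ≤ M) :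
    Subgroup.centralizer ({m * x * m⁻¹} : Set G) ≤ M := fun g hg => by
  have hg' := Subgroup.mem_centralizer_singleton_iff.1 hg
  have : m⁻¹ * g * m ∈ M := h <| Subgroup.mem_centralizer_singleton_iff.2 <| by
    calc m⁻¹ * g * m * x = m⁻¹ * (g * (m * x * m⁻¹)) * m := by group
      _ = m⁻¹ * (m * x * m⁻¹ * g) * m := by rw [hg']
      _ = x * (m⁻¹ * g * m) := by group
  have h2 := mul_mem (mul_mem hm this) (inv_mem hm)
  rwa [show m * (m⁻¹ * g * m) * m⁻¹ = g by group] at h2

/-- The ending: three classes of involutions, two of them with centraliser in `M`. -/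
theorem eq_top_of_classes [Finite G] {t q γ : G} (hR : RootClosed M Root) (htR : Root t)
    (hRconj : ∀ g r : G, Root r → Root (g * r * g⁻¹)) (ht : t ∈ M) (ht2 : orderOf t = 2)
    (hq2 : orderOf q = 2) (htq : q * t = t * q) (htγ : γ * t = t * γ) (hnq : ¬ IsConj t q)
    (hct : Subgroup.centralizer ({t} : Set G) ≤ M) (hcq : Subgroup.centralizer ({q} : Set G) ≤ M)
    (hcγ : Subgroup.centralizer ({γ} : Set G) ≤ M)
    (hcls : ∀ i ∈ M, orderOf i = 2 →
      ∃ m ∈ M, m * t * m⁻¹ = i ∨ m * q * m⁻¹ = i ∨ m * γ * m⁻¹ = i) : M = ⊤ := by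
  refine eq_top hR (fun i hi hi2 => ?_) (fun i hi hi2 => ?_) ?_ ht2 hq2 hnq
  · obtain ⟨m, hm, rfl | rfl | rfl⟩ := hcls i hi hi2
    · exact centralizer_conj_le hm hct
    · exact centralizer_conj_le hm hcq
    · exact centralizer_conj_le hm hcγ
  · obtain ⟨m, hm, e⟩ := hcls i hi hi2
    refine ⟨m * t * m⁻¹, mul_mem (mul_mem hm ht) (inv_mem hm), hRconj m t htR, ?_⟩
    have key : ∀ x : G, t * x = x * t → m * t * m⁻¹ * (m * x * m⁻¹) = m * x * m⁻¹ * (m * t * m⁻¹) :=
      fun x hx => by
        calc _ = m * (t * x) * m⁻¹ := by group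
          _ = m * (x * t) * m⁻¹ := by rw [hx]
          _ = _ := by group
    rcases e with rfl | rfl | rfl
    exacts [key t rfl, key q htq.symm, key γ htγ.symm]
  · rw [even_iff_two_dvd, ← ht2, ← Subgroup.orderOf_mk t ht]
    exact orderOf_dvd_natCard _

end Cfsg.Agent.Co2Type.EndStep
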