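import Cfsg.Agent.S5546
import Cfsg.Prelude.Def_Spor_Conway

/-!
Three involutions of the second Conway group with different traces modulo 13: the sign changes on
an octad, a dodecad and a set of sixteen points avoiding the two points of the fixed vector.
-/

set_option autoImplicit false
set_option maxRecDepth 20000

namespace Cfsg.Agent.Co2Type.Trace

open Cfsg Cfsg.Agent.Golay.Basic Cfsg.Agent.Golay Cfsg.Agent.Leech.Basic Cfsg.Agent.LeechAut.Basic

/-- The inclusion in `Co0`. -/
def ι : ↥Spor.Co2 →* ↥Co0 where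
  toFun g := ⟨g.1, g.2.1⟩
  map_one' := rfl
  map_mul' _ _ := rfl

/-- The trace modulo 13. -/
def tr (g : ↥Spor.Co2) : ZMod 13 := (S5546.mat (ι g)).trace

theorem tr_conj (g x : ↥Spor.Co2) : tr (g * x * g⁻¹) = tr x := by
  unfold tr
  rw [map_mul, map_mul, map_inv, S5546.mat_mul, Matrix.trace_mul_comm, ← S5546.mat_mul, ← mul_assoc,
    inv_mul_cancel, one_mul]

theorem mat_sign (c : Finset GolayPt) (hc : c ∈ codeSets) :
    S5546.mat (sign c hc) = Matrix.diagonal fun i => if i ∈ c then -1 else 1 := by
  ext i j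
  rcases eq_or_ne i j with rfl | h
  · rw [Matrix.diagonal_apply_eq]
    by_cases hi : i ∈ c <;> simp [S5546.mat, LeechAut.Basic.flip, S5546.ev, hi] <;> decide
  · rw [Matrix.diagonal_apply_ne _ h]
    by_cases hi : i ∈ c <;> simp [S5546.mat, LeechAut.Basic.flip, S5546.ev, hi, h]

theorem exists_sign (m : ℕ) (hm : isCode m = true) (h₁ : none ∉ maskSet m) (h₂ : some 0 ∉ maskSet m)
    (hne : ∃ i, i ∈ maskSet m) :
    ∃ g : ↥Spor.Co2, orderOf g = 2 ∧ tr g = ∑ i, if i ∈ maskSet m then -1 else 1 := by
  have hc : maskSet m ∈ codeSets := mem_supports_iff.2 (by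
    rw [mask_maskSet (of_decide_eq_true (forall_code (P := fun x => decide (x < 2 ^ 24))
      (by decide +kernel) hm))]
    exact hm)
  have hv : sign (maskSet m) hc • Spor.leechU = Spor.leechU := by
    apply Subtype.ext
    funext i
    rw [sign_smul]
    show (if i ∈ maskSet m then -Spor.vecU i else Spor.vecU i) = Spor.vecU i
    by_cases hi : i ∈ maskSet m
    · rw [if_pos hi, Spor.vecU, if_neg]
      · simp
      · rintro (rfl | rfl)
        exacts [h₁ hi, h₂ hi]
    · rw [if_neg hi]
  refine ⟨⟨(sign (maskSet m) hc : Equiv.Perm leechLattice), (sign (maskSet m) hc).2, hv⟩, ?_, ?_⟩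
  · have hsq : sign (maskSet m) hc * sign (maskSet m) hc = 1 :=
      ext' fun v => by
        apply Subtype.ext
        rw [mul_smul, sign_smul, sign_smul, LeechAut.Basic.flip_flip, one_smul]
    rw [orderOf_eq_prime_iff]
    refine ⟨?_, fun h => ?_⟩
    · apply Subtype.ext
      rw [pow_two]
      show ((sign (maskSet m) hc : Equiv.Perm leechLattice) * (sign (maskSet m) hc : Equiv.Perm leechLattice)) = 1
      exact congrArg Subtype.val hsq
    · obtain ⟨i, hi⟩ := hne
      have hs : sign (maskSet m) hc = 1 := Subtype.ext (congrArg (fun x : ↥Spor.Co2 => (x : Equiv.Perm leechLattice)) h)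
      have := congrArg (fun g : Co0 => (g • S5546.ev i : leechLattice).1 i) hs
      simp [LeechAut.Basic.flip, hi, S5546.ev] at this
  · show (S5546.mat (sign (maskSet m) hc)).trace = _
    rw [mat_sign, Matrix.trace_diagonal]

theorem exists_three : ∃ a b c : ↥Spor.Co2, orderOf a = 2 ∧ orderOf b = 2 ∧ orderOf c = 2 ∧
    tr a = 8 ∧ tr b = 0 ∧ tr c = 5 := by
  obtain ⟨a, ha, ea⟩ := exists_sign 10558 (by decide +kernel) (by decide +kernel) (by decide +kernel)
    (by decide +kernel)
  obtain ⟨b, hb, eb⟩ := exists_sign 57274 (by decide +kernel) (by decide +kernel) (by decide +kernel)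
    (by decide +kernel)
  obtain ⟨c, hc, ec⟩ := exists_sign 1030138 (by decide +kernel) (by decide +kernel) (by decide +kernel)
    (by decide +kernel)
  exact ⟨a, b, c, ha, hb, hc, ea.trans (by decide +kernel), eb.trans (by decide +kernel),
    ec.trans (by decide +kernel)⟩

/-- If every involution is conjugate to one of three elements, these are pairwise non-conjugate. -/
theorem pairwise_of_cover {x y z : ↥Spor.Co2}
    (h : ∀ i : ↥Spor.Co2, orderOf i = 2 → IsConj x i ∨ IsConj y i ∨ IsConj z i) :
    tr x ≠ tr y ∧ tr x ≠ tr z ∧ tr y ≠ tr z := by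
  obtain ⟨a, b, c, ha, hb, hc, ea, eb, ec⟩ := exists_three
  have key : ∀ i, orderOf i = 2 → tr i = tr x ∨ tr i = tr y ∨ tr i = tr z := fun i hi => by
    have hcl : ∀ w, IsConj w i → tr i = tr w := fun w hw => by
      obtain ⟨g, rfl⟩ := isConj_iff.1 hw
      exact tr_conj g w
    rcases h i hi with h | h | h
    exacts [Or.inl (hcl x h), Or.inr (Or.inl (hcl y h)), Or.inr (Or.inr (hcl z h))]
  have h1 := key a ha
  have h2 := key b hb
  have h3 := key c hc
  rw [ea] at h1
  rw [eb] at h2
  rw [ec] at h3
  revert h1 h2 h3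
  generalize tr x = p
  generalize tr y = q
  generalize tr z = r
  revert p q r
  decide +kernel

end Cfsg.Agent.Co2Type.Trace
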