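import Mathlib
import Cfsg.Agent.Lib.Involutions.Basic
import Cfsg.Agent.Lib.Involutions.StronglyEmbedded

/-!
The step of the endgame: a subgroup `M` containing the centraliser of each of its roots, which
controls their fusion, and a subgroup `K` not contained in it.
-/

set_option autoImplicit false
set_option linter.unusedSectionVars false

namespace Cfsg.Agent.Co2Type.EndStep

open Cfsg.Agent.Involutions Cfsg.Agent.Involutions.Basic

variable {G : Type*} [Group G]

/-- The orbit of `d` under `K ⊓ M`. -/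
def InOrb (M K : Subgroup G) (d r : G) : Prop := ∃ g ∈ K ⊓ M, g * d * g⁻¹ = r

/-- The roots of `M` are moved back into `M` only by its elements. -/
def RootClosed (M : Subgroup G) (Root : G → Prop) : Prop :=
  ∀ g r : G, r ∈ M → Root r → g * r * g⁻¹ ∈ M → g ∈ M

theorem RootClosed.of_fusion {M : Subgroup G} {t : G}
    (hC : ∀ g : G, g * t = t * g → g ∈ M)
    (hf : ∀ g : G, g * t * g⁻¹ ∈ M → ∃ m ∈ M, m * t * m⁻¹ = g * t * g⁻¹) :
    RootClosed M fun r => ∃ g : G, g * t * g⁻¹ = r := by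
  rintro g r hr ⟨a, rfl⟩ hg
  obtain ⟨m₁, hm₁, e₁⟩ := hf a hr
  have hg' : g * a * t * (g * a)⁻¹ ∈ M := by
    rwa [show g * a * t * (g * a)⁻¹ = g * (a * t * a⁻¹) * g⁻¹ by group]
  obtain ⟨m₂, hm₂, e₂⟩ := hf (g * a) hg'
  have h₁ : m₁⁻¹ * a ∈ M := hC _ <| by
    calc m₁⁻¹ * a * t = m₁⁻¹ * (a * t * a⁻¹) * a := by group
      _ = m₁⁻¹ * (m₁ * t * m₁⁻¹) * a := by rw [e₁]
      _ = t * (m₁⁻¹ * a) := by group
  have h₂ : m₂⁻¹ * (g * a) ∈ M := hC _ <| by
    calc m₂⁻¹ * (g * a) * t = m₂⁻¹ * (g * a * t * (g * a)⁻¹) * (g * a) := by group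
      _ = m₂⁻¹ * (m₂ * t * m₂⁻¹) * (g * a) := by rw [e₂]
      _ = t * (m₂⁻¹ * (g * a)) := by group
  have : g = m₂ * (m₂⁻¹ * (g * a)) * ((m₁ * (m₁⁻¹ * a)))⁻¹ := by group
  rw [this]
  exact mul_mem (mul_mem hm₂ h₂) (inv_mem (mul_mem hm₁ h₁))

variable {M K : Subgroup G} {Root : G → Prop}

theorem InOrb.mem {d r : G} (hd : d ∈ K ⊓ M) (h : InOrb M K d r) : r ∈ K ⊓ M := by
  obtain ⟨g, hg, rfl⟩ := h
  exact mul_mem (mul_mem hg hd) (inv_mem hg)

/-- If `K` is not contained in `M`, an involution of `K` centralising a root `d` of `M` has a centraliser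
in `K` not contained in `M`, and its product with `d` is conjugate to one of two given roots. -/
theorem step [Finite G] (hR : RootClosed M Root) (hK : ¬ K ≤ M) {d e : G}
    (hd : d ∈ K ⊓ M) (he : e ∈ K ⊓ M) (hdR : Root d) (heR : Root e)
    (hd2 : orderOf d = 2) (he2 : orderOf e = 2) (hsep : ¬ InOrb M K d e) :
    ∃ z, orderOf z = 2 ∧ z ∈ K ⊓ M ∧ z * d = d * z ∧ (∃ x ∈ K, x ∉ M ∧ x * z = z * x) ∧
      (InOrb M K e (d * z) ∨
        InOrb M K d (d * z) ∧ ¬ ∀ r, InOrb M K d r ∨ InOrb M K e r → r * d = d * r) := by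
  obtain ⟨k, hkK, hkM⟩ := SetLike.not_le_iff_exists.1 hK
  set y := k * e * k⁻¹ with hy
  have hy2 : orderOf y = 2 := by rw [hy, orderOf_conj, he2]
  have hyK : y ∈ K := mul_mem (mul_mem hkK he.1) (inv_mem hkK)
  have hyM : y ∉ M := fun h => hkM (hR k e he.2 heR h)
  set x := d * y with hx
  have hxK : x ∈ K := mul_mem hd.1 hyK
  have hdr : ∀ j : ℤ, d * x ^ j ∈ M →
      (Even j → InOrb M K d (d * x ^ j)) ∧ (Odd j → InOrb M K e (d * x ^ j)) := by
    intro j hj
    constructor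
    · rintro ⟨i, rfl⟩
      have e1 : x ^ (-i) * d * (x ^ (-i))⁻¹ = d * x ^ (i + i) := by
        rw [hx, zpow_conj_left hd2 hy2]
        congr 2
        ring
      exact ⟨x ^ (-i), ⟨zpow_mem hxK _, hR _ d hd.2 hdR (by rw [e1]; exact hj)⟩, e1⟩
    · rintro ⟨i, rfl⟩
      have e1 : x ^ (-i) * k * e * (x ^ (-i) * k)⁻¹ = d * x ^ (2 * i + 1) := by
        calc x ^ (-i) * k * e * (x ^ (-i) * k)⁻¹
            = x ^ (-i) * (d * (d * y)) * (x ^ (-i))⁻¹ := by
              rw [← mul_assoc d d, inv_sq_one hd2, one_mul, hy]; group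
          _ = x ^ (-i) * d * (x ^ (-i))⁻¹ * (x ^ (-i) * x * (x ^ (-i))⁻¹) := by rw [hx]; group
          _ = d * x ^ (2 * i + 1) := by
              rw [hx, zpow_conj_left hd2 hy2, mul_assoc, ← zpow_neg, ← zpow_add_one, ← zpow_add, ← zpow_add]
              congr 2
              ring
      exact ⟨x ^ (-i) * k, ⟨mul_mem (zpow_mem hxK _) hkK, hR _ e he.2 heR (by rw [e1]; exact hj)⟩, e1⟩
  have hevn : Even (orderOf x) := by
    rcases Nat.even_or_odd (orderOf x) with h | h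
    · exact h
    refine absurd ?_ hsep
    have h1 : d * x ^ (orderOf x : ℤ) = d := by rw [zpow_natCast, pow_orderOf_eq_one, mul_one]
    obtain ⟨g, hg, e'⟩ := (hdr _ (by rw [h1]; exact hd.2)).2 (by exact_mod_cast h)
    exact ⟨g⁻¹, inv_mem hg, by rw [h1] at e'; rw [← e']; group⟩
  obtain ⟨hz2, hzd, hzy⟩ := middle_involution hd2 hy2 hevn
  set m := orderOf x / 2 with hm
  set z := x ^ m with hz
  have hzd' : z * d = d * z := hzd.eq
  have hzM : z ∈ M := hR z d hd.2 hdR (by rw [hzd', mul_inv_cancel_right]; exact hd.2)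
  have hdzM : d * x ^ (m : ℤ) ∈ M := by rw [zpow_natCast]; exact mul_mem hd.2 hzM
  refine ⟨z, hz2, ⟨pow_mem hxK m, hzM⟩, hzd', ⟨y, hyK, hyM, (hzy.eq).symm⟩, ?_⟩
  rcases Nat.even_or_odd m with h | h
  · refine Or.inr ⟨?_, fun hall => ?_⟩
    · have := (hdr m hdzM).1 (by exact_mod_cast h)
      rwa [zpow_natCast] at this
    · obtain ⟨i, hi⟩ := h
      have e1 : x ^ (-(i : ℤ)) * d * (x ^ (-(i : ℤ)))⁻¹ = d * z := by
        rw [hx, zpow_conj_left hd2 hy2, hz, hx, ← zpow_natCast]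
        congr 2
        omega
      have hw : x ^ (-(i : ℤ)) ∈ M := hR _ d hd.2 hdR (by rw [e1]; exact mul_mem hd.2 hzM)
      have hdi : d * x ^ (i : ℤ) ∈ M := by
        have := inv_mem hw
        rw [zpow_neg, inv_inv] at this
        exact mul_mem hd.2 this
      have hc : d * x ^ (i : ℤ) * d = d * (d * x ^ (i : ℤ)) := hall _ <| by
        rcases Int.even_or_odd (i : ℤ) with h' | h'
        · exact Or.inl ((hdr _ hdi).1 h')
        · exact Or.inr ((hdr _ hdi).2 h')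
      have h1 : x ^ (-(i : ℤ)) = x ^ (i : ℤ) := by
        rw [← mul_assoc d d, inv_sq_one hd2, one_mul, mul_assoc, hx, zpow_mul_left hd2 hy2, ← mul_assoc,
          inv_sq_one hd2, one_mul] at hc
        rw [hx]; exact hc
      have : x ^ m = 1 := by
        rw [← zpow_natCast, show (m : ℤ) = (i : ℤ) + i by omega, zpow_add]
        nth_rw 1 [← h1]
        rw [zpow_neg, inv_mul_cancel]
      exact ne_one hz2 (hz ▸ this)
  · have := (hdr m hdzM).2 (by exact_mod_cast h)
    rw [zpow_natCast] at this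
    exact Or.inl this

/-- `M` is everything once the centralisers of its involutions lie in it. -/
theorem eq_top [Finite G] (hR : RootClosed M Root)
    (hC : ∀ i ∈ M, orderOf i = 2 → Subgroup.centralizer ({i} : Set G) ≤ M)
    (hroot : ∀ i ∈ M, orderOf i = 2 → ∃ r ∈ M, Root r ∧ r * i = i * r)
    (heven : Even (Nat.card M)) {a b : G} (ha2 : orderOf a = 2) (hb2 : orderOf b = 2)
    (hab : ¬ IsConj a b) : M = ⊤ := by
  by_contra hne
  refine hab (Involutions.StronglyEmbedded.isConj_involutions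
    (Involutions.StronglyEmbedded.of_conj hne heven fun v hv hv2 g hg => ?_) ha2 hb2)
  obtain ⟨r, hr, hrR, hrv⟩ := hroot v hv hv2
  refine hR g r hr hrR (hC _ hg (by rw [orderOf_conj, hv2]) ?_)
  rw [Subgroup.mem_centralizer_singleton_iff]
  calc g * r * g⁻¹ * (g * v * g⁻¹) = g * (r * v) * g⁻¹ := by group
    _ = g * (v * r) * g⁻¹ := by rw [hrv]
    _ = g * v * g⁻¹ * (g * r * g⁻¹) := by group

end Cfsg.Agent.Co2Type.EndStep
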