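import Cfsg.Agent.Lib.Co2Type.ExclFix

/-!
No fixed vector: `t` commutes with no other conjugate.
-/

set_option autoImplicit false
set_option linter.unusedSectionVars false
set_option maxRecDepth 20000

namespace Cfsg.Agent.Co2Type

open Subgroup Cfsg.Agent.LargeExtra

variable {G : Type*} [Group G] [Finite G] {V : Type*} [AddCommGroup V] [Finite V] {M : Mod V} {t : G}
  {Q : Subgroup G} (S : Coord M t Q) (F : NatFrame M) {q : G} (hq : q ∈ Q) (hqv : S.mk q = F.v)

omit [Finite V] in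
/-- An element fixing the first unit vector and moving each orthogonal vector along it, by the image of `8`. -/
theorem transl_eq {g g' : X6}
    (h1 : M.ρ g (F.N 1) = F.N 1) (h1' : M.ρ g' (F.N 1) = F.N 1)
    (hp : ∀ n < 64, sf n 1 = false → M.ρ g (F.N n) = F.N n ∨ M.ρ g (F.N n) = F.N (n ^^^ 1))
    (hp' : ∀ n < 64, sf n 1 = false → M.ρ g' (F.N n) = F.N n ∨ M.ρ g' (F.N n) = F.N (n ^^^ 1))
    (h8 : M.ρ g (F.N 8) = M.ρ g' (F.N 8)) : g = g' := by
  have key : ∀ n < 64, sf n 1 = false → M.ρ g (F.N n) = M.ρ g' (F.N n) := by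
    intro n hn hs
    have hb : M.b (M.ρ g (F.N n)) (M.ρ g (F.N 8)) = M.b (M.ρ g' (F.N n)) (M.ρ g (F.N 8)) := by
      conv_rhs => rw [h8]
      rw [M.b_inv, M.b_inv]
    have h18 : M.b (F.N 1) (M.ρ g (F.N 8)) = true := by
      conv_lhs => rw [← h1]
      rw [M.b_inv, F.b_N 1 (by norm_num) 8 (by norm_num)]; decide
    have hx : F.N (n ^^^ 1) = F.N n + F.N 1 := by rw [F.add n hn 1 (by norm_num), hs, if_neg (by decide), add_zero]
    rcases hp n hn hs with e | e <;> rcases hp' n hn hs with e' | e'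
    · rw [e, e']
    · rw [e, e', hx, M.b_add_left, h18] at hb
      revert hb; cases M.b (F.N n) (M.ρ g (F.N 8)) <;> simp
    · rw [e, e', hx, M.b_add_left, h18] at hb
      revert hb; cases M.b (F.N n) (M.ρ g (F.N 8)) <;> simp
    · rw [e, e']
  refine nat_ext fun i hi m hm m' hm' e e' => F.inj m hm m' hm' ?_
  have hi' : 2 ^ i < 64 := lt_of_lt_of_le (Nat.pow_lt_pow_right (by norm_num) hi) (by norm_num)
  rw [← F.act g _ hi' m hm e, ← F.act g' _ hi' m' hm' e']
  interval_cases i <;> first | exact h8 | exact key _ hi' (by decide)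

include hqv hq

/-- The conjugate over the first transvection is impossible. -/
theorem no_conj_one {g : G} (hut : g * t * g⁻¹ * t = t * (g * t * g⁻¹)) (hu : g * t * g⁻¹ ≠ t)
    (hπ : S.π ⟨g * t * g⁻¹, mem_centralizer_singleton_iff.2 hut⟩ = tau 1)
    (hform : ∀ y, dif M (tau 1) y = if M.b y (F.N 1 + F.v) then F.N 1 + F.v else 0) : False := by
  classical
  set u := g * t * g⁻¹ with hug
  -- the centraliser of `t` in the conjugate of `Q`
  have hut' : g⁻¹ * t * g * t = t * (g⁻¹ * t * g) := by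
    calc g⁻¹ * t * g * t = g⁻¹ * (t * u) * g := by rw [hug]; group
      _ = g⁻¹ * (u * t) * g := by rw [hut]
      _ = _ := by rw [hug]; group
  have hu' : g⁻¹ * t * g ≠ t := fun e => hu (by
    calc u = g * (g⁻¹ * t * g) * g⁻¹ := by rw [hug, e]
      _ = t := by group)
  have hR := card_cent S F hq hqv (g := g⁻¹) (by rwa [inv_inv]) (by rwa [inv_inv])
  rw [inv_inv] at hR
  let R0 : Subgroup G := Q ⊓ centralizer ({g⁻¹ * t * g} : Set G)
  have hRt : ∀ r : ↥R0, g * (r : G) * g⁻¹ * t = t * (g * r * g⁻¹) := by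
    intro r
    have hc := mem_centralizer_singleton_iff.1 (mem_inf.1 r.2).2
    calc g * (r : G) * g⁻¹ * t = g * ((r : G) * (g⁻¹ * t * g)) * g⁻¹ := by group
      _ = g * (g⁻¹ * t * g * r) * g⁻¹ := by rw [hc]
      _ = _ := by group
  have hRu : ∀ r : ↥R0, g * (r : G) * g⁻¹ * u = u * (g * r * g⁻¹) := by
    intro r
    have hc := S.ctr.comm (mem_inf.1 r.2).1
    calc g * (r : G) * g⁻¹ * u = g * ((r : G) * t) * g⁻¹ := by rw [hug]; group
      _ = g * (t * r) * g⁻¹ := by rw [hc]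
      _ = _ := by rw [hug]; group
  let im : ↥R0 → X6 := fun r => S.π ⟨g * r * g⁻¹, mem_centralizer_singleton_iff.2 (hRt r)⟩
  -- the fibres
  have hfib : ∀ x, Nat.card {r : ↥R0 // im r = x} ≤ Nat.card ↥(meet Q g) := by
    intro x
    by_cases h : Nonempty {r : ↥R0 // im r = x}
    · obtain ⟨r0⟩ := h
      refine Nat.card_le_card_of_injective (fun r => ⟨g * ((r.1 : G) * (r0.1 : G)⁻¹) * g⁻¹, mem_meet.2 ⟨?_, ?_⟩⟩)
        fun r r' e => Subtype.ext (Subtype.ext (mul_right_cancel (mul_left_cancel (mul_right_cancel (congrArg Subtype.val e)))))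
      · have e1 : S.π ((⟨g * r.1 * g⁻¹, mem_centralizer_singleton_iff.2 (hRt r.1)⟩ : ↥(centralizer ({t} : Set G))) *
            ⟨g * r0.1 * g⁻¹, mem_centralizer_singleton_iff.2 (hRt r0.1)⟩⁻¹) = 1 := by
          rw [map_mul, map_inv]; show im r.1 * (im r0.1)⁻¹ = 1
          rw [r.2, r0.2, mul_inv_cancel]
        have h1 := (S.ker _).1 e1
        rw [show g * ((r.1 : G) * (r0.1 : G)⁻¹) * g⁻¹ = g * (r.1 : G) * g⁻¹ * (g * (r0.1 : G) * g⁻¹)⁻¹ by group]
        exact h1
      · rw [show g⁻¹ * (g * ((r.1 : G) * (r0.1 : G)⁻¹) * g⁻¹) * g = (r.1 : G) * (r0.1 : G)⁻¹ by group]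
        exact Q.mul_mem (mem_inf.1 r.1.2).1 (Q.inv_mem (mem_inf.1 r0.1.2).1)
    · rw [not_nonempty_iff] at h; simp [Nat.card_of_isEmpty]
  -- the meet is small
  have hcases : ∀ z ∈ meet Q g, M.b F.v (S.mk z) = false → S.mk z = 0 ∨ S.mk z = F.N 1 :=
    fun z hz hv => meet_index S F hq hqv hut hu hπ hform hz hv
  have hinj : ∀ z ∈ meet Q g, ∀ w ∈ meet Q g, S.mk z = S.mk w → z = w := by
    intro z hz w hw e
    have h := (meet_facts S F hq hqv hut hu ((meet Q g).mul_mem hz ((meet Q g).inv_mem hw))).2.2.1 (by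
      rw [S.mk_mul _ (mem_meet.1 hz).1 _ (Q.inv_mem (mem_meet.1 hw).1), S.mk_inv (mem_meet.1 hw).1, e, M.add_self])
    exact mul_inv_eq_one.1 h
  have h0 : Nat.card {z : ↥(meet Q g) // M.b F.v (S.mk (z : G)) = false} ≤ 2 := by
    have := Nat.card_le_card_of_injective (fun z : {z : ↥(meet Q g) // M.b F.v (S.mk (z : G)) = false} =>
      (decide (S.mk (z.1 : G) = 0) : Bool)) (fun z z' e => by
        simp only [decide_eq_decide] at e
        refine Subtype.ext (Subtype.ext (hinj _ z.1.2 _ z'.1.2 ?_))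
        rcases hcases _ z.1.2 z.2 with h | h
        · rw [h, e.1 h]
        · rcases hcases _ z'.1.2 z'.2 with h' | h'
          · rw [h', e.2 h']
          · rw [h, h'])
    simpa using this
  have hT : (∀ z ∈ meet Q g, M.b F.v (S.mk z) = false) ∧ Nat.card ↥(meet Q g) ≤ 2 ∨
      (∃ z ∈ meet Q g, M.b F.v (S.mk z) = true) ∧ Nat.card ↥(meet Q g) ≤ 4 := by
    by_cases hex : ∃ z ∈ meet Q g, M.b F.v (S.mk z) = true
    · refine .inr ⟨hex, ?_⟩
      obtain ⟨z1, hz1, hb1⟩ := hex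
      have hle : Nat.card {z : ↥(meet Q g) // M.b F.v (S.mk (z : G)) = true} ≤
          Nat.card {z : ↥(meet Q g) // M.b F.v (S.mk (z : G)) = false} := by
        refine Nat.card_le_card_of_injective (fun z => ⟨z.1 * ⟨z1, hz1⟩, ?_⟩)
          (fun z z' e => Subtype.ext (mul_right_cancel (congrArg Subtype.val e)))
        show M.b F.v (S.mk ((z.1 : G) * z1)) = false
        rw [S.mk_mul _ (mem_meet.1 z.1.2).1 _ (mem_meet.1 hz1).1, M.b_add_right, z.2, hb1]; rfl
      have h := Nat.card_congr (Equiv.sigmaFiberEquiv fun z : ↥(meet Q g) => M.b F.v (S.mk (z : G)))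
      rw [Nat.card_sigma, Fintype.sum_bool] at h
      omega
    · push Not at hex
      refine .inl ⟨fun z hz => Bool.eq_false_iff.2 (hex z hz), ?_⟩
      refine le_trans (Nat.card_le_card_of_injective (fun z : ↥(meet Q g) =>
        (⟨z, Bool.eq_false_iff.2 (hex z z.2)⟩ : {z : ↥(meet Q g) // M.b F.v (S.mk (z : G)) = false}))
        fun z z' e => congrArg Subtype.val e) h0
  -- the rules of the image
  have hv0 : F.v ≠ 0 := fun e => by have := F.qv; rw [e, M.q_zero] at this; exact absurd this (by decide)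
  have hfix1 : ∀ r, M.ρ (im r) (F.N 1) = F.N 1 := by
    intro r
    obtain ⟨m, hm, e⟩ := exists_dec6_image (im r) 1
    have hc : im r * tau 1 * (im r)⁻¹ = tau 1 := by
      rw [← hπ, mul_inv_eq_iff_eq_mul, ← map_mul, ← map_mul]
      congr 1
      exact Subtype.ext (hRu r)
    have := tau_inj (by norm_num : 1 < 64) hm (by norm_num) (hc.symm.trans (tau_conj _ e))
    subst this
    exact F.act _ 1 (by norm_num) 1 (by norm_num) e
  have hperp : ∀ r, ∀ n < 64, sf n 1 = false →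
      M.ρ (im r) (F.N n) = F.N n ∨ M.ρ (im r) (F.N n) = F.N (n ^^^ 1) := by
    intro r n hn hs
    obtain ⟨x0, hx0, ex0⟩ := S.mk_surj (F.N n)
    have hfx : M.ρ (tau 1) (F.N n) = F.N n := eq_of_dif_zero M (by
      rw [hform, M.b_add_right, F.b_N n hn 1 (by norm_num), hs, M.b_comm _ F.v, F.bv n hn]; rfl)
    have e0 : u * x0 * u⁻¹ = x0 ∨ u * x0 * u⁻¹ = x0 * t := by
      refine S.mk_eq hx0 (S.conj_mem_Q hut hx0) ?_
      rw [S.mk_conj' (mem_centralizer_singleton_iff.2 hut) hx0, hπ, ex0, hfx]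
    obtain ⟨x, hx, hxu, hxm⟩ : ∃ x ∈ Q, x * u = u * x ∧ (S.mk x = F.N n ∨ S.mk x = F.N n + F.v) := by
      rcases e0 with e0 | e0
      · exact ⟨x0, hx0, (mul_inv_eq_iff_eq_mul.1 e0).symm, .inl ex0⟩
      · refine ⟨x0 * q, Q.mul_mem hx0 hq, ?_, .inr (by rw [S.mk_mul _ hx0 _ hq, ex0, hqv])⟩
        have huu : u * u = 1 := conj_sq S.ctr.zz
        have hui : u⁻¹ = u := inv_eq_of_mul_eq_one_right huu
        have eq1 : u * q * u⁻¹ = q * t := by
          rcases conj_q S F hq hqv hut with e | e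
          · exact absurd (eq_of_comm S F hq hqv hut (mul_inv_eq_iff_eq_mul.1 e)) hu
          · exact e
        have e : u * (x0 * q) * u⁻¹ = x0 * q := by
          calc u * (x0 * q) * u⁻¹ = (u * x0 * u⁻¹) * (u * q * u⁻¹) := by group
            _ = x0 * (t * q) * t := by rw [e0, eq1]; group
            _ = x0 * q * (t * t) := by rw [← S.ctr.comm hq]; group
            _ = x0 * q := by rw [S.ctr.zz, mul_one]
        exact (mul_inv_eq_iff_eq_mul.1 e).symm
    set rr := g * (r : G) * g⁻¹ with hrr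
    have hm : x * rr * x⁻¹ * rr⁻¹ ∈ meet Q g := by
      refine mem_meet.2 ⟨?_, ?_⟩
      · rw [show x * rr * x⁻¹ * rr⁻¹ = x * (rr * x⁻¹ * rr⁻¹) by group]
        exact Q.mul_mem hx (S.conj_mem_Q (hRt r) (Q.inv_mem hx))
      · have hc : g⁻¹ * x * g * t = t * (g⁻¹ * x * g) := by
          calc g⁻¹ * x * g * t = g⁻¹ * (x * u) * g := by rw [hug]; group
            _ = g⁻¹ * (u * x) * g := by rw [hxu]
            _ = _ := by rw [hug]; group
        rw [show g⁻¹ * (x * rr * x⁻¹ * rr⁻¹) * g = (g⁻¹ * x * g) * r * (g⁻¹ * x * g)⁻¹ * (r : G)⁻¹ by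
          rw [hrr]; group]
        exact Q.mul_mem (S.conj_mem_Q hc (mem_inf.1 r.2).1) (Q.inv_mem (mem_inf.1 r.2).1)
    have hmk : S.mk (x * rr * x⁻¹ * rr⁻¹) = F.N n + M.ρ (im r) (F.N n) := by
      rw [show x * rr * x⁻¹ * rr⁻¹ = x * (rr * x⁻¹ * rr⁻¹) by group,
        S.mk_mul _ hx _ (S.conj_mem_Q (hRt r) (Q.inv_mem hx)),
        S.mk_conj' (mem_centralizer_singleton_iff.2 (hRt r)) (Q.inv_mem hx), S.mk_inv hx]
      rcases hxm with e | e <;> rw [e]
      show F.N n + F.v + M.ρ (im r) (F.N n + F.v) = _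
      rw [map_add, F.fixed, show F.N n + F.v + (M.ρ (im r) (F.N n) + F.v) = F.N n + M.ρ (im r) (F.N n) + (F.v + F.v) by
        abel, M.add_self, add_zero]
    have hbd : M.b F.v (S.mk (x * rr * x⁻¹ * rr⁻¹)) = false := by
      rw [hmk, M.b_add_right, F.bv n hn]
      conv_lhs => rw [← F.fixed (im r), M.b_inv, F.bv n hn]
      rfl
    have hN : ∀ a : V, F.N n + a = 0 → a = F.N n := fun a e => by
      calc a = (F.N n + F.N n) + a := by rw [M.add_self, zero_add]
        _ = F.N n := by rw [add_assoc, e, add_zero]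
    rcases hcases _ hm hbd with e | e
    · exact .inl (hN _ (hmk ▸ e))
    · refine .inr ?_
      rw [hmk] at e
      rw [F.add n hn 1 (by norm_num), hs, if_neg (by decide), add_zero, ← e, ← add_assoc, M.add_self, zero_add]
  have h8 : ∀ r, ∃ m, m < 64 ∧ sf 1 m = true ∧ M.ρ (im r) (F.N 8) = F.N m := by
    intro r
    obtain ⟨m, hm, e⟩ := exists_dec6_image (im r) 8
    have ea := F.act _ 8 (by norm_num) m hm e
    refine ⟨m, hm, ?_, ea⟩
    rw [← F.b_N 1 (by norm_num) m hm, ← ea, ← hfix1 r, M.b_inv, F.b_N 1 (by norm_num) 8 (by norm_num)]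
    decide
  choose m hm hm1 hm8 using h8
  have heq : ∀ r r', m r = m r' → im r = im r' := fun r r' e =>
    transl_eq F (hfix1 r) (hfix1 r') (hperp r) (hperp r') (by rw [hm8, hm8, e])
  -- counting
  have htot : ∀ s : Finset ℕ, (∀ r, m r ∈ s) → 128 ≤ s.card * Nat.card ↥(meet Q g) := by
    intro s hs
    haveI : Fintype ↥R0 := Fintype.ofFinite _
    have hfib' : ∀ b : ↥s, Nat.card {r : ↥R0 // (⟨m r, hs r⟩ : ↥s) = b} ≤ Nat.card ↥(meet Q g) := by
      intro b
      by_cases h : Nonempty {r : ↥R0 // (⟨m r, hs r⟩ : ↥s) = b}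
      · obtain ⟨r0⟩ := h
        refine le_trans (Nat.card_le_card_of_injective (fun r => (⟨r.1, heq _ _
          (congrArg Subtype.val (r.2.trans r0.2.symm))⟩ : {r : ↥R0 // im r = im r0.1}))
          fun r r' e => Subtype.ext (congrArg (fun x : {r : ↥R0 // im r = im r0.1} => x.1) e)) (hfib _)
      · rw [not_nonempty_iff] at h; simp [Nat.card_of_isEmpty]
    have h := Nat.card_congr (Equiv.sigmaFiberEquiv fun r : ↥R0 => (⟨m r, hs r⟩ : ↥s))
    rw [Nat.card_sigma] at h
    have h2 : Nat.card ↥R0 ≤ s.card * Nat.card ↥(meet Q g) := by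
      rw [← h]
      refine le_trans (Finset.sum_le_card_nsmul _ _ _ fun b _ => hfib' b) ?_
      simp
    exact le_trans hR h2
  rcases hT with ⟨-, h2⟩ | ⟨⟨z, hz, hzv⟩, h4⟩
  · have h := htot ((Finset.range 64).filter fun k => sf 1 k = true)
      fun r => Finset.mem_filter.2 ⟨Finset.mem_range.2 (hm r), hm1 r⟩
    rw [show ((Finset.range 64).filter fun k => sf 1 k = true).card = 32 by decide +kernel] at h
    have := Nat.mul_le_mul (le_refl 32) h2
    omega
  -- an element outside pins the image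
  obtain ⟨hzQ, hzg⟩ := mem_meet.1 hz
  set φ : ℕ → Bool := fun n => M.b (S.mk z) (F.N n)
  have hφ1 : φ 1 = true := by
    have e : M.ρ (tau 1) (S.mk z) = S.mk z := by
      rw [← hπ, ← S.mk_conj' _ hzQ]
      show S.mk (u * z * u⁻¹) = _
      rw [← (meet_facts S F hq hqv hut hu hz).1, mul_inv_cancel_right]
    have h0 := hform (S.mk z)
    rw [dif, e, M.add_self, M.b_add_right, M.b_comm _ F.v, hzv] at h0
    by_contra hb
    rw [Bool.not_eq_true] at hb
    rw [show M.b (S.mk z) (F.N 1) = false from hb] at h0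
    simp only [Bool.false_xor, if_true] at h0
    have hqa := q_add_v F.qv F.fixed (F.bv 1 (by norm_num))
    rw [← h0, M.q_zero, F.q_N 1 (by norm_num)] at hqa
    exact absurd hqa (by decide)
  have hz_fix : ∀ r : ↥R0, M.ρ (im r) (S.mk z) = S.mk z := by
    intro r
    set rr := g * (r : G) * g⁻¹ with hrr
    rw [← S.mk_conj' (mem_centralizer_singleton_iff.2 (hRt r)) hzQ]
    show S.mk (rr * z * rr⁻¹) = _
    have hrQ := (mem_inf.1 r.2).1
    cases hb : M.b (S.mk (r : G)) (S.mk (g⁻¹ * z * g))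
    · congr 1
      calc rr * z * rr⁻¹ = g * ((r : G) * (g⁻¹ * z * g) * (r : G)⁻¹) * g⁻¹ := by rw [hrr]; group
        _ = z := by rw [(S.comm_false hrQ hzg).2 hb]; group
    · exfalso
      have e : rr * z * rr⁻¹ = u * z := by
        calc rr * z * rr⁻¹ = g * ((r : G) * (g⁻¹ * z * g) * (r : G)⁻¹) * g⁻¹ := by rw [hrr]; group
          _ = u * z := by rw [S.conj_true hrQ hzg hb, hug]; group
      refine hu (weak_fixed S F hq hqv ?_)
      show u ∈ Q
      rw [show u = rr * z * rr⁻¹ * z⁻¹ by rw [e, mul_inv_cancel_right]]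
      exact Q.mul_mem (S.conj_mem_Q (hRt r) hzQ) (Q.inv_mem hzQ)
  have hfixn : ∀ r, ∀ n < 64, sf n 1 = false → M.ρ (im r) (F.N n) = F.N n := by
    intro r n hn hs
    refine (hperp r n hn hs).resolve_right fun e => ?_
    have hb := M.b_inv (im r) (S.mk z) (F.N n)
    rw [hz_fix, e, F.add n hn 1 (by norm_num), hs, if_neg (by decide), add_zero, M.b_add_right,
      show M.b (S.mk z) (F.N 1) = true from hφ1] at hb
    revert hb; cases M.b (S.mk z) (F.N n) <;> simp
  have h := htot {8, 9} fun r => by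
    have hall : ∀ l < 64, sf 1 l = false → sf l (m r) = sf l 8 := by
      intro l hl hs
      rw [← F.b_N l hl _ (hm r), ← hm8 r]
      conv_lhs => rw [← hfixn r l hl ((sf_swap l hl 1 (by norm_num)).trans hs)]
      rw [M.b_inv, F.b_N l hl 8 (by norm_num)]
    have hdec : ∀ k < 64, sf 1 k = true → (k = 8 ∨ k = 9) ∨ ∃ l < 64, sf 1 l = false ∧ sf l k ≠ sf l 8 := by
      decide +kernel
    rcases hdec _ (hm r) (hm1 r) with h | ⟨l, hl, h1, h2⟩
    · simpa using h
    · exact absurd (hall l hl h1) h2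
  rw [show ({8, 9} : Finset ℕ).card = 2 from rfl] at h
  omega

/-- **No fixed vector**: `t` commutes with no other conjugate. -/
theorem fixed_isolated {g : G} (hut : g * t * g⁻¹ * t = t * (g * t * g⁻¹)) : g * t * g⁻¹ = t := by
  by_contra hu
  obtain ⟨n, hn, hn0, hπ, -⟩ := exists_refl S F hq hqv hut hu
  obtain ⟨a, ha⟩ := exists_conj_tau hn hn0
  obtain ⟨c, hc⟩ := S.lift a⁻¹
  have hct := mem_centralizer_singleton_iff.1 c.2
  have e : (c : G) * g * t * ((c : G) * g)⁻¹ = (c : G) * (g * t * g⁻¹) * (c : G)⁻¹ := by group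
  have hut2 : (c : G) * g * t * ((c : G) * g)⁻¹ * t = t * ((c : G) * g * t * ((c : G) * g)⁻¹) := by
    rw [e]
    have hci : (c : G)⁻¹ * t = t * (c : G)⁻¹ := by
      rw [inv_mul_eq_iff_eq_mul, ← mul_assoc, hct, mul_inv_cancel_right]
    calc (c : G) * (g * t * g⁻¹) * (c : G)⁻¹ * t = (c : G) * (g * t * g⁻¹ * t) * (c : G)⁻¹ := by
          rw [mul_assoc, hci]; group
      _ = (c : G) * t * (g * t * g⁻¹) * (c : G)⁻¹ := by rw [hut]; group
      _ = _ := by rw [hct]; group
  have hu2 : (c : G) * g * t * ((c : G) * g)⁻¹ ≠ t := by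
    intro e'
    rw [e, mul_inv_eq_iff_eq_mul, ← hct] at e'
    exact hu (mul_left_cancel e')
  have hπ2 : S.π ⟨(c : G) * g * t * ((c : G) * g)⁻¹, mem_centralizer_singleton_iff.2 hut2⟩ = tau 1 := by
    rw [show (⟨(c : G) * g * t * ((c : G) * g)⁻¹, mem_centralizer_singleton_iff.2 hut2⟩ : ↥(centralizer ({t} : Set G))) =
      c * ⟨g * t * g⁻¹, mem_centralizer_singleton_iff.2 hut⟩ * c⁻¹ from Subtype.ext e, map_mul, map_mul, map_inv, hc, hπ,
      ← tau_conj a ha]
    group
  obtain ⟨n2, hn2, -, hπn, hform⟩ := exists_refl S F hq hqv hut2 hu2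
  rw [hπ2] at hπn
  obtain rfl := tau_inj (by norm_num : 1 < 64) hn2 (by norm_num) hπn
  exact no_conj_one S F hq hqv hut2 hu2 hπ2 hform

end Cfsg.Agent.Co2Type
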