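import Cfsg.Agent.Lib.Co2Type.FixedVec
import Cfsg.Agent.S0246

/-!
A fixed non-singular vector makes the singular vectors orthogonal to it the natural module.
-/

set_option autoImplicit false
set_option maxRecDepth 20000
set_option linter.unusedSectionVars false

namespace Cfsg.Agent.Co2Type

open Matrix Cfsg.Agent.Forms.SympStd Cfsg.Agent.Classical.Symplectic Cfsg.Agent.Sp6Mult

/-- The symplectic form on bit vectors. -/
def sf (n m : ℕ) : Bool :=
  xor (xor (xor (n.testBit 0 && m.testBit 3) (n.testBit 1 && m.testBit 4)) (n.testBit 2 && m.testBit 5))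
    (xor (xor (n.testBit 3 && m.testBit 0) (n.testBit 4 && m.testBit 1)) (n.testBit 5 && m.testBit 2))

/-- The image under a transvection, on bit vectors. -/
def tmv (n m : ℕ) : ℕ := if sf m n then m ^^^ n else m

theorem dec6_inj : ∀ x < 64, ∀ y < 64, dec6 x = dec6 y → x = y := by decide +kernel

theorem tmv_table : ∀ n < 64, ∀ m < 64,
    dec6 m + Cfsg.sympForm 3 (ZMod 2) (dec6 m) (dec6 n) • dec6 n = dec6 (tmv n m) ∧ tmv n m < 64 := by
  decide +kernel

theorem sf_swap : ∀ n < 64, ∀ m < 64, sf n m = sf m n := by decide +kernel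

theorem sf_lin (n m l : ℕ) : xor (sf n l) (sf m l) = sf (n ^^^ m) l := by
  have h : ∀ a b c d e f a' b' c' d' e' f' : Bool,
      xor (xor (xor (xor a b) c) (xor (xor d e) f)) (xor (xor (xor a' b') c') (xor (xor d' e') f')) =
        xor (xor (xor (xor a a') (xor b b')) (xor c c')) (xor (xor (xor d d') (xor e e')) (xor f f')) := by
    decide +kernel
  simp only [sf, Nat.testBit_xor, Bool.and_xor_distrib_right]
  exact h _ _ _ _ _ _ _ _ _ _ _ _

theorem sf_nondeg : ∀ n < 64, n = 0 ∨ ∃ m < 64, sf n m = true := by decide +kernel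

theorem vec7_one : vec7 1 = 1 := rfl

/-- The transvection of a bit vector. -/
noncomputable def tau (n : ℕ) : X6 := tv (dec6 n) 1

theorem gen_eq_tau (k : Fin 7) : gen k = tau (vec7 k) := rfl

theorem tau_conj (g : X6) {n m : ℕ}
    (h : (g : Matrix (Fin 3 ⊕ Fin 3) (Fin 3 ⊕ Fin 3) (ZMod 2)) *ᵥ dec6 n = dec6 m) :
    g * tau n * g⁻¹ = tau m := by
  rw [tau, tv_conj, h]; rfl

theorem tau_mulVec {n m : ℕ} (hn : n < 64) (hm : m < 64) :
    ((tau n : X6) : Matrix (Fin 3 ⊕ Fin 3) (Fin 3 ⊕ Fin 3) (ZMod 2)) *ᵥ dec6 m = dec6 (tmv n m) := by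
  rw [tau, tv_mulVec, one_mul]
  exact (tmv_table n hn m hm).1

theorem exists_dec6_image (g : X6) (n : ℕ) :
    ∃ m < 64, (g : Matrix (Fin 3 ⊕ Fin 3) (Fin 3 ⊕ Fin 3) (ZMod 2)) *ᵥ dec6 n = dec6 m := by
  obtain ⟨m, hm, e⟩ := dec6_surj ((g : Matrix (Fin 3 ⊕ Fin 3) (Fin 3 ⊕ Fin 3) (ZMod 2)) *ᵥ dec6 n)
  exact ⟨m, hm, e.symm⟩

theorem tau_inj {n m : ℕ} (hn : n < 64) (hm : m < 64) (hn0 : n ≠ 0) (e : tau n = tau m) : n = m := by
  have h : ∀ l < 64, tmv n l = tmv m l := fun l hl =>
    dec6_inj _ (tmv_table n hn l hl).2 _ (tmv_table m hm l hl).2 (by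
      rw [← tau_mulVec hn hl, ← tau_mulVec hm hl, e])
  by_contra hne
  obtain ⟨l, hl, hne'⟩ := (by decide +kernel : ∀ n < 64, ∀ m < 64, n ≠ 0 → n ≠ m → ∃ l < 64, tmv n l ≠ tmv m l)
    n hn m hm hn0 hne
  exact hne' (h l hl)

/-- Words from the first unit vector to the vectors of the seven transvections. -/
def toVec7 : Fin 7 → List (Fin 7) :=
  ![[0, 1], [], [2, 1], [2, 1, 3, 2], [2, 1, 3, 2, 4, 3], [2, 1, 3, 2, 4, 3, 5, 4], [2, 1, 6, 2]]

theorem toVec7_table : ∀ k, (toVec7 k).foldl (fun x j => mv j x) (dec6 1) = dec6 (vec7 k) := by decide +kernel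

/-- A transvection as a conjugate of the second generator. -/
theorem exists_conj_tau {n : ℕ} (hn : n < 64) (hn0 : n ≠ 0) :
    ∃ g : X6, (g : Matrix (Fin 3 ⊕ Fin 3) (Fin 3 ⊕ Fin 3) (ZMod 2)) *ᵥ dec6 1 = dec6 n := by
  have step : ∀ (w : List (Fin 7)) (g : X6) (x : V2),
      (g : Matrix (Fin 3 ⊕ Fin 3) (Fin 3 ⊕ Fin 3) (ZMod 2)) *ᵥ dec6 1 = x →
      ∃ g' : X6, (g' : Matrix (Fin 3 ⊕ Fin 3) (Fin 3 ⊕ Fin 3) (ZMod 2)) *ᵥ dec6 1 =
        w.foldl (fun x k => mv k x) x := by
    intro w
    induction w with
    | nil => exact fun g x h => ⟨g, h⟩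
    | cons k w ih =>
      intro g x h
      exact ih (gen k * g) (mv k x) (by rw [mul_mulVec_sp, h, gen_mulVec])
  obtain ⟨g, hg⟩ := step (toVec7 (reachTbl.getD (enc (dec6 n)) (0, [])).1) 1 (dec6 1) (by simp)
  rw [toVec7_table] at hg
  obtain ⟨g', hg'⟩ := step (reachTbl.getD (enc (dec6 n)) (0, [])).2 g _ hg
  refine ⟨g', hg'.trans (reach _ fun h => hn0 (dec6_inj n hn 0 (by norm_num) (h.trans dec6_zero.symm)))⟩

variable {V : Type*} [AddCommGroup V] (M : Mod V)

/-- The singular representatives of the natural module. -/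
structure NatFrame where
  v : V
  N : ℕ → V
  qv : M.q v = true
  fixed : ∀ g : X6, M.ρ g v = v
  N_zero : N 0 = 0
  q_N : ∀ n < 64, M.q (N n) = false
  bv : ∀ n < 64, M.b v (N n) = false
  inj : ∀ n < 64, ∀ m < 64, N n = N m → n = m
  b_N : ∀ n < 64, ∀ m < 64, M.b (N n) (N m) = sf n m
  add : ∀ n < 64, ∀ m < 64, N (n ^^^ m) = N n + N m + (if sf n m then v else 0)
  surj : ∀ z, M.b v z = false → M.q z = false → ∃ n < 64, z = N n
  act : ∀ (g : X6) (n : ℕ), n < 64 → ∀ m < 64,
    (g : Matrix (Fin 3 ⊕ Fin 3) (Fin 3 ⊕ Fin 3) (ZMod 2)) *ᵥ dec6 n = dec6 m → M.ρ g (N n) = N m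

/-- `z` is the singular vector of the transvection `x` on the orthogonal space of `v`. -/
def Cen (v : V) (x : X6) (z : V) : Prop :=
  M.q z = false ∧ M.b v z = false ∧
    (∀ y, M.b v y = false → dif M x y = 0 ∨ dif M x y = v ∨ dif M x y = z ∨ dif M x y = z + v) ∧
    ∃ y, M.b v y = false ∧ dif M x y ≠ 0 ∧ dif M x y ≠ v

variable {M}

theorem Cen.conj {v : V} (hv : ∀ g : X6, M.ρ g v = v) {x : X6} {z : V} (h : Cen M v x z) (g : X6) :
    Cen M v (g * x * g⁻¹) (M.ρ g z) := by
  have hd : ∀ y, dif M (g * x * g⁻¹) y = M.ρ g (dif M x (M.ρ g⁻¹ y)) := fun y => by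
    rw [dif, dif, map_add, ← Mod.rho_mul, ← Mod.rho_mul, ← Mod.rho_mul, mul_inv_cancel, Mod.rho_one, mul_assoc]
  have hb : ∀ y, M.b v (M.ρ g y) = M.b v y := fun y => by conv_lhs => rw [← hv g, M.b_inv]
  refine ⟨by rw [M.q_inv]; exact h.1, by rw [hb]; exact h.2.1, fun y hy => ?_, ?_⟩
  · rw [hd]
    rcases h.2.2.1 (M.ρ g⁻¹ y) (by rw [← hb, ← Mod.rho_mul, mul_inv_cancel, Mod.rho_one]; exact hy) with e | e | e | e <;>
      rw [e]
    · exact .inl (map_zero _)
    · exact .inr (.inl (hv g))
    · exact .inr (.inr (.inl rfl))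
    · exact .inr (.inr (.inr (by rw [map_add, hv g])))
  · obtain ⟨y, hy, h1, h2⟩ := h.2.2.2
    refine ⟨M.ρ g y, by rw [hb]; exact hy, ?_⟩
    rw [hd, ← Mod.rho_mul, inv_mul_cancel, Mod.rho_one]
    exact ⟨fun e => h1 (M.rho_inj_eq (e.trans (map_zero _).symm)), fun e => h2 (M.rho_inj_eq (e.trans (hv g).symm))⟩

theorem add_cancel_right' (M : Mod V) (a b : V) : a + b + b = a := by rw [add_assoc, M.add_self, add_zero]

variable {v : V} (hqv : M.q v = true) (hv : ∀ g : X6, M.ρ g v = v)
include hqv hv

theorem q_add_v {z : V} (hz : M.b v z = false) : M.q (z + v) = !(M.q z) := by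
  rw [M.q_add, hqv, M.b_comm, hz]; cases M.q z <;> rfl

theorem Cen.unique {x : X6} {z z' : V} (h : Cen M v x z) (h' : Cen M v x z') : z = z' := by
  obtain ⟨y, hy, h1, h2⟩ := h.2.2.2
  have hne : z' ≠ z + v := fun e => by
    have := q_add_v hqv hv h.2.1
    rw [← e, h'.1, h.1] at this
    exact absurd this (by decide)
  have hne' : z ≠ z' + v := fun e => hne (by rw [e, add_cancel_right' M])
  rcases h.2.2.1 y hy with e | e | e | e <;> rcases h'.2.2.1 y hy with e' | e' | e' | e' <;>
    first
      | exact absurd e h1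
      | exact absurd e h2
      | exact absurd e' h1
      | exact absurd e' h2
      | exact e.symm.trans e'
      | exact absurd (e.symm.trans e') hne'
      | exact absurd (e'.symm.trans e) hne
      | exact add_right_cancel (e.symm.trans e')

theorem Cen.formula {x : X6} {z : V} (h : Cen M v x z) {y : V} (hy : M.b v y = false) :
    dif M x y = if M.b y z then z + v else 0 := by
  have hz0 : z ≠ 0 := by
    rintro rfl
    obtain ⟨w, hw, h1, h2⟩ := h.2.2.2
    rcases h.2.2.1 w hw with e | e | e | e
    exacts [h1 e, h2 e, h1 e, h2 (by rwa [zero_add] at e)]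
  have hxy : ∀ w, M.ρ x w = w + dif M x w := fun w => by rw [dif, ← add_assoc, M.add_self, zero_add]
  have rule : ∀ w, M.b v w = false → (dif M x w = 0) ∨ (dif M x w = z ∧ M.b w z = false) ∨
      (dif M x w = z + v ∧ M.b w z = true) := by
    intro w hw
    have hq : M.q (w + dif M x w) = M.q w := by rw [← hxy, M.q_inv]
    rcases h.2.2.1 w hw with e | e | e | e
    · exact .inl e
    · rw [e, q_add_v hqv hv hw] at hq
      cases hh : M.q w <;> rw [hh] at hq <;> exact absurd hq (by decide)
    · refine .inr (.inl ⟨e, ?_⟩)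
      rw [e, M.q_add, h.1] at hq
      revert hq; cases M.q w <;> cases M.b w z <;> decide
    · refine .inr (.inr ⟨e, ?_⟩)
      rw [e, M.q_add, q_add_v hqv hv h.2.1, h.1, M.b_add_right, M.b_comm w v, hw] at hq
      revert hq; cases M.q w <;> cases M.b w z <;> decide
  -- no vector is moved to `z`
  have nz : ∀ w, M.b v w = false → dif M x w ≠ z := by
    intro w hw e
    obtain ⟨y2, hy2, hb2⟩ : ∃ y2, M.b v y2 = false ∧ M.b y2 z = true := by
      by_contra hc
      push Not at hc
      obtain ⟨c, hc'⟩ : ∃ c, M.b c v = true := by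
        by_contra hh
        push Not at hh
        have hv0 : v = 0 := M.nondeg v fun c => by rw [M.b_comm]; exact Bool.eq_false_iff.2 (hh c)
        rw [hv0, M.q_zero] at hqv
        exact absurd hqv (by decide)
      have hz : ∀ y, M.b z y = (M.b v y && M.b z c) := by
        intro y
        cases hvy : M.b v y
        · rw [M.b_comm, Bool.false_and]; exact Bool.eq_false_iff.2 (hc y hvy)
        · have h3 := Bool.eq_false_iff.2 (hc (y + c) (by rw [M.b_add_right, hvy, M.b_comm v c, hc']; rfl))
          rw [M.b_add_left, M.b_comm y, M.b_comm c] at h3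
          rw [Bool.true_and]
          revert h3; cases M.b z y <;> cases M.b z c <;> decide
      cases hzc : M.b z c
      · exact hz0 (M.nondeg z fun y => by rw [hz, hzc, Bool.and_false])
      · have hsum : z + v = 0 := M.nondeg _ fun y => by
          rw [M.b_add_left, hz, hzc, Bool.and_true]; cases M.b v y <;> rfl
        have := q_add_v hqv hv h.2.1
        rw [hsum, M.q_zero, h.1] at this
        exact absurd this (by decide)
    have hwz : M.b w z = false := by
      rcases rule w hw with e' | ⟨-, hb⟩ | ⟨e', hb⟩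
      · exact absurd (e.symm.trans e') hz0
      · exact hb
      · have hv0 : v = 0 := left_eq_add.1 (e.symm.trans e')
        rw [hv0, M.q_zero] at hqv
        exact absurd hqv (by decide)
    have hv0 : v ≠ 0 := fun e0 => by rw [e0, M.q_zero] at hqv; exact absurd hqv (by decide)
    rcases rule y2 hy2 with e2 | ⟨-, hb⟩ | ⟨e2, -⟩
    · rcases rule (w + y2) (by rw [M.b_add_right, hw, hy2]; rfl) with e3 | ⟨-, hb⟩ | ⟨e3, -⟩
      · rw [dif_add, e, e2, add_zero] at e3; exact hz0 e3
      · rw [M.b_add_left, hwz, hb2] at hb; exact absurd hb (by decide)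
      · rw [dif_add, e, e2, add_zero] at e3; exact hv0 (left_eq_add.1 e3)
    · rw [hb2] at hb; exact absurd hb (by decide)
    · rcases rule (w + y2) (by rw [M.b_add_right, hw, hy2]; rfl) with e3 | ⟨-, hb⟩ | ⟨e3, -⟩
      · rw [dif_add, e, e2, ← add_assoc, M.add_self, zero_add] at e3; exact hv0 e3
      · rw [M.b_add_left, hwz, hb2] at hb; exact absurd hb (by decide)
      · rw [dif_add, e, e2, add_eq_right] at e3; exact hz0 e3
  rcases rule y hy with e | ⟨e, -⟩ | ⟨e, hb⟩
  · -- fixed vectors are orthogonal to `z`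
    cases hb : M.b y z
    · exact e
    obtain ⟨w, hw, h1, -⟩ := h.2.2.2
    rcases rule w hw with e1 | ⟨e1, -⟩ | ⟨e1, hb1⟩
    · exact absurd e1 h1
    · exact absurd e1 (nz w hw)
    · rcases rule (y + w) (by rw [M.b_add_right, hy, hw]; rfl) with e2 | ⟨e2, -⟩ | ⟨-, hb2⟩
      · rw [dif_add, e, zero_add] at e2; exact absurd e2 h1
      · exact absurd e2 (nz _ (by rw [M.b_add_right, hy, hw]; rfl))
      · rw [M.b_add_left, hb, hb1] at hb2; exact absurd hb2 (by decide)
  · exact absurd e (nz y hy)
  · rw [hb]; exact e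

/-- The singular vector determines the transvection. -/
theorem Cen.determines {x x' : X6} {z : V} (h : Cen M v x z) (h' : Cen M v x' z) : x = x' := by
  set k := x⁻¹ * x' with hk
  have hfix : ∀ y, M.b v y = false → M.ρ k y = y := by
    intro y hy
    have e : M.ρ x y = M.ρ x' y := by
      have h1 := h.formula hqv hv hy
      rw [← h'.formula hqv hv hy, dif, dif] at h1
      exact add_left_cancel h1
    rw [hk, Mod.rho_mul, ← e, ← Mod.rho_mul, inv_mul_cancel, Mod.rho_one]
  have hd : ∀ y, dif M k y = 0 ∨ dif M k y = v := by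
    intro y
    have hperp : ∀ w, M.b v w = false → M.b (dif M k y) w = false := by
      intro w hw
      have h1 := M.b_inv k y w
      rw [hfix w hw] at h1
      rw [dif, M.b_add_left, h1, Bool.xor_self]
    obtain ⟨c, hc⟩ : ∃ c, M.b v c = true := by
      by_contra hh
      push Not at hh
      rw [M.nondeg v fun c => Bool.eq_false_iff.2 (hh c), M.q_zero] at hqv
      exact absurd hqv (by decide)
    set d := dif M k y
    have hdy : ∀ w, M.b d w = (M.b v w && M.b d c) := by
      intro w
      cases hvw : M.b v w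
      · rw [hperp w hvw, Bool.false_and]
      · have h3 := hperp (w + c) (by rw [M.b_add_right, hvw, hc]; rfl)
        rw [M.b_add_right] at h3
        rw [Bool.true_and]; revert h3; cases M.b d w <;> cases M.b d c <;> decide
    cases hdc : M.b d c
    · exact .inl (M.nondeg d fun w => by rw [hdy, hdc, Bool.and_false])
    · refine .inr ?_
      have : d + v = 0 := M.nondeg _ fun w => by
        rw [M.b_add_left, hdy, hdc, Bool.and_true]; cases M.b v w <;> rfl
      calc d = d + (v + v) := by rw [M.add_self, add_zero]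
        _ = v := by rw [← add_assoc, this, zero_add]
  have hcen : k ∈ Subgroup.center X6 := by
    rw [Subgroup.mem_center_iff]
    intro g
    suffices ec : ∀ y, M.ρ g (M.ρ k y) = M.ρ k (M.ρ g y) by
      have hi : g * k * (k * g)⁻¹ = 1 := M.inj _ (DFunLike.ext _ _ fun y => by
        show M.ρ (g * k * (k * g)⁻¹) y = y
        rw [Mod.rho_mul M (g * k), Mod.rho_mul M g k, ec, ← Mod.rho_mul M k g, ← Mod.rho_mul, mul_inv_cancel,
          Mod.rho_one])
      exact mul_inv_eq_one.1 hi
    intro y
    clear_value k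
    have e : M.ρ g (M.ρ k y) = M.ρ k (M.ρ g y) := by
      have hky : ∀ w, M.ρ k w = w + dif M k w := fun w => by rw [dif, ← add_assoc, M.add_self, zero_add]
      rw [hky, hky (M.ρ g y), map_add]
      congr 1
      have hz : ∀ w, (dif M k w = 0 ↔ M.b v w = false) ∨ (∀ u, dif M k u = 0) := by
        intro w
        by_cases hall : ∀ u, dif M k u = 0
        · exact .inr hall
        refine .inl ⟨fun e0 => ?_, fun e0 => by rw [dif, hfix w e0, M.add_self]⟩
        push Not at hall
        obtain ⟨u, hu⟩ := hall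
        by_contra hb
        rw [Bool.not_eq_false] at hb
        have hbu : M.b v u = true := by
          by_contra hbu
          rw [Bool.not_eq_true] at hbu
          exact hu (by rw [dif, hfix u hbu, M.add_self])
        have := hfix (w + u) (by rw [M.b_add_right, hb, hbu]; rfl)
        rw [map_add] at this
        refine hu ?_
        rw [dif]
        rw [dif] at e0
        calc u + M.ρ k u = (w + M.ρ k w) + (u + M.ρ k u) := by rw [e0, zero_add]
          _ = (w + u) + (M.ρ k w + M.ρ k u) := by abel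
          _ = 0 := by rw [this, M.add_self]
      have hb : M.b v (M.ρ g y) = M.b v y := by conv_lhs => rw [← hv g, M.b_inv]
      rcases hd y with e1 | e1 <;> rcases hd (M.ρ g y) with e2 | e2 <;> rw [e1, e2]
      · exact map_zero _
      · rcases hz y with hh | hh
        · rcases hz (M.ρ g y) with hh' | hh'
          · rw [hh'.2 (hb.trans (hh.1 e1))] at e2; rw [← e2, map_zero]
          · rw [hh'] at e2; rw [← e2, map_zero]
        · rw [hh] at e2; rw [← e2, map_zero]
      · rcases hz y with hh | hh
        · rcases hz (M.ρ g y) with hh' | hh'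
          · rw [hh.2 (hb ▸ hh'.1 e2)] at e1; rw [← e1, map_zero]
          · rw [hh'] at e1; rw [← e1, map_zero]
        · rw [hh] at e1; rw [← e1, map_zero]
      · exact hv g
    exact e
  have hbot : Subgroup.center X6 = ⊥ :=
    Subgroup.card_eq_one.1 (by rw [Cfsg.Agent.S0246.result (ZMod.card 2) 3 (by norm_num)]; rfl)
  rw [hbot, Subgroup.mem_bot, hk, inv_mul_eq_one] at hcen
  exact hcen

omit hqv hv

variable [Finite V]

/-- The frame of the natural module. -/
theorem exists_natFrame (hN : NoMoved M) : Nonempty (NatFrame M) := by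
  classical
  obtain ⟨v, hqv, hv⟩ := fixedVec_of_noMoved M hN
  have hvU : InU M v := fun i => (proj_eq_self M).2 (hv _)
  -- the centre of the first transvection
  obtain ⟨z1, hz1⟩ : ∃ z, Cen M v (tau 1) z := by
    set p := xw (plane 0 false) with hp
    have hpt : p = tau 1 := by rw [hp, show plane 0 false = [1] from rfl, xw_single]; rfl
    obtain ⟨m, hm0, hm⟩ := exists_moved M hN 0
    obtain ⟨n1, n2⟩ := three_moved M hm0 hm
    have hr : ∀ {y : V}, proj M 0 y = 0 → proj M 0 (M.ρ (rot 0) y) = 0 := fun {y} hy => by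
      rw [← proj_map M (rot_comm 0 0), hy, map_zero]
    have hdM : ∀ y, proj M 0 y = 0 → proj M 0 (dif M p y) = 0 := fun y hy => by
      rw [hp, dif, proj_add, ← proj_plane, hy, map_zero, add_zero]
    have hpr : p * rot 0 = rot 0 * rot 0 * p := by
      simp only [hp, rot]
      rw [← xw_append, ← xw_append, ← xw_append, xw_eq (plane_rot_self 0 false)]
    obtain ⟨y0, hy0, hy0'⟩ : ∃ y, proj M 0 y = 0 ∧ dif M p y ≠ 0 := by
      by_contra hc
      push Not at hc
      have f1 := eq_of_dif_zero M (hc m hm)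
      have f2 := eq_of_dif_zero M (hc _ (hr hm))
      rw [← Mod.rho_mul, hpr, Mod.rho_mul, f1, Mod.rho_mul] at f2
      exact n1 (M.rho_inj_eq f2)
    set a := dif M p y0 with ha
    have haM : proj M 0 a = 0 := hdM y0 hy0
    have fa : M.ρ p a = a := dif_dif M (plane_sq' 0 false) y0
    obtain ⟨na1, na2⟩ := three_moved M hy0' haM
    have hM0 : ∀ y, proj M 0 y = 0 → dif M p y = 0 ∨ dif M p y = a := by
      intro y hy
      have fy : M.ρ p (dif M p y) = dif M p y := dif_dif M (plane_sq' 0 false) y
      rcases moved_four M hN hy0' haM (hdM y hy) with e | e | e | e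
      · exact .inl e
      · exact .inr e
      · exfalso
        rw [e, ← Mod.rho_mul, hpr, Mod.rho_mul, fa, Mod.rho_mul] at fy
        exact na1 (M.rho_inj_eq fy)
      · exfalso
        rw [e, ← Mod.rho_mul, ← Mod.rho_mul, hpr, mul_assoc (rot 0 * rot 0), hpr, ← mul_assoc,
          show rot 0 * rot 0 * (rot 0 * rot 0) = rot 0 by rw [← mul_assoc, rot_three, one_mul],
          Mod.rho_mul, fa] at fy
        exact na1 (M.rho_inj_eq fy).symm
    have hUv : ∀ y, M.b v y = false → dif M p (proj M 0 (proj M 1 (proj M 2 y))) = 0 := by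
      intro y hy
      set u := proj M 0 (proj M 1 (proj M 2 y)) with hu
      have hb : M.b v u = false := by
        have hcomp : ∀ i, M.b v (y + proj M i y) = false := fun i =>
          inU_perp M hN hvU (i := i) (by rw [proj_add, proj_idem, M.add_self])
        rw [decomp M hN y, M.b_add_right, M.b_add_right, M.b_add_right, hcomp, hcomp, hcomp] at hy
        simpa using hy
      obtain ⟨w, hw, hbw⟩ := inU_pair M hN hvU (fun e => by rw [e, M.q_zero] at hqv; exact absurd hqv (by decide))
      rcases inU_four M hN hvU hw (fun e => by rw [e, M.q_zero] at hqv; exact absurd hqv (by decide))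
        (fun e => by rw [e, M.b_comm, M.b_zero_left] at hbw; exact absurd hbw (by decide))
        (fun e => by rw [← e, M.b_self] at hbw; exact absurd hbw (by decide)) (inU_proj M y) with e | e | e | e
      · rw [hu, e, dif_zero']
      · rw [hu, e, dif, hv, M.add_self]
      · rw [← hu] at e; rw [e, hbw] at hb; exact absurd hb (by decide)
      · rw [← hu] at e; rw [e, M.b_add_right, M.b_self, hbw] at hb; exact absurd hb (by decide)
    have hav : a ≠ v := fun e => by
      rw [e, hvU 0] at haM
      rw [haM, M.q_zero] at hqv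
      exact absurd hqv (by decide)
    have hbva : M.b v a = false := inU_perp M hN hvU haM
    have hby : M.b v y0 = false := inU_perp M hN hvU hy0
    refine ⟨if M.q a then a + v else a, ?_, ?_, ?_, y0, hby, by rw [← hpt]; exact hy0', by rw [← hpt]; exact hav⟩
    · cases hqa : M.q a
      · simpa using hqa
      · rw [if_pos rfl, q_add_v hqv hv hbva, hqa]; rfl
    · split
      · rw [M.b_add_right, hbva, M.b_self]; rfl
      · exact hbva
    · intro y hy
      rw [← hpt]
      have e : dif M p y = 0 ∨ dif M p y = a := by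
        rw [hp, dif_plane_decomp M hN, ← hp, hUv y hy, zero_add]
        exact hM0 _ (by rw [proj_add, proj_idem, M.add_self])
      rcases e with e | e
      · exact .inl e
      · rw [e]; split
        · exact .inr (.inr (.inr (add_cancel_right' M a v).symm))
        · exact .inr (.inr (.inl rfl))
  have hex : ∀ n, ∃ z, if n ≠ 0 ∧ n < 64 then Cen M v (tau n) z else z = 0 := by
    intro n
    by_cases hn : n ≠ 0 ∧ n < 64
    · obtain ⟨g, hg⟩ := exists_conj_tau hn.2 hn.1
      exact ⟨M.ρ g z1, by rw [if_pos hn, ← tau_conj g hg]; exact hz1.conj hv g⟩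
    · exact ⟨0, by rw [if_neg hn]⟩
  choose N hN' using hex
  have hC : ∀ n < 64, n ≠ 0 → Cen M v (tau n) (N n) := fun n hn h0 => by
    have := hN' n; rwa [if_pos ⟨h0, hn⟩] at this
  have hN0 : N 0 = 0 := by have := hN' 0; rwa [if_neg (fun h => h.1 rfl)] at this
  have hnz : ∀ n < 64, n ≠ 0 → N n ≠ 0 := by
    intro n hn h0 e
    obtain ⟨y, hy, h1, h2⟩ := (hC n hn h0).2.2.2
    rcases (hC n hn h0).2.2.1 y hy with e' | e' | e' | e'
    exacts [h1 e', h2 e', h1 (e'.trans e), h2 (by rw [e', e, zero_add])]
  have hq : ∀ n < 64, M.q (N n) = false := fun n hn => by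
    by_cases h : n = 0
    · rw [h, hN0, M.q_zero]
    · exact (hC n hn h).1
  have hbv : ∀ n < 64, M.b v (N n) = false := fun n hn => by
    by_cases h : n = 0
    · rw [h, hN0, M.b_comm, M.b_zero_left]
    · exact (hC n hn h).2.1
  have hinj : ∀ n < 64, ∀ m < 64, N n = N m → n = m := by
    intro n hn m hm e
    by_cases h : n = 0
    · subst h
      by_contra hne
      exact hnz m hm (Ne.symm hne) (e.symm.trans hN0)
    by_cases h' : m = 0
    · subst h'; exact absurd (e.trans hN0) (hnz n hn h)
    exact tau_inj hn hm h ((hC n hn h).determines hqv hv (e ▸ hC m hm h'))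
  have hact : ∀ (g : X6) (n : ℕ), n < 64 → ∀ m < 64,
      (g : Matrix (Fin 3 ⊕ Fin 3) (Fin 3 ⊕ Fin 3) (ZMod 2)) *ᵥ dec6 n = dec6 m → M.ρ g (N n) = N m := by
    intro g n hn m hm e
    by_cases h : n = 0
    · subst h
      rw [dec6_zero, Matrix.mulVec_zero, ← dec6_zero] at e
      rw [← dec6_inj 0 (by norm_num) m hm e, hN0, map_zero]
    by_cases h' : m = 0
    · subst h'
      exfalso
      refine h (dec6_inj n hn 0 (by norm_num) ?_)
      have := congrArg (fun u => ((g⁻¹ : X6) : Matrix (Fin 3 ⊕ Fin 3) (Fin 3 ⊕ Fin 3) (ZMod 2)) *ᵥ u) e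
      simp only [← mul_mulVec_sp, inv_mul_cancel] at this
      rw [dec6_zero, Matrix.mulVec_zero] at this
      rw [dec6_zero]
      simpa using this
    refine Cen.unique hqv hv ?_ (hC m hm h')
    rw [← tau_conj g e]
    exact (hC n hn h).conj hv g
  have hb : ∀ n < 64, ∀ m < 64, M.b (N n) (N m) = sf n m := by
    intro n hn m hm
    by_cases h : n = 0
    · rw [h, hN0, M.b_zero_left]; exact ((by decide +kernel : ∀ m < 64, sf 0 m = false) m hm).symm
    have e := hact (tau n) m hm _ (tmv_table n hn m hm).2 (tau_mulVec hn hm)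
    have hd := (hC n hn h).formula hqv hv (hbv m hm)
    rw [dif, e, M.b_comm, tmv, sf_swap m hm n hn] at hd
    cases hs : sf n m
    · rw [hs, if_neg (by decide), M.add_self] at hd
      cases hb : M.b (N n) (N m)
      · rfl
      · exfalso
        rw [hb, if_pos rfl] at hd
        have := q_add_v hqv hv (hbv n hn)
        rw [← hd, M.q_zero, hq n hn] at this
        exact absurd this (by decide)
    · rw [hs, if_pos rfl] at hd
      cases hb : M.b (N n) (N m)
      · exfalso
        rw [hb, if_neg (by decide)] at hd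
        have e2 : N m = N (m ^^^ n) := by
          calc N m = N m + (N m + N (m ^^^ n)) := by rw [hd, add_zero]
            _ = _ := by rw [← add_assoc, M.add_self, zero_add]
        have e3 := hinj m hm _ (Nat.xor_lt_two_pow (n := 6) hm hn) e2
        exact h (by
          have := congrArg (fun k => m ^^^ k) e3
          simpa [← Nat.xor_assoc] using this.symm)
      · rfl
  -- all singular vectors
  have hsurj : ∀ z, M.b v z = false → M.q z = false → ∃ n < 64, z = N n := by
    intro z hz hqz
    by_contra hc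
    push Not at hc
    obtain ⟨c, hcv⟩ : ∃ c, M.b v c = true := by
      by_contra hh
      push Not at hh
      rw [M.nondeg v fun c => Bool.eq_false_iff.2 (hh c), M.q_zero] at hqv
      exact absurd hqv (by decide)
    let F : (Option (Fin 64)) × Bool × Bool → V := fun x =>
      (x.1.elim z fun n => N n.val) + (if x.2.1 then v else 0) + (if x.2.2 then c else 0)
    have hmem : ∀ o : Option (Fin 64), M.b v (o.elim z fun n => N n.val) = false ∧
        M.q (o.elim z fun n => N n.val) = false := by
      rintro (_ | n)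
      · exact ⟨hz, hqz⟩
      · exact ⟨hbv n n.isLt, hq n n.isLt⟩
    have hFi : Function.Injective F := by
      intro ⟨o, s, r⟩ ⟨o', s', r'⟩ e
      have hv0 : M.b v v = false := M.b_self v
      have er : r = r' := by
        have := congrArg (M.b v) e
        simp only [F, M.b_add_right, (hmem o).1, (hmem o').1, apply_ite (M.b v), hv0, hcv, M.b_comm v 0, M.b_zero_left] at this
        cases r <;> cases r' <;> simp_all
      subst er
      have e1 := add_right_cancel e
      have es : s = s' := by
        have := congrArg M.q e1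
        cases s <;> cases s' <;> simp only [Bool.false_eq_true, if_false, if_true, add_zero] at this
        · rfl
        · rw [q_add_v hqv hv (hmem o').1, (hmem o).2, (hmem o').2] at this
          exact absurd this (by decide)
        · rw [q_add_v hqv hv (hmem o).1, (hmem o).2, (hmem o').2] at this
          exact absurd this (by decide)
        · rfl
      subst es
      have e2 := add_right_cancel e1
      refine Prod.ext ?_ rfl
      rcases o with _ | n <;> rcases o' with _ | n'
      · rfl
      · exact absurd e2 (hc n'.val n'.isLt)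
      · exact absurd e2.symm (hc n.val n.isLt)
      · exact congrArg some (Fin.ext (hinj _ n.isLt _ n'.isLt e2))
    have := Nat.card_le_card_of_injective F hFi
    rw [M.card] at this
    simp [Nat.card_eq_fintype_card] at this
  refine ⟨⟨v, N, hqv, hv, hN0, hq, hbv, hinj, hb, fun n hn m hm => ?_, hsurj, hact⟩⟩
  set s := if sf n m then v else 0 with hs
  have hx := Nat.xor_lt_two_pow (n := 6) hn hm
  have hsb : ∀ w, M.b v w = false → M.b w s = false := fun w hw => by
    rw [hs]; split
    · rw [M.b_comm]; exact hw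
    · rw [M.b_comm, M.b_zero_left]
  have hsum : M.b v (N n + N m + s) = false := by
    rw [M.b_add_right, M.b_add_right, hbv n hn, hbv m hm, hsb v (M.b_self v)]; rfl
  have hqsum : M.q (N n + N m + s) = false := by
    have h1 : M.b v (N n + N m) = false := by rw [M.b_add_right, hbv n hn, hbv m hm]; rfl
    have h2 : M.q (N n + N m) = sf n m := by rw [M.q_add, hq n hn, hq m hm, hb n hn m hm]; simp
    rw [hs]; cases he : sf n m
    · rw [if_neg (by decide), add_zero, h2, he]
    · rw [if_pos rfl, q_add_v hqv hv h1, h2, he]; rfl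
  obtain ⟨k, hk, ek⟩ := hsurj _ hsum hqsum
  rw [ek]
  congr 1
  rcases sf_nondeg (k ^^^ (n ^^^ m)) (Nat.xor_lt_two_pow (n := 6) hk hx) with h0 | ⟨l, hl, h1⟩
  · exact ((Nat.xor_eq_zero_iff).1 h0).symm
  · exfalso
    have e := hb k hk l hl
    rw [← ek, M.b_add_left, M.b_add_left, hb n hn l hl, hb m hm l hl, M.b_comm s, hsb _ (hbv l hl), Bool.xor_false,
      sf_lin] at e
    rw [← sf_lin, ← e, Bool.xor_self] at h1
    exact absurd h1 (by decide)

end Cfsg.Agent.Co2Type
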