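import Cfsg.Agent.Lib.Co2Type.Coord
import Cfsg.Agent.Lib.Co2Type.NatFrame

/-!
No fixed vector: conjugates of `t` commuting with `t` and the element `q` of order four over the
fixed vector.
-/

set_option autoImplicit false
set_option linter.unusedSectionVars false
set_option maxRecDepth 20000

namespace Cfsg.Agent.Co2Type

open Subgroup Cfsg.Agent.LargeExtra

variable {G : Type*} [Group G] [Finite G] {V : Type*} [AddCommGroup V] [Finite V] {M : Mod V} {t : G}
  {Q : Subgroup G} (S : Coord M t Q) (F : NatFrame M) {q : G} (hq : q ∈ Q) (hqv : S.mk q = F.v)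

include hqv hq

theorem q_sq : q * q = t := by rw [S.mk_sq q hq, hqv, F.qv, zb_true]

theorem conj_q {c : G} (hc : c * t = t * c) : c * q * c⁻¹ = q ∨ c * q * c⁻¹ = q * t := by
  refine S.mk_eq hq (S.conj_mem_Q hc hq) ?_
  rw [S.mk_conj' (mem_centralizer_singleton_iff.2 hc) hq, hqv, F.fixed]

theorem comm_iff {x : G} (hx : x ∈ Q) : x * q = q * x ↔ M.b F.v (S.mk x) = false := by
  rw [S.comm_false hx hq, hqv, M.b_comm]

/-- The square of an element of `C` centralises `q`. -/
theorem sq_comm_q {c : G} (hc : c * t = t * c) : (c * c) * q = q * (c * c) := by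
  have h2 : c * c * q * (c * c)⁻¹ = q := by
    rcases conj_q S F hq hqv hc with e | e
    · calc c * c * q * (c * c)⁻¹ = c * (c * q * c⁻¹) * c⁻¹ := by group
        _ = q := by rw [e, e]
    · calc c * c * q * (c * c)⁻¹ = c * (c * q * c⁻¹) * c⁻¹ := by group
        _ = c * (q * t) * c⁻¹ := by rw [e]
        _ = c * q * c⁻¹ * (c * t * c⁻¹) := by group
        _ = q * (t * t) := by rw [e, hc, mul_inv_cancel_right, mul_assoc]
        _ = q := by rw [S.ctr.zz, mul_one]
  exact mul_inv_eq_iff_eq_mul.1 h2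

/-- If `u = g t g⁻¹` commutes with `t` and `q` then `t` commutes with `g q g⁻¹`. -/
theorem pair {g : G} (hut : g * t * g⁻¹ * t = t * (g * t * g⁻¹)) (huq : g * t * g⁻¹ * q = q * (g * t * g⁻¹)) :
    g * q * g⁻¹ * t = t * (g * q * g⁻¹) := by
  have hc : g⁻¹ * q * g * t = t * (g⁻¹ * q * g) := by
    calc g⁻¹ * q * g * t = g⁻¹ * (q * (g * t * g⁻¹)) * g := by group
      _ = g⁻¹ * (g * t * g⁻¹ * q) * g := by rw [huq]
      _ = t * (g⁻¹ * q * g) := by group
  have h := sq_comm_q S F hq hqv hc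
  rw [show g⁻¹ * q * g * (g⁻¹ * q * g) = g⁻¹ * (q * q) * g by group, q_sq S F hq hqv] at h
  calc g * q * g⁻¹ * t = g * (q * (g⁻¹ * t * g)) * g⁻¹ := by group
    _ = g * (g⁻¹ * t * g * q) * g⁻¹ := by rw [h]
    _ = t * (g * q * g⁻¹) := by group

/-- `(i)`: a conjugate of `t` commuting with `t` and `q` lies in `Q`. -/
theorem mem_of_comm {g : G} (hut : g * t * g⁻¹ * t = t * (g * t * g⁻¹))
    (huq : g * t * g⁻¹ * q = q * (g * t * g⁻¹)) : g * t * g⁻¹ ∈ Q := by
  by_contra hout
  set p := g * q * g⁻¹ with hp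
  set u := g * t * g⁻¹ with hu
  have hpt : p * t = t * p := pair S F hq hqv hut huq
  have hpp : p * p = u := by
    calc p * p = g * (q * q) * g⁻¹ := by rw [hp]; group
      _ = u := by rw [q_sq S F hq hqv]
  have hpu : p * u = u * p :=
    (congrArg (p * ·) hpp).symm.trans ((mul_assoc p p p).symm.trans (congrArg (· * p) hpp))
  set P : ↥(centralizer ({t} : Set G)) := ⟨p, mem_centralizer_singleton_iff.2 hpt⟩ with hP
  set U : ↥(centralizer ({t} : Set G)) := ⟨u, mem_centralizer_singleton_iff.2 hut⟩ with hU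
  set h := S.π P with hh
  have hUP : S.π U = h * h := by rw [hh, ← map_mul]; congr 1; exact Subtype.ext hpp.symm
  have h4 : h * h * (h * h) = 1 := by
    rw [← hUP, ← map_mul, S.ker]
    show u * u ∈ Q
    rw [hu, show g * t * g⁻¹ * (g * t * g⁻¹) = g * (t * t) * g⁻¹ by group, S.ctr.zz, mul_one, mul_inv_cancel]
    exact Q.one_mem
  -- elements of `Q` centralising `u` centralise `p`
  have hcen : ∀ x ∈ Q, x * u = u * x → x * p = p * x := by
    intro x hx hxu
    have hc : g⁻¹ * x * g * t = t * (g⁻¹ * x * g) := by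
      calc g⁻¹ * x * g * t = g⁻¹ * (x * u) * g := by rw [hu]; group
        _ = g⁻¹ * (u * x) * g := by rw [hxu]
        _ = t * (g⁻¹ * x * g) := by rw [hu]; group
    rcases conj_q S F hq hqv hc with e | e
    · have e' : x * p * x⁻¹ = p := by
        calc x * p * x⁻¹ = g * (g⁻¹ * x * g * q * (g⁻¹ * x * g)⁻¹) * g⁻¹ := by rw [hp]; group
          _ = p := by rw [e]
      exact mul_inv_eq_iff_eq_mul.1 e'
    · exfalso
      have e' : x * p * x⁻¹ = p * u := by
        calc x * p * x⁻¹ = g * (g⁻¹ * x * g * q * (g⁻¹ * x * g)⁻¹) * g⁻¹ := by rw [hp]; group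
          _ = p * u := by rw [e, hp, hu]; group
      apply hout
      have e2 : x * p * x⁻¹ * p⁻¹ = u := by rw [e', hpu, mul_inv_cancel_right]
      rw [← e2, show x * p * x⁻¹ * p⁻¹ = x * (p * x⁻¹ * p⁻¹) by group]
      exact Q.mul_mem hx (S.conj_mem_Q hpt (Q.inv_mem hx))
  have hxu_of : ∀ x ∈ Q, ∀ y, S.mk x = y → x * u = u * x → M.ρ h y = y := by
    intro x hx y e hxu
    rw [← e, hh, ← S.mk_conj P x hx]
    show S.mk (p * x * p⁻¹) = _
    rw [← hcen x hx hxu, mul_inv_cancel_right]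
  have hfix2 : ∀ x ∈ Q, M.ρ (h * h) (S.mk x) = S.mk x → x * u = u * x ∨ u * x * u⁻¹ = x * t := by
    intro x hx e
    rw [← hUP, ← S.mk_conj U x hx] at e
    rcases S.mk_eq hx (S.conj_mem_Q hut hx) e.symm with e' | e'
    · exact .inl ((mul_inv_eq_iff_eq_mul.1 e').symm)
    · exact .inr e'
  have hH : ∀ y, M.ρ (h * h) y = y → dif M h y = 0 ∨ ∀ z, M.ρ (h * h) z = z → dif M h z ≠ 0 → dif M h z = dif M h y := by
    intro y hy
    refine or_iff_not_imp_left.2 fun hy0 z hz hz0 => ?_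
    obtain ⟨x, hx, rfl⟩ := S.mk_surj y
    obtain ⟨w, hw, rfl⟩ := S.mk_surj z
    have key : ∀ x ∈ Q, M.ρ (h * h) (S.mk x) = S.mk x → dif M h (S.mk x) ≠ 0 → u * x * u⁻¹ = x * t := by
      intro x hx hxf hx0
      refine (hfix2 x hx hxf).resolve_left fun hxu => hx0 ?_
      rw [dif, hxu_of x hx _ rfl hxu, M.add_self]
    have hwx : w * x * u = u * (w * x) := by
      have e1 := key x hx hy hy0
      have e2 := key w hw hz hz0
      have e3 : u * (w * x) * u⁻¹ = w * x := by
        calc u * (w * x) * u⁻¹ = (u * w * u⁻¹) * (u * x * u⁻¹) := by group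
          _ = w * (t * x) * t := by rw [e1, e2]; group
          _ = w * x * (t * t) := by rw [← S.ctr.comm hx]; group
          _ = w * x := by rw [S.ctr.zz, mul_one]
      exact (mul_inv_eq_iff_eq_mul.1 e3).symm
    have := hxu_of (w * x) (Q.mul_mem hw hx) _ (S.mk_mul w hw x hx) hwx
    have e0 : dif M h (S.mk w + S.mk x) = 0 := by rw [dif, this, M.add_self]
    rw [dif_add] at e0
    calc dif M h (S.mk w) = dif M h (S.mk w) + (dif M h (S.mk x) + dif M h (S.mk x)) := by rw [M.add_self, add_zero]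
      _ = dif M h (S.mk x) := by rw [← add_assoc, e0, zero_add]
  -- the differences
  set n := dif M h with hn
  have hn2 : ∀ y, n (n y) = dif M (h * h) y := by
    intro y
    simp only [hn, dif, map_add, Mod.rho_mul]
    rw [show ∀ a b c : V, a + b + (b + c) = a + c + (b + b) from fun a b c => by abel, M.add_self, add_zero]
  have hn4 : ∀ y, n (n (n (n y))) = 0 := by
    intro y
    rw [hn2, hn2, dif, dif_dif M h4, M.add_self]
  have hfix : ∀ y, n (n y) = 0 ↔ M.ρ (h * h) y = y := fun y => by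
    rw [hn2]; exact ⟨eq_of_dif_zero M, fun e => by rw [dif, e, M.add_self]⟩
  obtain ⟨y1, hy1⟩ : ∃ y, n (n y) ≠ 0 := by
    by_contra hc
    push Not at hc
    exact hout (S.mem_of_rho (c := U) fun y => by rw [hUP]; exact (hfix y).1 (hc y))
  obtain ⟨w, hw0, hw1, w2, hw2⟩ : ∃ w, w ≠ 0 ∧ n w = 0 ∧ ∃ y, w = n (n y) := by
    by_cases h3 : n (n (n y1)) = 0
    · exact ⟨_, hy1, h3, _, rfl⟩
    · exact ⟨_, h3, hn4 _, _, rfl⟩
  have hd0 : n (n w2) ≠ 0 := hw2 ▸ hw0
  have hd2 : n (n (n w2)) = 0 := hw2 ▸ hw1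
  set y := n w2 with hy
  have hyf : M.ρ (h * h) y = y := (hfix y).1 hd2
  obtain ⟨x, hx, hxy⟩ := S.mk_surj y
  have hxu : u * x * u⁻¹ = x * t := by
    rw [← hxy] at hyf
    refine (hfix2 x hx hyf).resolve_left fun hxu => hd0 ?_
    rw [← hxy, hn, dif, hxu_of x hx _ rfl hxu, M.add_self]
  -- the vector `d` is singular
  have hqd : M.q (n y) = false := by
    have hq1 : M.q (n y) = M.b y (M.ρ h y) := by
      rw [hn, dif, M.q_add, M.q_inv, Bool.xor_self, Bool.false_xor]
    have hb : M.b y (n y) = false := by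
      rw [hy, hn2]
      have hyf' : M.ρ (h * h) (n w2) = n w2 := hyf
      have e : M.b (n w2) (M.ρ (h * h) w2) = M.b (n w2) w2 := by
        conv_lhs => rw [← hyf', M.b_inv]
      rw [dif, M.b_add_right, e, Bool.xor_self]
    rw [hq1]
    rw [hn, dif, M.b_add_right, M.b_self, Bool.false_xor] at hb
    exact hb
  -- but its square is `t`
  set d := p * x * p⁻¹ * x⁻¹ with hd
  have hdQ : d ∈ Q := Q.mul_mem (S.conj_mem_Q hpt hx) (Q.inv_mem hx)
  have hmd : S.mk d = n y := by
    rw [hd, S.mk_mul _ (S.conj_mem_Q hpt hx) _ (Q.inv_mem hx), S.mk_inv hx, hxy, hn, dif, add_comm]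
    congr 1
    rw [hh, ← hxy, ← S.mk_conj P x hx]
  have hdu : d * u = u * d := by
    refine (hfix2 d hdQ ?_).resolve_right fun e => ?_
    · rw [hmd]; refine (hfix _).1 ?_; rw [hd2]; exact dif_zero' M h
    · -- then `x d` centralises `u`
      have e3 : u * (x * d) * u⁻¹ = x * d := by
        calc u * (x * d) * u⁻¹ = (u * x * u⁻¹) * (u * d * u⁻¹) := by group
          _ = x * (t * d) * t := by rw [hxu, e]; group
          _ = x * d * (t * t) := by rw [← S.ctr.comm hdQ]; group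
          _ = x * d := by rw [S.ctr.zz, mul_one]
      have := hxu_of (x * d) (Q.mul_mem hx hdQ) _ (S.mk_mul x hx d hdQ) (mul_inv_eq_iff_eq_mul.1 e3).symm
      rw [hxy, hmd] at this
      have e0 : n (y + n y) = 0 := by rw [hn, dif, this, M.add_self]
      rw [hn, dif_add, ← hn, hd2, add_zero] at e0
      exact hd0 e0
  have hdp := hcen d hdQ hdu
  have hd1 : d * d = 1 := (S.sq_false hdQ).2 (by rw [hmd]; exact hqd)
  have e1 : p * x * p⁻¹ = d * x := by rw [hd, inv_mul_cancel_right]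
  have e2 : x * p * x⁻¹ = d⁻¹ * p := by rw [hd]; group
  have e4 : x * u * x⁻¹ = d⁻¹ * d⁻¹ * u := by
    calc x * u * x⁻¹ = (x * p * x⁻¹) * (x * p * x⁻¹) := by rw [← hpp]; group
      _ = d⁻¹ * (p * d⁻¹) * p := by rw [e2]; group
      _ = d⁻¹ * (d⁻¹ * p) * p := by
        rw [show p * d⁻¹ = d⁻¹ * p by rw [eq_inv_mul_iff_mul_eq, ← mul_assoc, hdp, mul_inv_cancel_right]]
      _ = d⁻¹ * d⁻¹ * u := by rw [← hpp]; group
  rw [← mul_inv_rev, hd1, inv_one, one_mul] at e4
  have hut' : x⁻¹ * (u * x * u⁻¹) = 1 := by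
    rw [← mul_inv_eq_iff_eq_mul.1 e4, mul_assoc, mul_inv_cancel, mul_one, inv_mul_cancel]
  rw [hxu, inv_mul_cancel_left] at hut'
  exact S.ctr.ne_one hut'

end Cfsg.Agent.Co2Type
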