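import Cfsg.Agent.Lib.Co2Type.ExclRefl

/-!
No fixed vector: the elements common to `Q` and the conjugate of `Q` at a commuting conjugate.
-/

set_option autoImplicit false
set_option linter.unusedSectionVars false
set_option maxRecDepth 20000

namespace Cfsg.Agent.Co2Type

open Subgroup Cfsg.Agent.LargeExtra

variable {G : Type*} [Group G] [Finite G] {V : Type*} [AddCommGroup V] [Finite V] {M : Mod V} {t : G}
  {Q : Subgroup G} (S : Coord M t Q) (F : NatFrame M) {q : G} (hq : q ∈ Q) (hqv : S.mk q = F.v)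

/-- `Q ∩ g Q g⁻¹`. -/
def meet (Q : Subgroup G) (g : G) : Subgroup G := Q ⊓ Q.map (MulAut.conj g).toMonoidHom

theorem mem_meet {g z : G} : z ∈ meet Q g ↔ z ∈ Q ∧ g⁻¹ * z * g ∈ Q := by
  rw [meet, mem_inf, mem_map_equiv, MulAut.conj_symm_apply]

include hqv hq

theorem meet_facts {g : G} (hut : g * t * g⁻¹ * t = t * (g * t * g⁻¹)) (hu : g * t * g⁻¹ ≠ t) {z : G}
    (hz : z ∈ meet Q g) :
    z * (g * t * g⁻¹) = g * t * g⁻¹ * z ∧ z * z = 1 ∧ (S.mk z = 0 → z = 1) ∧
      ∀ w ∈ meet Q g, z * w = w * z := by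
  obtain ⟨hzQ, hzg⟩ := mem_meet.1 hz
  have ht' : t ∉ Q.map (MulAut.conj g).toMonoidHom := by
    intro e
    rw [mem_map_equiv, MulAut.conj_symm_apply] at e
    have h := weak_fixed S F hq hqv (g := g⁻¹) (by rwa [inv_inv])
    rw [inv_inv] at h
    exact hu (by rw [show g * t * g⁻¹ = g * (g⁻¹ * t * g) * g⁻¹ by rw [h]]; group)
  have hno : ∀ x ∈ Q, x * x = 1 ∨ x * x = t := fun x hx => S.ctr.sq_cases hx
  refine ⟨?_, ?_, ?_, ?_⟩
  · calc z * (g * t * g⁻¹) = g * (g⁻¹ * z * g * t) * g⁻¹ := by group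
      _ = g * (t * (g⁻¹ * z * g)) * g⁻¹ := by rw [S.ctr.comm hzg]
      _ = _ := by group
  · refine (hno z hzQ).resolve_right fun e => ?_
    rcases hno _ hzg with e' | e'
    · refine S.ctr.ne_one ?_
      calc t = g * (g⁻¹ * z * g * (g⁻¹ * z * g)) * g⁻¹ := by rw [← e]; group
        _ = 1 := by rw [e', mul_one, mul_inv_cancel]
    · exact hu (by
        calc g * t * g⁻¹ = g * (g⁻¹ * z * g * (g⁻¹ * z * g)) * g⁻¹ := by rw [e']
          _ = z * z := by group
          _ = t := e)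
  · intro e
    refine (S.mk_cases z hzQ e).resolve_right fun e' => ?_
    exact ht' (e' ▸ (mem_inf.1 hz).2)
  · intro w hw
    obtain ⟨hwQ, hwg⟩ := mem_meet.1 hw
    cases hb : M.b (S.mk z) (S.mk w)
    · exact (S.comm_false hzQ hwQ).2 hb
    exfalso
    have e := S.conj_true hzQ hwQ hb
    cases hb' : M.b (S.mk (g⁻¹ * z * g)) (S.mk (g⁻¹ * w * g))
    · have e' : z * w * z⁻¹ = w := by
        rw [mul_inv_eq_iff_eq_mul]
        calc z * w = g * ((g⁻¹ * z * g) * (g⁻¹ * w * g)) * g⁻¹ := by group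
          _ = g * ((g⁻¹ * w * g) * (g⁻¹ * z * g)) * g⁻¹ := by rw [(S.comm_false hzg hwg).2 hb']
          _ = w * z := by group
      rw [e'] at e
      exact S.ctr.ne_one (right_eq_mul.1 e)
    · have e' : z * w * z⁻¹ = g * t * g⁻¹ * w := by
        have h := S.conj_true hzg hwg hb'
        calc z * w * z⁻¹ = g * ((g⁻¹ * z * g) * (g⁻¹ * w * g) * (g⁻¹ * z * g)⁻¹) * g⁻¹ := by group
          _ = g * t * g⁻¹ * w := by rw [h]; group
      rw [e] at e'
      exact hu (mul_right_cancel e').symm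

omit hqv hq in
/-- The meet depends on the conjugate only, and is carried by conjugation. -/
theorem meet_conj (S : Coord M t Q) {g k x : G} (hx : x * t = t * x) (h : k * t * k⁻¹ = x * (g * t * g⁻¹) * x⁻¹) {z : G}
    (hz : z ∈ meet Q g) : x * z * x⁻¹ ∈ meet Q k := by
  obtain ⟨hzQ, hzg⟩ := mem_meet.1 hz
  refine mem_meet.2 ⟨S.conj_mem_Q hx hzQ, ?_⟩
  have hc : k⁻¹ * x * g * t = t * (k⁻¹ * x * g) := by
    calc k⁻¹ * x * g * t = k⁻¹ * (x * (g * t * g⁻¹) * x⁻¹) * x * g := by group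
      _ = k⁻¹ * (k * t * k⁻¹) * x * g := by rw [h]
      _ = t * (k⁻¹ * x * g) := by group
  rw [show k⁻¹ * (x * z * x⁻¹) * k = (k⁻¹ * x * g) * (g⁻¹ * z * g) * (k⁻¹ * x * g)⁻¹ by group]
  exact S.conj_mem_Q hc hzg

set_option maxHeartbeats 2000000 in
/-- An element of the meet orthogonal to `v` has index `0` or `1`, for the conjugate over `tau 1`. -/
theorem meet_index {g : G} (hut : g * t * g⁻¹ * t = t * (g * t * g⁻¹)) (hu : g * t * g⁻¹ ≠ t)
    (hπ : S.π ⟨g * t * g⁻¹, mem_centralizer_singleton_iff.2 hut⟩ = tau 1)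
    (hform : ∀ y, dif M (tau 1) y = if M.b y (F.N 1 + F.v) then F.N 1 + F.v else 0)
    {z : G} (hz : z ∈ meet Q g) (hzv : M.b F.v (S.mk z) = false) :
    S.mk z = 0 ∨ S.mk z = F.N 1 := by
  classical
  set u := g * t * g⁻¹ with hug
  -- the indices
  have hfix : ∀ z ∈ meet Q g, M.b (S.mk z) (F.N 1 + F.v) = false := by
    intro z hz
    have hzQ := (mem_meet.1 hz).1
    have hc := (meet_facts S F hq hqv hut hu hz).1
    have e : M.ρ (tau 1) (S.mk z) = S.mk z := by
      rw [← hπ, ← S.mk_conj' _ hzQ]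
      show S.mk (u * z * u⁻¹) = _
      rw [← hc, mul_inv_cancel_right]
    have h0 := hform (S.mk z)
    rw [dif, e, M.add_self] at h0
    by_contra hb
    rw [Bool.not_eq_false] at hb
    rw [hb, if_pos rfl] at h0
    have hqa := q_add_v F.qv F.fixed (F.bv 1 (by norm_num))
    rw [← h0, M.q_zero, F.q_N 1 (by norm_num)] at hqa
    exact absurd hqa (by decide)
  let L : ℕ → Prop := fun k => k < 64 ∧ ∃ z ∈ meet Q g, S.mk z = F.N k
  have hidx : ∀ z ∈ meet Q g, M.b F.v (S.mk z) = false → ∃ k, L k ∧ S.mk z = F.N k := by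
    intro z hz hv
    obtain ⟨k, hk, e⟩ := F.surj _ hv ((S.sq_false (mem_meet.1 hz).1).1 (meet_facts S F hq hqv hut hu hz).2.1)
    exact ⟨k, ⟨hk, z, hz, e⟩, e⟩
  have hL1 : ∀ k, L k → sf k 1 = false := by
    rintro k ⟨hk, z, hz, e⟩
    have := hfix z hz
    rwa [e, M.b_add_right, F.b_N k hk 1 (by norm_num), M.b_comm _ F.v, F.bv k hk, Bool.xor_false] at this
  have hLL : ∀ k, L k → ∀ m, L m → sf k m = false := by
    rintro k ⟨hk, z, hz, e⟩ m ⟨hm, w, hw, e'⟩
    have := (S.comm_false (mem_meet.1 hz).1 (mem_meet.1 hw).1).1 ((meet_facts S F hq hqv hut hu hz).2.2.2 w hw)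
    rwa [e, e', F.b_N k hk m hm] at this
  have hLadd : ∀ k, L k → ∀ m, L m → L (k ^^^ m) := by
    intro k hk m hm
    have hs := hLL k hk m hm
    obtain ⟨hk, z, hz, e⟩ := hk
    obtain ⟨hm, w, hw, e'⟩ := hm
    refine ⟨Nat.xor_lt_two_pow (n := 6) hk hm, z * w, (meet Q g).mul_mem hz hw, ?_⟩
    rw [S.mk_mul _ (mem_meet.1 hz).1 _ (mem_meet.1 hw).1, e, e', F.add k hk m hm, hs, if_neg (by decide), add_zero]
  obtain ⟨k, hkL, ek⟩ := hidx z hz hzv
  by_cases hk1 : k ≤ 1
  · interval_cases k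
    · exact .inl (ek.trans F.N_zero)
    · exact .inr ek
  exfalso
  -- the list spanning the indices
  have hkb : 1 < k := by omega
  obtain ⟨l, hlen, hlsub, hlfull, hl64⟩ : ∃ l : List ℕ, 7 ≤ (orbitSets l).length ∧
      (∀ x ∈ l, L x ∨ L (x ^^^ 1) ∨ x = 0 ∨ x = 1) ∧ (∀ m, L m → m ∈ l ∧ m ^^^ 1 ∈ l) ∧ (0 ∈ l ∧ 1 ∈ l) := by
    have l0 : L 0 := ⟨by norm_num, 1, (meet Q g).one_mem, by rw [S.mk_one, F.N_zero]⟩
    by_cases hex : ∃ m, L m ∧ m ∉ span2 k
    · obtain ⟨m, hmL, hms⟩ := hex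
      refine ⟨span3 k m, orbit_three k hkL.1 m hmL.1 (hL1 k hkL) (hL1 m hmL) (hLL k hkL m hmL) hkb hms, ?_, ?_, ?_⟩
      · intro x hx
        simp only [span3, span2, List.map_cons, List.map_nil, List.mem_append, List.mem_cons, List.not_mem_nil, or_false] at hx
        rcases hx with (rfl | rfl | rfl | rfl) | (rfl | rfl | rfl | rfl)
        · exact .inr (.inr (.inl rfl))
        · exact .inr (.inr (.inr rfl))
        · exact .inl hkL
        · exact .inr (.inl (by rw [Nat.xor_assoc, Nat.xor_self, Nat.xor_zero]; exact hkL))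
        · exact .inl (by rw [Nat.zero_xor]; exact hmL)
        · exact .inr (.inl (by rw [Nat.xor_comm 1 m, Nat.xor_assoc, Nat.xor_self, Nat.xor_zero]; exact hmL))
        · exact .inl (hLadd k hkL m hmL)
        · exact .inr (.inl (by
            rw [show k ^^^ 1 ^^^ m ^^^ 1 = k ^^^ m by
              rw [Nat.xor_assoc k 1 m, Nat.xor_comm 1 m, ← Nat.xor_assoc k m 1, Nat.xor_assoc, Nat.xor_self, Nat.xor_zero]]
            exact hLadd k hkL m hmL))
      · intro x hxL
        have h1 := span3_full k hkL.1 m hmL.1 (hL1 k hkL) (hL1 m hmL) (hLL k hkL m hmL) hkb hms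
        refine ⟨h1 x hxL.1 (hL1 x hxL) (hLL x hxL k hkL) (hLL x hxL m hmL),
          h1 _ (Nat.xor_lt_two_pow (n := 6) hxL.1 (by norm_num)) ?_ ?_ ?_⟩
        · rw [← sf_lin, hL1 x hxL]; rfl
        · rw [← sf_lin, hLL x hxL k hkL, sf_swap 1 (by norm_num) k hkL.1, hL1 k hkL]; rfl
        · rw [← sf_lin, hLL x hxL m hmL, sf_swap 1 (by norm_num) m hmL.1, hL1 m hmL]; rfl
      · simp [span3, span2]
    · push Not at hex
      refine ⟨span2 k, orbit_two k hkL.1 (hL1 k hkL) hkb, ?_, ?_, by simp [span2]⟩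
      · intro x hx
        simp only [span2, List.mem_cons, List.not_mem_nil, or_false] at hx
        rcases hx with rfl | rfl | rfl | rfl
        · exact .inr (.inr (.inl rfl))
        · exact .inr (.inr (.inr rfl))
        · exact .inl hkL
        · exact .inr (.inl (by rw [Nat.xor_assoc, Nat.xor_self, Nat.xor_zero]; exact hkL))
      · intro x hxL
        refine ⟨hex x hxL, ?_⟩
        have := hex x hxL
        simp only [span2, List.mem_cons, List.not_mem_nil, or_false] at this ⊢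
        rcases this with rfl | rfl | rfl | rfl
        · exact .inr (.inl rfl)
        · exact .inl rfl
        · exact .inr (.inr (.inr rfl))
        · exact .inr (.inr (.inl (by rw [Nat.xor_assoc, Nat.xor_self, Nat.xor_zero])))
  -- seven elements fixing the first unit vector with different images of the list
  have hsel : ∀ i : Fin 7, ∃ w ∈ fixWords,
      (l.map (ap (code6 w))).toFinset = (orbitSets l)[i.val]'(lt_of_lt_of_le i.isLt hlen) := by
    intro i
    have := List.getElem_mem (l := orbitSets l) (lt_of_lt_of_le i.isLt hlen)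
    simp only [orbitSets, List.mem_dedup, List.mem_map] at this
    obtain ⟨a, ha, e⟩ := this
    rw [← fixCodes_eq, List.mem_map] at ha
    obtain ⟨w, hw, rfl⟩ := ha
    exact ⟨w, hw, e⟩
  choose w hw himg using hsel
  have hfix1 : ∀ i, ap (code6 (w i)) 1 % 64 = 1 := fun i => by
    have h : ∀ a ∈ fixCodes, ap a 1 % 64 = 1 := by decide +kernel
    exact h _ (fixCodes_eq ▸ List.mem_map_of_mem (hw i))
  have hnat : ∀ i, ∀ x : ℕ, ((xw (w i) : X6) : Matrix (Fin 3 ⊕ Fin 3) (Fin 3 ⊕ Fin 3) (ZMod 2)).mulVec (dec6 x) =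
      dec6 (ap (code6 (w i)) x % 64) := fun i x => by rw [dec6_mod]; exact (nat6_xw (w i)).2 x
  have hlt : ∀ a ∈ fixCodes, ∀ x < 64, ap a x % 64 = ap a x := by decide +kernel
  have hap : ∀ i, ∀ x < 64, ap (code6 (w i)) x % 64 = ap (code6 (w i)) x := fun i =>
    hlt _ (fixCodes_eq ▸ List.mem_map_of_mem (hw i))
  choose c hc using fun i => S.lift (xw (w i))
  let G' : Fin 7 → G := fun i => (c i : G) * g
  have hW : ∀ i, G' i * t * (G' i)⁻¹ = (c i : G) * u * (c i : G)⁻¹ := fun i => by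
    show (c i : G) * g * t * ((c i : G) * g)⁻¹ = _
    rw [hug]; group
  have hct : ∀ i, (c i : G) * t = t * (c i : G) := fun i => mem_centralizer_singleton_iff.1 (c i).2
  have hwt : ∀ i, G' i * t * (G' i)⁻¹ * t = t * (G' i * t * (G' i)⁻¹) := by
    intro i
    rw [hW]
    have hci : (c i : G)⁻¹ * t = t * (c i : G)⁻¹ := by
      rw [inv_mul_eq_iff_eq_mul, ← mul_assoc, hct i, mul_inv_cancel_right]
    calc (c i : G) * u * (c i : G)⁻¹ * t = (c i : G) * (u * t) * (c i : G)⁻¹ := by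
          rw [mul_assoc, hci]; group
      _ = (c i : G) * t * u * (c i : G)⁻¹ := by rw [hut]; group
      _ = _ := by rw [hct i]; group
  have hwne : ∀ i, G' i * t * (G' i)⁻¹ ≠ t := by
    intro i e
    rw [hW, mul_inv_eq_iff_eq_mul, ← hct i] at e
    exact hu (mul_left_cancel e)
  have hπw : ∀ i, S.π ⟨G' i * t * (G' i)⁻¹, mem_centralizer_singleton_iff.2 (hwt i)⟩ = tau 1 := by
    intro i
    rw [show (⟨G' i * t * (G' i)⁻¹, mem_centralizer_singleton_iff.2 (hwt i)⟩ : ↥(centralizer ({t} : Set G))) =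
      c i * ⟨u, mem_centralizer_singleton_iff.2 hut⟩ * (c i)⁻¹ from Subtype.ext (hW i), map_mul, map_mul, map_inv, hπ, hc]
    refine tau_conj _ ?_
    rw [hnat i 1, hfix1]
  -- conjugate elements of the coset give equal images
  have hsame : ∀ i j, i ≠ j → ∀ x ∈ Q,
      G' j * t * (G' j)⁻¹ ≠ x * (G' i * t * (G' i)⁻¹) * x⁻¹ := by
    intro i j hij x hx e
    apply hij
    have key : ∀ i j, ∀ x ∈ Q, G' j * t * (G' j)⁻¹ = x * (G' i * t * (G' i)⁻¹) * x⁻¹ →
        ∀ m ∈ l, ap (code6 (w i)) m ∈ l.map (ap (code6 (w j))) := by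
      intro i j x hx e m hm
      have hL' : ∀ m, L m → ∃ m', L m' ∧ ap (code6 (w i)) m = ap (code6 (w j)) m' := by
        rintro m ⟨hm64, z, hz, ez⟩
        have h1 := meet_conj S (hct i) (hW i) hz
        have h2 := meet_conj S (S.ctr.comm hx) e h1
        have hcj : (c j : G)⁻¹ * t = t * (c j : G)⁻¹ := by
          rw [inv_mul_eq_iff_eq_mul, ← mul_assoc, hct j, mul_inv_cancel_right]
        have h3 := meet_conj S (k := g) hcj (by rw [hW, hug, inv_inv]; group) h2
        obtain ⟨hzQ, -⟩ := mem_meet.1 h1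
        obtain ⟨hzQ2, -⟩ := mem_meet.1 h2
        obtain ⟨hzQ3, -⟩ := mem_meet.1 h3
        set z3 := (c j : G)⁻¹ * (x * ((c i : G) * z * (c i : G)⁻¹) * x⁻¹) * (c j : G)⁻¹⁻¹
        have e3 : M.ρ (xw (w j)) (S.mk z3) = M.ρ (xw (w i)) (S.mk z) := by
          rw [← hc j, ← hc i, ← S.mk_conj (c j) z3 hzQ3, ← S.mk_conj (c i) z (mem_meet.1 hz).1]
          rw [show (c j : G) * z3 * (c j : G)⁻¹ = x * ((c i : G) * z * (c i : G)⁻¹) * x⁻¹ by simp only [z3]; group,
            S.mk_conj' (S.mem_C hx) hzQ, S.pi_Q hx, Mod.rho_one]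
        rw [ez, F.act _ m hm64 _ (Nat.mod_lt _ (by norm_num)) (hnat i m)] at e3
        have hv3 : M.b F.v (S.mk z3) = false := by
          conv_lhs => rw [← M.b_inv (xw (w j)), F.fixed, e3]
          exact F.bv _ (Nat.mod_lt _ (by norm_num))
        obtain ⟨m', hm', em'⟩ := hidx z3 h3 hv3
        refine ⟨m', hm', ?_⟩
        rw [em', F.act _ m' hm'.1 _ (Nat.mod_lt _ (by norm_num)) (hnat j m')] at e3
        have := F.inj _ (Nat.mod_lt _ (by norm_num)) _ (Nat.mod_lt _ (by norm_num)) e3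
        rw [hap i m hm64, hap j m' hm'.1] at this
        exact this.symm
      have h1 : ∀ i, ap (code6 (w i)) 1 = 1 := fun i => (hap i 1 (by norm_num)).symm.trans (hfix1 i)
      have hlin : ∀ a ∈ fixCodes, ∀ y < 64, ap a (y ^^^ 1) = ap a y ^^^ ap a 1 := by decide +kernel
      have hlin' : ∀ i, ∀ y < 64, ap (code6 (w i)) (y ^^^ 1) = ap (code6 (w i)) y ^^^ 1 := fun i y hy => by
        rw [hlin _ (fixCodes_eq ▸ List.mem_map_of_mem (hw i)) y hy, h1]
      rw [List.mem_map]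
      rcases hlsub m hm with hmL | hmL | rfl | rfl
      · obtain ⟨m', hm', e'⟩ := hL' m hmL
        exact ⟨m', (hlfull m' hm').1, e'.symm⟩
      · obtain ⟨m', hm', e'⟩ := hL' _ hmL
        refine ⟨m' ^^^ 1, (hlfull m' hm').2, ?_⟩
        have hm64 : m < 64 := by
          have := Nat.xor_lt_two_pow (n := 6) hmL.1 (show 1 < 2 ^ 6 by norm_num)
          rwa [Nat.xor_assoc, Nat.xor_self, Nat.xor_zero] at this
        rw [hlin' j m' hm'.1, ← e', hlin' i m hm64, Nat.xor_assoc, Nat.xor_self, Nat.xor_zero]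
      · exact ⟨0, hl64.1, by simp [ap_zero]⟩
      · exact ⟨1, hl64.2, by rw [h1, h1]⟩
    have e' : G' i * t * (G' i)⁻¹ = x⁻¹ * (G' j * t * (G' j)⁻¹) * x⁻¹⁻¹ := by rw [e]; group
    have heq : (l.map (ap (code6 (w i)))).toFinset = (l.map (ap (code6 (w j)))).toFinset := by
      ext y
      simp only [List.mem_toFinset]
      constructor <;> intro hy <;> obtain ⟨m, hm, rfl⟩ := List.mem_map.1 hy
      · exact key i j x hx e m hm
      · exact key j i x⁻¹ (Q.inv_mem hx) e' m hm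
    rw [himg, himg] at heq
    exact Fin.ext ((List.Nodup.getElem_inj_iff (List.nodup_dedup _)).1 heq)
  have hnc : ∀ i j, i ≠ j →
      (G' i * t * (G' i)⁻¹) * (G' j * t * (G' j)⁻¹) ≠ (G' j * t * (G' j)⁻¹) * (G' i * t * (G' i)⁻¹) := by
    intro i j hij e
    rcases only_pair S F hq hqv (hwt i) (hwt j) e.symm (hwne i) (hwne j) with e' | e'
    · exact hsame i j hij 1 Q.one_mem (by rw [one_mul, inv_one, mul_one]; exact e')
    · exact hsame i j hij q hq (e'.trans (q_conj_u S F hq hqv (hwt i) (hwne i)).symm)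
  set W : Fin 7 → G := fun i => G' i * t * (G' i)⁻¹ with hWdef
  have hWW : ∀ i, W i * W i = 1 := fun i => conj_sq S.ctr.zz
  have hprod : ∀ i j, W i * W j ∈ Q := by
    intro i j
    have hm : W i * W j ∈ centralizer ({t} : Set G) :=
      mul_mem (mem_centralizer_singleton_iff.2 (hwt i)) (mem_centralizer_singleton_iff.2 (hwt j))
    refine (S.ker ⟨_, hm⟩).1 ?_
    rw [show (⟨W i * W j, hm⟩ : ↥(centralizer ({t} : Set G))) =
      ⟨W i, mem_centralizer_singleton_iff.2 (hwt i)⟩ * ⟨W j, mem_centralizer_singleton_iff.2 (hwt j)⟩ from rfl,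
      map_mul]
    show S.π ⟨W i, _⟩ * S.π ⟨W j, _⟩ = 1
    simp only [hWdef]
    rw [hπw, hπw, tau, tv_sq]
  have hsq : ∀ i j, i ≠ j → M.q (S.mk (W i * W j)) = true := by
    intro i j hij
    by_contra hb
    rw [Bool.not_eq_true, ← S.sq_false (hprod i j)] at hb
    refine hnc i j hij ?_
    show W i * W j = W j * W i
    calc W i * W j = (W i * W j) * (W i * W j) * (W j * W i) := by
          rw [show W i * W j * (W i * W j) * (W j * W i) = W i * W j * W i * (W j * W j) * W i by group, hWW j, mul_one,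
            show W i * W j * W i * W i = W i * W j * (W i * W i) by group, hWW i, mul_one]
      _ = W j * W i := by rw [hb, one_mul]
  -- six vectors pairwise not orthogonal
  have hy : ∀ i : Fin 6, ∃ k, k < 64 ∧ sf k 1 = false ∧ S.mk (W 0 * W i.succ) = F.N k + F.v := by
    intro i
    set d := W 0 * W i.succ with hd
    have hdQ : d ∈ Q := hprod _ _
    have hdv : M.b F.v (S.mk d) = false := by
      refine (comm_iff S F hq hqv hdQ).1 ?_
      have e0 : q * W 0 * q⁻¹ = W 0 * t := q_conj_u S F hq hqv (hwt 0) (hwne 0)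
      have e1 : q * W i.succ * q⁻¹ = W i.succ * t := q_conj_u S F hq hqv (hwt _) (hwne _)
      have e : q * d * q⁻¹ = d := by
        calc q * d * q⁻¹ = (q * W 0 * q⁻¹) * (q * W i.succ * q⁻¹) := by rw [hd]; group
          _ = W 0 * (t * W i.succ) * t := by rw [e0, e1]; group
          _ = W 0 * W i.succ * (t * t) := by
            rw [show t * W i.succ = W i.succ * t from (hwt i.succ).symm]; group
          _ = d := by rw [S.ctr.zz, mul_one]
      exact (mul_inv_eq_iff_eq_mul.1 e).symm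
    have hqd : M.q (S.mk d) = true := hsq 0 i.succ (Fin.succ_ne_zero i).symm
    obtain ⟨k, hk, e⟩ := F.surj (S.mk d + F.v) (by rw [M.b_add_right, hdv, M.b_self]; rfl)
      (by rw [q_add_v F.qv F.fixed hdv, hqd]; rfl)
    have e' : S.mk d = F.N k + F.v := by rw [← e, add_assoc, M.add_self, add_zero]
    refine ⟨k, hk, ?_, e'⟩
    have hf : M.ρ (tau 1) (S.mk d) = S.mk d := by
      rw [← hπw 0, ← S.mk_conj' _ hdQ]
      show S.mk (W 0 * d * (W 0)⁻¹) = _
      have : W 0 * d * (W 0)⁻¹ = d⁻¹ := hd ▸ inv_prod (hWW 0) (hWW i.succ)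
      rw [this, S.mk_inv hdQ]
    have h0 := hform (S.mk d)
    rw [dif, hf, M.add_self, e', M.b_add_left, M.b_add_right, F.b_N k hk 1 (by norm_num), M.b_comm _ F.v, F.bv k hk,
      M.b_add_right, F.bv 1 (by norm_num), M.b_self] at h0
    by_contra hb
    rw [Bool.not_eq_false] at hb
    rw [hb] at h0
    simp only [Bool.xor_false, if_true] at h0
    have hqa := q_add_v F.qv F.fixed (F.bv 1 (by norm_num))
    rw [← h0, M.q_zero, F.q_N 1 (by norm_num)] at hqa
    exact absurd hqa (by decide)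
  choose K hK hK1 hKe using hy
  have hKK : ∀ i j, i ≠ j → sf (K i) (K j) = true := by
    intro i j hij
    have hi := hprod 0 i.succ
    have hj := hprod 0 j.succ
    have e : S.mk (W i.succ * W j.succ) = (F.N (K i) + F.v) + (F.N (K j) + F.v) := by
      rw [← hKe i, ← hKe j, ← S.mk_inv hi, ← S.mk_mul _ (Q.inv_mem hi) _ hj]
      congr 1
      rw [mul_inv_rev, inv_eq_of_mul_eq_one_right (hWW 0), inv_eq_of_mul_eq_one_right (hWW i.succ),
        show W i.succ * W 0 * (W 0 * W j.succ) = W i.succ * (W 0 * W 0) * W j.succ by group, hWW 0, mul_one]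
    have hv : (F.N (K i) + F.v) + (F.N (K j) + F.v) = F.N (K i) + F.N (K j) := by
      rw [show (F.N (K i) + F.v) + (F.N (K j) + F.v) = F.N (K i) + F.N (K j) + (F.v + F.v) by abel, M.add_self, add_zero]
    have h := hsq i.succ j.succ (fun e => hij (Fin.succ_injective _ e))
    rw [e, hv, M.q_add, F.q_N _ (hK i), F.q_N _ (hK j), F.b_N _ (hK i) _ (hK j)] at h
    simpa using h
  have hr : ∀ i, K i - K i % 2 ∈ perpReps := fun i => perpReps_spec _ (hK i) (hK1 i)
  have hs : ∀ i j, i ≠ j → sf (K i - K i % 2) (K j - K j % 2) = true := fun i j h => by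
    rw [rep_sf _ (hK i) _ (hK j) (hK1 i) (hK1 j)]; exact hKK i j h
  have := no_six _ (hr 0) _ (hr 1) (hs 0 1 (by decide)) _ (hr 2) (hs 0 2 (by decide)) (hs 1 2 (by decide))
    _ (hr 3) (hs 0 3 (by decide)) (hs 1 3 (by decide)) (hs 2 3 (by decide))
    _ (hr 4) (hs 0 4 (by decide)) (hs 1 4 (by decide)) (hs 2 4 (by decide)) (hs 3 4 (by decide))
    _ (hr 5) (hs 0 5 (by decide)) (hs 1 5 (by decide)) (hs 2 5 (by decide)) (hs 3 5 (by decide))
  rw [hs 4 5 (by decide)] at this
  exact absurd this (by decide)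
where
  inv_prod {H : Type _} [Group H] {a b : H} (ha : a * a = 1) (hb : b * b = 1) : a * (a * b) * a⁻¹ = (a * b)⁻¹ := by
    rw [mul_inv_rev, inv_eq_of_mul_eq_one_right ha, inv_eq_of_mul_eq_one_right hb, ← mul_assoc, ha, one_mul]
  tv_sq {n : ℕ} : Cfsg.Agent.Forms.SympStd.tv (dec6 n) (1 : ZMod 2) * Cfsg.Agent.Forms.SympStd.tv (dec6 n) 1 = 1 := by
    rw [Cfsg.Agent.Classical.Symplectic.tv_mul, show (1 : ZMod 2) + 1 = 0 from rfl,
      Cfsg.Agent.Classical.Symplectic.tv_zero]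

end Cfsg.Agent.Co2Type
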