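import Cfsg.Agent.Lib.Co2Type.ExclBasic

/-!
No fixed vector: a conjugate of `t` in `Q` other than `t` is impossible, and a conjugate commutes
with at most one other pair.
-/

set_option autoImplicit false
set_option linter.unusedSectionVars false
set_option maxRecDepth 20000

namespace Cfsg.Agent.Co2Type

open Subgroup Cfsg.Agent.LargeExtra

variable {G : Type*} [Group G] [Finite G] {V : Type*} [AddCommGroup V] [Finite V] {M : Mod V} {t : G}
  {Q : Subgroup G} (S : Coord M t Q) (F : NatFrame M) {q : G} (hq : q ∈ Q) (hqv : S.mk q = F.v)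

include hqv hq

/-- All non-central involutions of `Q` centralising `q` are conjugate in `G` if one is conjugate to `t`. -/
theorem all_conj {u : G} (hu : ∃ g, g * t * g⁻¹ = u) (huQ : u ∈ Q) (huq : u * q = q * u) (hut : u ≠ t)
    {z : G} (hzQ : z ∈ Q) (hzz : z * z = 1) (hzq : z * q = q * z) (hz0 : S.mk z ≠ 0) :
    ∃ g, g * t * g⁻¹ = z := by
  obtain ⟨g, hg⟩ := hu
  have huu : u * u = 1 := by
    rw [← hg, show g * t * g⁻¹ * (g * t * g⁻¹) = g * (t * t) * g⁻¹ by group, S.ctr.zz, mul_one, mul_inv_cancel]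
  have hu1 : u ≠ 1 := by
    intro e
    exact S.ctr.ne_one (by rw [show t = g⁻¹ * (g * t * g⁻¹) * g by group, hg, e, mul_one, inv_mul_cancel])
  have hu0 : S.mk u ≠ 0 := fun e => (S.mk_cases u huQ e).elim hu1 hut
  obtain ⟨n, hn, en⟩ := F.surj _ ((comm_iff S F hq hqv huQ).1 huq) ((S.sq_false huQ).1 huu)
  obtain ⟨m, hm, em⟩ := F.surj _ ((comm_iff S F hq hqv hzQ).1 hzq) ((S.sq_false hzQ).1 hzz)
  have hn0 : n ≠ 0 := fun e => hu0 (by rw [en, e, F.N_zero])
  have hm0 : m ≠ 0 := fun e => hz0 (by rw [em, e, F.N_zero])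
  obtain ⟨a, ha⟩ := exists_conj_tau hn hn0
  obtain ⟨b, hb⟩ := exists_conj_tau hm hm0
  have hmap : M.ρ (b * a⁻¹) (S.mk u) = S.mk z := by
    rw [en, em, Mod.rho_mul]
    have h1 := F.act a 1 (by norm_num) n hn ha
    rw [← h1, ← Mod.rho_mul M a⁻¹, inv_mul_cancel, Mod.rho_one]
    exact F.act b 1 (by norm_num) m hm hb
  obtain ⟨c, hc⟩ := S.lift (b * a⁻¹)
  have hcu := S.conj_mem_Q (mem_centralizer_singleton_iff.1 c.2) huQ
  have e : S.mk ((c : G) * u * (c : G)⁻¹) = S.mk z := by rw [S.mk_conj c u huQ, hc, hmap]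
  rcases S.mk_eq hcu hzQ e with e' | e'
  · exact ⟨(c : G) * g, by rw [e', ← hg]; group⟩
  · obtain ⟨x, hx, hxb⟩ : ∃ x ∈ Q, M.b (S.mk x) (S.mk z) = true := by
      by_contra hc'
      push Not at hc'
      refine hz0 (M.nondeg _ fun w => ?_)
      obtain ⟨x, hx, rfl⟩ := S.mk_surj w
      rw [M.b_comm]; exact Bool.eq_false_iff.2 (hc' x hx)
    rw [← e] at hxb
    refine ⟨x * (c : G) * g, ?_⟩
    rw [e', S.ctr.comm hcu, ← S.conj_true hx hcu hxb, ← hg]
    group

/-- A conjugate of `t` in `Q` centralising `q` is `t`. -/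
theorem eq_of_mem_of_comm {g : G} (huQ : g * t * g⁻¹ ∈ Q) (huq : g * t * g⁻¹ * q = q * (g * t * g⁻¹)) :
    g * t * g⁻¹ = t := by
  classical
  by_contra hne
  set u := g * t * g⁻¹ with hu
  set p := g * q * g⁻¹ with hp
  have hut : u * t = t * u := S.ctr.comm huQ
  have hpt : p * t = t * p := pair S F hq hqv hut huq
  have hpp : p * p = u := by
    calc p * p = g * (q * q) * g⁻¹ := by rw [hp]; group
      _ = u := by rw [q_sq S F hq hqv]
  have hqu : q * u = u * q := huq.symm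
  -- `t` lies in the conjugate of `Q`
  set t' := g⁻¹ * t * g with ht'
  have ht'C : t' * t = t * t' := by
    calc t' * t = g⁻¹ * (t * u) * g := by rw [ht', hu]; group
      _ = g⁻¹ * (u * t) * g := by rw [hut]
      _ = t * t' := by rw [ht', hu]; group
  have ht'q : t' * q = q * t' := by
    calc t' * q = g⁻¹ * (t * p) * g := by rw [ht', hp]; group
      _ = g⁻¹ * (p * t) * g := by rw [hpt]
      _ = q * t' := by rw [ht', hp]; group
  have ht'Q : t' ∈ Q := by
    have := mem_of_comm S F hq hqv (g := g⁻¹) (by rw [inv_inv]; exact ht'C) (by rw [inv_inv]; exact ht'q)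
    rwa [inv_inv] at this
  -- the subgroup `E`
  let E : Subgroup G := Q ⊓ centralizer ({q, t'} : Set G)
  have hEmem : ∀ y, y ∈ E ↔ y ∈ Q ∧ y * q = q * y ∧ y * t' = t' * y := by
    intro y
    simp only [E, mem_inf, mem_centralizer_iff, Set.mem_insert_iff, Set.mem_singleton_iff, forall_eq_or_imp, forall_eq]
    exact ⟨fun h => ⟨h.1, h.2.1.symm, h.2.2.symm⟩, fun h => ⟨h.1, h.2.1.symm, h.2.2.symm⟩⟩
  -- `E` modulo commutation with `q` of the conjugates
  have hpq : p * q = q * p := by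
    rcases conj_q S F hq hqv hpt with e | e
    · exact mul_inv_eq_iff_eq_mul.1 e
    · exfalso
      have hc : g⁻¹ * q * g * t = t * (g⁻¹ * q * g) := by
        calc g⁻¹ * q * g * t = g⁻¹ * (q * u) * g := by rw [hu]; group
          _ = g⁻¹ * (u * q) * g := by rw [hqu]
          _ = t * (g⁻¹ * q * g) := by rw [hu]; group
      rcases conj_q S F hq hqv hc with e2 | e2
      · have e3 : q * p * q⁻¹ = p := by
          calc q * p * q⁻¹ = g * (g⁻¹ * q * g * q * (g⁻¹ * q * g)⁻¹) * g⁻¹ := by rw [hp]; group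
            _ = p := by rw [e2]
        rw [← mul_inv_eq_iff_eq_mul.1 e3, mul_inv_cancel_right] at e
        exact S.ctr.ne_one (left_eq_mul.1 e)
      · have e3 : q * p * q⁻¹ = p * u := by
          calc q * p * q⁻¹ = g * (g⁻¹ * q * g * q * (g⁻¹ * q * g)⁻¹) * g⁻¹ := by rw [hp]; group
            _ = p * u := by rw [e2, hp, hu]; group
        have e4 : p * q * p⁻¹ * q⁻¹ = t := by
          rw [e, S.ctr.comm hq, mul_inv_cancel_right]
        have e5 : q * p * q⁻¹ * p⁻¹ = u := by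
          rw [e3, ← hpp]; group
        have e6 : u = t := by
          rw [← e5, show q * p * q⁻¹ * p⁻¹ = (p * q * p⁻¹ * q⁻¹)⁻¹ by group, e4, S.ctr.inv_self]
        exact hne e6
  have hEconj : ∀ y ∈ E, g * y * g⁻¹ * t = t * (g * y * g⁻¹) := by
    intro y hy
    calc g * y * g⁻¹ * t = g * (y * t') * g⁻¹ := by rw [ht']; group
      _ = g * (t' * y) * g⁻¹ := by rw [((hEmem y).1 hy).2.2]
      _ = t * (g * y * g⁻¹) := by rw [ht']; group
  let S0 : Subgroup G := E ⊓ centralizer ({g⁻¹ * q * g} : Set G)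
  -- its involutions
  let A : Set G := {x | x ∈ S0 ∧ x * x = 1}
  have hAQ : ∀ y ∈ A, g * y * g⁻¹ ∈ Q := by
    rintro y ⟨hy, hyy⟩
    obtain ⟨hyE, hyc⟩ := mem_inf.1 hy
    obtain ⟨hyQ, hyq, -⟩ := (hEmem y).1 hyE
    by_cases h0 : S.mk y = 0
    · rcases S.mk_cases y hyQ h0 with rfl | rfl
      · rw [mul_one, mul_inv_cancel]; exact Q.one_mem
      · exact huQ
    have hytq : g * y * g⁻¹ * q = q * (g * y * g⁻¹) := by
      rw [mem_centralizer_singleton_iff] at hyc
      calc g * y * g⁻¹ * q = g * (y * (g⁻¹ * q * g)) * g⁻¹ := by group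
        _ = g * (g⁻¹ * q * g * y) * g⁻¹ := by rw [hyc]
        _ = q * (g * y * g⁻¹) := by group
    have ht'0 : S.mk t' ≠ 0 := by
      intro e
      rcases S.mk_cases t' ht'Q e with e' | e'
      · exact S.ctr.ne_one (by
          rw [show t = g * t' * g⁻¹ by rw [ht']; group, e', mul_one, mul_inv_cancel])
      · exact hne (by rw [hu]; conv_lhs => arg 1; arg 2; rw [← e']
                      rw [ht']; group)
    obtain ⟨k, hk⟩ := all_conj S F hq hqv (u := t') ⟨g⁻¹, by rw [ht', inv_inv]⟩ ht'Q ht'q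
      (fun e => ht'0 (by rw [e, S.mk_t])) hyQ hyy hyq h0
    have e : g * y * g⁻¹ = g * k * t * (g * k)⁻¹ := by rw [← hk]; group
    rw [e]
    exact mem_of_comm S F hq hqv (by rw [← e]; exact hEconj y hyE) (by rw [← e]; exact hytq)
  -- squares
  have hsq : ∀ y ∈ S0, y * y = 1 ∨ y * q ∈ A := by
    intro y hy
    obtain ⟨hyE, hyc⟩ := mem_inf.1 hy
    obtain ⟨hyQ, hyq, hyt⟩ := (hEmem y).1 hyE
    refine or_iff_not_imp_left.2 fun h1 => ⟨S0.mul_mem hy (mem_inf.2 ⟨(hEmem q).2 ⟨hq, rfl, ht'q.symm⟩, ?_⟩), ?_⟩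
    · rw [mem_centralizer_singleton_iff]
      calc q * (g⁻¹ * q * g) = g⁻¹ * (p * q) * g := by rw [hp]; group
        _ = g⁻¹ * (q * p) * g := by rw [hpq]
        _ = g⁻¹ * q * g * q := by rw [hp]; group
    · have e1 : y * y = t := (S.ctr.sq_cases hyQ).resolve_left h1
      calc y * q * (y * q) = y * (q * y) * q := by group
        _ = (y * y) * (q * q) := by rw [← hyq]; group
        _ = 1 := by rw [e1, q_sq S F hq hqv, S.ctr.zz]
  -- sizes
  have hE : 128 ≤ Nat.card ↥E := by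
    let f : ↥Q → Bool × Bool := fun y => (M.b F.v (S.mk y), M.b (S.mk t') (S.mk y))
    have hfib : ∀ y y' : ↥Q, f y = f y' → (y : G) * (y' : G)⁻¹ ∈ E := by
      intro y y' e
      simp only [f, Prod.mk.injEq] at e
      have hm : (y : G) * (y' : G)⁻¹ ∈ Q := Q.mul_mem y.2 (Q.inv_mem y'.2)
      have hv : S.mk ((y : G) * (y' : G)⁻¹) = S.mk y + S.mk y' := by
        rw [S.mk_mul _ y.2 _ (Q.inv_mem y'.2), S.mk_inv y'.2]
      refine (hEmem _).2 ⟨hm, (comm_iff S F hq hqv hm).2 ?_, (S.comm_false hm ht'Q).2 ?_⟩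
      · rw [hv, M.b_add_right, e.1, Bool.xor_self]
      · rw [hv, M.b_comm, M.b_add_right, e.2, Bool.xor_self]
    have : ∀ b, Nat.card {y : ↥Q // f y = b} ≤ Nat.card ↥E := by
      intro b
      by_cases h : Nonempty {y : ↥Q // f y = b}
      · obtain ⟨y0⟩ := h
        exact Nat.card_le_card_of_injective (fun y => ⟨(y.1 : G) * (y0.1 : G)⁻¹, hfib _ _ (y.2.trans y0.2.symm)⟩)
          (fun y y' e => Subtype.ext (Subtype.ext (mul_right_cancel (congrArg Subtype.val e))))
      · rw [not_nonempty_iff] at h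
        simp [Nat.card_of_isEmpty]
    have h := Nat.card_congr (Equiv.sigmaFiberEquiv f)
    rw [S.card, Nat.card_sigma, Fintype.sum_prod_type, Fintype.sum_bool, Fintype.sum_bool, Fintype.sum_bool] at h
    linarith [this (true, true), this (true, false), this (false, true), this (false, false)]
  have hS0 : 64 ≤ Nat.card ↥S0 := by
    let f : ↥E → Bool := fun y => decide ((y : G) * (g⁻¹ * q * g) = g⁻¹ * q * g * y)
    have hc : ∀ y ∈ E, g * y * g⁻¹ * q * (g * y * g⁻¹)⁻¹ = q ∨ g * y * g⁻¹ * q * (g * y * g⁻¹)⁻¹ = q * t :=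
      fun y hy => conj_q S F hq hqv (hEconj y hy)
    have hcomm : ∀ y : G, g * y * g⁻¹ * q * (g * y * g⁻¹)⁻¹ = q ↔ y * (g⁻¹ * q * g) = g⁻¹ * q * g * y := by
      intro y
      constructor <;> intro e
      · calc y * (g⁻¹ * q * g) = g⁻¹ * (g * y * g⁻¹ * q * (g * y * g⁻¹)⁻¹) * g * y := by group
          _ = _ := by rw [e]
      · calc g * y * g⁻¹ * q * (g * y * g⁻¹)⁻¹ = g * (y * (g⁻¹ * q * g)) * y⁻¹ * g⁻¹ := by group
          _ = q := by rw [e]; group
    have hfib : ∀ y y' : ↥E, f y = f y' → (y : G) * (y' : G)⁻¹ ∈ S0 := by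
      intro y y' e
      refine mem_inf.2 ⟨E.mul_mem y.2 (E.inv_mem y'.2), mem_centralizer_singleton_iff.2 ((hcomm _).1 ?_)⟩
      have key : g * y * g⁻¹ * q * (g * y * g⁻¹)⁻¹ = g * y' * g⁻¹ * q * (g * (y' : G) * g⁻¹)⁻¹ := by
        simp only [f, decide_eq_decide] at e
        rcases hc y y.2 with e1 | e1
        · rw [e1, (hcomm _).2 (e.1 ((hcomm _).1 e1))]
        · rcases hc y' y'.2 with e2 | e2
          · rw [(hcomm _).2 (e.2 ((hcomm _).1 e2)), e2]
          · rw [e1, e2]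
      calc g * ((y : G) * (y' : G)⁻¹) * g⁻¹ * q * (g * ((y : G) * (y' : G)⁻¹) * g⁻¹)⁻¹
          = g * y * g⁻¹ * ((g * y' * g⁻¹)⁻¹ * q * (g * y' * g⁻¹)) * (g * y * g⁻¹)⁻¹ := by group
        _ = q := by
          have hq' : (g * (y' : G) * g⁻¹)⁻¹ * (g * y' * g⁻¹ * q * (g * (y' : G) * g⁻¹)⁻¹) * (g * y' * g⁻¹) = q := by group
          rcases hc y' y'.2 with e2 | e2
          · rw [show (g * (y' : G) * g⁻¹)⁻¹ * q * (g * y' * g⁻¹) = q by rw [e2] at hq'; exact hq', key, e2]
          · have e3 : (g * (y' : G) * g⁻¹)⁻¹ * q * (g * y' * g⁻¹) = q * t := by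
              have hy't := hEconj y' y'.2
              generalize g * (y' : G) * g⁻¹ = c at e2 hy't hq' ⊢
              calc c⁻¹ * q * c = c⁻¹ * (q * t) * c * t := by
                    rw [show c⁻¹ * (q * t) * c * t = c⁻¹ * q * (t * c) * t by group, ← hy't,
                      show c⁻¹ * q * (c * t) * t = c⁻¹ * q * c * (t * t) by group, S.ctr.zz, mul_one]
                _ = q * t := by rw [← e2, show c⁻¹ * (c * q * c⁻¹) * c = q by group]; exact e2.symm
            rw [e3, show g * (y : G) * g⁻¹ * (q * t) * (g * y * g⁻¹)⁻¹ =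
              (g * y * g⁻¹ * q * (g * y * g⁻¹)⁻¹) * (g * y * g⁻¹ * t * (g * y * g⁻¹)⁻¹) by group,
              key, e2, hEconj y y.2, mul_inv_cancel_right, mul_assoc, S.ctr.zz, mul_one]
    have : ∀ b, Nat.card {y : ↥E // f y = b} ≤ Nat.card ↥S0 := by
      intro b
      by_cases h : Nonempty {y : ↥E // f y = b}
      · obtain ⟨y0⟩ := h
        exact Nat.card_le_card_of_injective (fun y => ⟨(y.1 : G) * (y0.1 : G)⁻¹, hfib _ _ (y.2.trans y0.2.symm)⟩)
          (fun y y' e => Subtype.ext (Subtype.ext (mul_right_cancel (congrArg Subtype.val e))))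
      · rw [not_nonempty_iff] at h
        simp [Nat.card_of_isEmpty]
    have h := Nat.card_congr (Equiv.sigmaFiberEquiv f)
    rw [Nat.card_sigma, Fintype.sum_bool] at h
    linarith [this true, this false]
  -- the abelian subgroup
  let T : Subgroup G := closure (A ∪ {q})
  have hAsub : ∀ y ∈ A, y ∈ Q ∧ y * q = q * y := fun y hy =>
    ⟨((hEmem y).1 (mem_inf.1 hy.1).1).1, ((hEmem y).1 (mem_inf.1 hy.1).1).2.1⟩
  have hTQ : T ≤ Q := (closure_le Q).2 (by
    rintro y (hy | rfl)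
    exacts [(hAsub y hy).1, hq])
  have hA2 : ∀ y ∈ A, ∀ z ∈ A, y * z = z * y := by
    intro y hy z hz
    have hyQ := (hAsub y hy).1; have hzQ := (hAsub z hz).1
    cases hb : M.b (S.mk y) (S.mk z)
    · exact (S.comm_false hyQ hzQ).2 hb
    exfalso
    have e := S.conj_true hyQ hzQ hb
    have h1 : g * y * g⁻¹ * (g * z * g⁻¹) * (g * y * g⁻¹)⁻¹ = u * (g * z * g⁻¹) := by
      calc _ = g * (y * z * y⁻¹) * g⁻¹ := by group
        _ = _ := by rw [e, hu]; group
    cases hb2 : M.b (S.mk (g * y * g⁻¹)) (S.mk (g * z * g⁻¹))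
    · rw [(S.comm_false (hAQ y hy) (hAQ z hz)).2 hb2, mul_inv_cancel_right] at h1
      exact S.ctr.ne_one (by rw [show t = g⁻¹ * u * g by rw [hu]; group, right_eq_mul.1 h1]; group)
    · rw [S.conj_true (hAQ y hy) (hAQ z hz) hb2] at h1
      exact hne (mul_right_cancel h1).symm
  have hTc : ∀ x ∈ T, ∀ y ∈ T, x * y = y * x := by
    have h1 : A ∪ {q} ⊆ centralizer (A ∪ {q} : Set G) := by
      intro x hx
      rw [SetLike.mem_coe, mem_centralizer_iff]
      intro y hy
      rcases hx with hx | rfl <;> rcases hy with hy | rfl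
      exacts [hA2 y hy x hx, (hAsub x hx).2.symm, (hAsub y hy).2, rfl]
    intro x hx y hy
    have h2 : T ≤ centralizer (T : Set G) := by
      rw [centralizer_closure]; exact (closure_le _).2 h1
    exact mem_centralizer_iff.1 (h2 hy) x hx
  have hST : ∀ y ∈ S0, y ∈ T := by
    intro y hy
    rcases hsq y hy with h | h
    · exact subset_closure (.inl ⟨hy, h⟩)
    · rw [show y = y * q * q⁻¹ by group]
      exact T.mul_mem (subset_closure (.inl h)) (T.inv_mem (subset_closure (.inr rfl)))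
  have := card_le_of_le (H := S0) (K := T) hST
  have := S.card_abelian hTQ hTc
  omega

/-- A conjugate of `t` in `C` centralising `q` is `t`. -/
theorem eq_of_comm {g : G} (hut : g * t * g⁻¹ * t = t * (g * t * g⁻¹))
    (huq : g * t * g⁻¹ * q = q * (g * t * g⁻¹)) : g * t * g⁻¹ = t :=
  eq_of_mem_of_comm S F hq hqv (mem_of_comm S F hq hqv hut huq) huq

/-- Two commuting conjugates in `C` other than `t` differ by `t`. -/
theorem only_pair {g k : G} (hut : g * t * g⁻¹ * t = t * (g * t * g⁻¹)) (hwt : k * t * k⁻¹ * t = t * (k * t * k⁻¹))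
    (huw : k * t * k⁻¹ * (g * t * g⁻¹) = g * t * g⁻¹ * (k * t * k⁻¹)) (hu : g * t * g⁻¹ ≠ t) (hw : k * t * k⁻¹ ≠ t) :
    k * t * k⁻¹ = g * t * g⁻¹ ∨ k * t * k⁻¹ = g * t * g⁻¹ * t := by
  set u := g * t * g⁻¹ with hug
  set w := k * t * k⁻¹ with hwk
  set p := g * q * g⁻¹ with hp
  have hwq : q * w * q⁻¹ = w * t := by
    rcases conj_q S F hq hqv hwt with e | e
    · exact absurd (eq_of_comm S F hq hqv hwt (mul_inv_eq_iff_eq_mul.1 e)) hw
    · calc q * w * q⁻¹ = w * (w⁻¹ * q * w) * q⁻¹ := by group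
        _ = w * (w * q * w⁻¹) * q⁻¹ := by
          rw [inv_eq_of_mul_eq_one_right (show w * w = 1 by
            rw [hwk, show k * t * k⁻¹ * (k * t * k⁻¹) = k * (t * t) * k⁻¹ by group, S.ctr.zz, mul_one,
              mul_inv_cancel])]
        _ = w * t := by rw [e, S.ctr.comm hq, mul_assoc w, mul_inv_cancel_right]
  -- the element in the frame of `u`
  have hcase : ∀ r, (∃ k', k' * t * k'⁻¹ = r) → r * u = u * r → r * p = p * r → r = u := by
    rintro r ⟨k', rfl⟩ hru hrp
    have h := eq_of_comm S F hq hqv (g := g⁻¹ * k') (by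
        calc g⁻¹ * k' * t * (g⁻¹ * k')⁻¹ * t = g⁻¹ * (k' * t * k'⁻¹ * u) * g := by rw [hug]; group
          _ = g⁻¹ * (u * (k' * t * k'⁻¹)) * g := by rw [hru]
          _ = _ := by rw [hug]; group)
      (by
        calc g⁻¹ * k' * t * (g⁻¹ * k')⁻¹ * q = g⁻¹ * (k' * t * k'⁻¹ * p) * g := by rw [hp]; group
          _ = g⁻¹ * (p * (k' * t * k'⁻¹)) * g := by rw [hrp]
          _ = _ := by rw [hp]; group)
    calc k' * t * k'⁻¹ = g * (g⁻¹ * k' * t * (g⁻¹ * k')⁻¹) * g⁻¹ := by group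
      _ = u := by rw [h]
  have hpu : ∀ {r : G}, r * u = u * r → r * p * r⁻¹ = p ∨ r * p * r⁻¹ = p * u := by
    intro r hr
    have hc : g⁻¹ * r * g * t = t * (g⁻¹ * r * g) := by
      calc g⁻¹ * r * g * t = g⁻¹ * (r * u) * g := by rw [hug]; group
        _ = g⁻¹ * (u * r) * g := by rw [hr]
        _ = _ := by rw [hug]; group
    rcases conj_q S F hq hqv hc with e | e
    · left
      calc r * p * r⁻¹ = g * (g⁻¹ * r * g * q * (g⁻¹ * r * g)⁻¹) * g⁻¹ := by rw [hp]; group
        _ = p := by rw [e]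
    · right
      calc r * p * r⁻¹ = g * (g⁻¹ * r * g * q * (g⁻¹ * r * g)⁻¹) * g⁻¹ := by rw [hp]; group
        _ = p * u := by rw [e, hp, hug]; group
  have ht : t * p * t⁻¹ = p * u := by
    refine (hpu hut.symm).resolve_left fun e => ?_
    exact hu (hcase t ⟨1, by group⟩ hut.symm (mul_inv_eq_iff_eq_mul.1 e)).symm
  rcases hpu huw with e | e
  · exact .inl (hcase w ⟨k, rfl⟩ huw (mul_inv_eq_iff_eq_mul.1 e))
  · right
    have hwt2 : w * t * p * (w * t)⁻¹ = p := by
      have hpu' : w * u * w⁻¹ = u := by rw [huw, mul_inv_cancel_right]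
      have huu : u * u = 1 := by
        rw [hug, show g * t * g⁻¹ * (g * t * g⁻¹) = g * (t * t) * g⁻¹ by group, S.ctr.zz, mul_one, mul_inv_cancel]
      calc w * t * p * (w * t)⁻¹ = w * (t * p * t⁻¹) * w⁻¹ := by group
        _ = (w * p * w⁻¹) * (w * u * w⁻¹) := by rw [ht]; group
        _ = p * (u * u) := by rw [e, hpu', mul_assoc]
        _ = p := by rw [huu, mul_one]
    have h := hcase (w * t) ⟨q * k, by rw [← hwq, hwk]; group⟩ (by
      rw [mul_assoc, ← hut, ← mul_assoc, huw, mul_assoc]) (mul_inv_eq_iff_eq_mul.1 hwt2)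
    rw [← h, mul_assoc, S.ctr.zz, mul_one]

/-- Weak closure: no conjugate of `t` in `Q` other than `t`. -/
theorem weak_fixed {g : G} (huQ : g * t * g⁻¹ ∈ Q) : g * t * g⁻¹ = t := by
  classical
  by_contra hne
  set u := g * t * g⁻¹ with hu
  have hbv : M.b F.v (S.mk u) = true := by
    by_contra hb
    rw [Bool.not_eq_true] at hb
    exact hne (eq_of_mem_of_comm S F hq hqv huQ ((comm_iff S F hq hqv huQ).2 hb))
  have huu : u * u = 1 := by
    rw [hu, show g * t * g⁻¹ * (g * t * g⁻¹) = g * (t * t) * g⁻¹ by group, S.ctr.zz, mul_one, mul_inv_cancel]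
  have hqu : M.q (S.mk u) = false := (S.sq_false huQ).1 huu
  set y := S.mk u with hy
  have hpair : ∀ h1 h2 : X6, M.b (M.ρ h1 y) (M.ρ h2 y) = false → M.ρ h1 y = M.ρ h2 y := by
    intro h1 h2 hb
    obtain ⟨c, hc⟩ := S.lift h1
    obtain ⟨d, hd⟩ := S.lift h2
    have hcQ := S.conj_mem_Q (mem_centralizer_singleton_iff.1 c.2) huQ
    have hdQ := S.conj_mem_Q (mem_centralizer_singleton_iff.1 d.2) huQ
    have m1 : S.mk ((c : G) * u * (c : G)⁻¹) = M.ρ h1 y := by rw [S.mk_conj c u huQ, hc]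
    have m2 : S.mk ((d : G) * u * (d : G)⁻¹) = M.ρ h2 y := by rw [S.mk_conj d u huQ, hd]
    have hcomm := (S.comm_false hdQ hcQ).2 (by rw [m1, m2, M.b_comm]; exact hb)
    have ec : (c : G) * u * (c : G)⁻¹ = (c : G) * g * t * ((c : G) * g)⁻¹ := by rw [hu]; group
    have ed : (d : G) * u * (d : G)⁻¹ = (d : G) * g * t * ((d : G) * g)⁻¹ := by rw [hu]; group
    have hne' : ∀ x : G, x * t = t * x → x * u * x⁻¹ ≠ t := fun x hx e => hne (by
      calc u = x⁻¹ * (x * u * x⁻¹) * x := by group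
        _ = x⁻¹ * (t * x) := by rw [e, mul_assoc]
        _ = t := by rw [← hx, inv_mul_cancel_left])
    rcases only_pair S F hq hqv (g := (c : G) * g) (k := (d : G) * g) (ec ▸ S.ctr.comm hcQ) (ed ▸ S.ctr.comm hdQ)
      (by rw [← ec, ← ed]; exact hcomm) (ec ▸ hne' _ (mem_centralizer_singleton_iff.1 c.2))
      (ed ▸ hne' _ (mem_centralizer_singleton_iff.1 d.2)) with e | e
    · rw [← ec, ← ed] at e; rw [← m1, ← m2, e]
    · rw [← ec, ← ed] at e
      rw [← m1, ← m2, e, S.mk_mul _ hcQ _ S.ctr.z_mem, S.mk_t, add_zero]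
  -- the quadratic form of `y`
  set φ : ℕ → Bool := fun n => M.b y (F.N n) with hφ
  have hlin : ∀ a < 64, ∀ b < 64, sf a b = false → φ (a ^^^ b) = xor (φ a) (φ b) := by
    intro a ha b hb hs
    simp only [hφ]
    rw [F.add a ha b hb, hs, if_neg (by decide), add_zero, M.b_add_right]
  have hbyv : M.b y F.v = true := by rw [M.b_comm]; exact hbv
  -- the image under a transvection of the kernel
  have himg : ∀ n < 64, n ≠ 0 → φ n = false → ∃ g0 : X6,
      M.ρ g0 y ≠ y ∧ M.b (M.ρ g0 y) y = false ∨ M.ρ g0 y = y + F.N n + F.v := by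
    intro n hn hn0 hφn
    refine ⟨tau n, ?_⟩
    set w := M.ρ (tau n) y with hw
    set d := y + w with hd
    have hbd : ∀ m < 64, M.b d (F.N m) = sf n m := by
      intro m hm
      have e := F.act (tau n) m hm _ (tmv_table n hn m hm).2 (tau_mulVec hn hm)
      have hwb : M.b w (F.N (tmv n m)) = φ m := by rw [hw, ← e, M.b_inv]
      have hw2 : M.b w (F.N m) = φ (tmv n m) := by
        have e2 := F.act (tau n) (tmv n m) (tmv_table n hn m hm).2 m hm (by
          rw [tau_mulVec hn (tmv_table n hn m hm).2]; congr 1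
          exact ((by decide +kernel : ∀ n < 64, ∀ m < 64, tmv n (tmv n m) = m) n hn m hm))
        rw [hw, ← e2, M.b_inv]
      rw [hd, M.b_add_left, hw2]
      simp only [hφ, tmv]
      rw [sf_swap n hn m hm]
      cases hs : sf m n
      · rw [if_neg (by decide), Bool.xor_self]
      · rw [if_pos rfl, F.add m hm n hn, hs, if_pos rfl, M.b_add_right, M.b_add_right, hbyv]
        simp only [hφ] at hφn
        rw [hφn]; cases M.b y (F.N m) <;> rfl
    have hdv : M.b F.v d = false := by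
      have h := M.b_inv (tau n) F.v y
      rw [F.fixed] at h
      rw [hd, M.b_add_right, hw, h, Bool.xor_self]
    obtain ⟨l, hl, el⟩ : ∃ l < 64, d = F.N l ∨ d = F.N l + F.v := by
      by_cases hqd : M.q d = false
      · obtain ⟨l, hl, e⟩ := F.surj d hdv hqd; exact ⟨l, hl, .inl e⟩
      · obtain ⟨l, hl, e⟩ := F.surj (d + F.v) (by rw [M.b_add_right, hdv, M.b_self]; rfl)
          (by rw [q_add_v F.qv F.fixed hdv]; rw [Bool.not_eq_false] at hqd; rw [hqd]; rfl)
        exact ⟨l, hl, .inr (by rw [← e, add_assoc, M.add_self, add_zero])⟩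
    have hln : l = n := by
      rcases sf_nondeg (l ^^^ n) (Nat.xor_lt_two_pow (n := 6) hl hn) with h0 | ⟨m, hm, h1⟩
      · exact Nat.xor_eq_zero_iff.1 h0
      · exfalso
        have e := hbd m hm
        rcases el with el | el <;> rw [el] at e
        · rw [F.b_N l hl m hm] at e
          rw [← sf_lin, e, Bool.xor_self] at h1; exact absurd h1 (by decide)
        · rw [M.b_add_left, F.b_N l hl m hm, F.bv m hm, Bool.xor_false] at e
          rw [← sf_lin, e, Bool.xor_self] at h1; exact absurd h1 (by decide)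
    rw [hln] at el
    have ew : w = y + d := by rw [hd, ← add_assoc, M.add_self, zero_add]
    rcases el with el | el
    · refine .inl ⟨fun e => ?_, ?_⟩
      · have : F.N n = 0 := by rw [← el, hd, e, M.add_self]
        exact hn0 (F.inj n hn 0 (by norm_num) (this.trans F.N_zero.symm))
      · rw [ew, el, M.b_add_left, M.b_self, M.b_comm]
        simp only [hφ] at hφn
        rw [hφn]; rfl
    · exact .inr (by rw [ew, el, add_assoc])
  obtain ⟨n, hn, m, hm, hn0, hm0, hnm, hs, hfn, hfm⟩ : ∃ n < 64, ∃ m < 64, n ≠ 0 ∧ m ≠ 0 ∧ n ≠ m ∧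
      sf n m = false ∧ φ n = false ∧ φ m = false := by
    have l3 := hlin 1 (by norm_num) 2 (by norm_num) (by decide)
    have l5 := hlin 1 (by norm_num) 4 (by norm_num) (by decide)
    have l6 := hlin 2 (by norm_num) 4 (by norm_num) (by decide)
    have l7 := hlin 3 (by norm_num) 4 (by norm_num) (by decide)
    simp only [show (1 : ℕ) ^^^ 2 = 3 from rfl, show (1 : ℕ) ^^^ 4 = 5 from rfl, show (2 : ℕ) ^^^ 4 = 6 from rfl,
      show (3 : ℕ) ^^^ 4 = 7 from rfl] at l3 l5 l6 l7
    cases a : φ 1 <;> cases b : φ 2 <;> cases c : φ 4 <;> rw [a, b] at l3 <;> rw [a, c] at l5 <;>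
      rw [b, c] at l6 <;> rw [l3, c] at l7
    · exact ⟨1, by norm_num, 2, by norm_num, by decide, by decide, by decide, by decide, a, b⟩
    · exact ⟨1, by norm_num, 2, by norm_num, by decide, by decide, by decide, by decide, a, b⟩
    · exact ⟨1, by norm_num, 4, by norm_num, by decide, by decide, by decide, by decide, a, c⟩
    · exact ⟨1, by norm_num, 6, by norm_num, by decide, by decide, by decide, by decide, a, l6⟩
    · exact ⟨2, by norm_num, 4, by norm_num, by decide, by decide, by decide, by decide, b, c⟩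
    · exact ⟨2, by norm_num, 5, by norm_num, by decide, by decide, by decide, by decide, b, l5⟩
    · exact ⟨4, by norm_num, 3, by norm_num, by decide, by decide, by decide, by decide, c, l3⟩
    · exact ⟨3, by norm_num, 5, by norm_num, by decide, by decide, by decide, by decide, l3, l5⟩
  obtain ⟨g1, h1⟩ := himg n hn hn0 hfn
  obtain ⟨g2, h2⟩ := himg m hm hm0 hfm
  have one : ∀ g0 : X6, M.ρ g0 y ≠ y → M.b (M.ρ g0 y) y = false → False := fun g0 e1 e2 =>
    e1 ((hpair g0 1 (by rw [Mod.rho_one]; exact e2)).trans (M.rho_one y))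
  rcases h1 with ⟨e1, e2⟩ | e1
  · exact one g1 e1 e2
  rcases h2 with ⟨f1, f2⟩ | f1
  · exact one g2 f1 f2
  have hb : M.b (M.ρ g1 y) (M.ρ g2 y) = false := by
    rw [e1, f1]
    simp only [M.b_add_left, M.b_add_right, M.b_self, F.b_N n hn m hm, hs]
    simp only [hφ] at hfn hfm
    rw [hfm, M.b_comm (F.N n) y, hfn, hbyv, M.b_comm (F.N n) F.v, F.bv n hn, F.bv m hm, M.b_comm F.v y, hbyv]
    rfl
  have e := hpair g1 g2 hb
  rw [e1, f1] at e
  exact hnm (F.inj n hn m hm (add_left_cancel (add_right_cancel e)))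

end Cfsg.Agent.Co2Type
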