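import Cfsg.Agent.Lib.Co2Type.NatFrame

/-!
Tables on the six-bit vectors orthogonal to the first unit vector, for the fixed-vector case.
-/

set_option autoImplicit false
set_option maxRecDepth 20000
set_option synthInstance.maxSize 1000
set_option synthInstance.maxHeartbeats 200000

namespace Cfsg.Agent.Co2Type

/-- Nine elements fixing the first unit vector, as words. -/
def fixWords : List (List (Fin 7)) :=
  [[], [3, 4, 2, 3, 1, 2, 6, 5, 4, 3, 2, 1, 0, 1, 2, 3, 4, 5, 6, 2, 1, 3, 2, 4, 3, 3, 4, 5], [3, 3, 4, 2, 3, 1, 2, 6, 5, 4, 3, 2, 1, 0, 1, 2, 3, 4, 5, 6, 2, 1, 3, 2, 4, 3, 4, 6], [4, 6, 3, 4, 2, 3, 1, 2, 6, 5, 4, 3, 2, 1, 0, 1, 2, 3, 4, 5, 6, 2, 1, 3, 2, 4, 3, 3], [5, 4, 3, 3, 4, 2, 3, 1, 2, 6, 5, 4, 3, 2, 1, 0, 1, 2, 3, 4, 5, 6, 2, 1, 3, 2, 4, 3], [3, 4, 5, 4, 6], [3, 4, 2, 3, 1, 2, 6, 5, 4, 3, 2, 1, 0, 1, 2, 3, 4, 5, 6, 2, 1, 3, 2, 4, 3, 4, 3, 5, 6], [3, 6, 3, 4, 2, 3, 1, 2, 6, 5, 4, 3, 2, 1, 0, 1, 2, 3, 4, 5, 6,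 2, 1, 3, 2, 4, 3, 3, 4], [4, 3, 3, 4, 2, 3, 1, 2, 6, 5, 4, 3, 2, 1, 0, 1, 2, 3, 4, 5, 6, 2, 1, 3, 2, 4, 3]]

/-- Their natural images. -/
def fixCodes : List (List ℕ) :=
  [[1, 2, 4, 8, 16, 32], [1, 48, 32, 8, 18, 22], [1, 16, 52, 8, 34, 20], [1, 52, 34, 8, 2, 36], [1, 22, 48, 8, 6, 4], [1, 34, 32, 8, 16, 52], [1, 38, 22, 8, 18, 36], [1, 48, 38, 8, 50, 6], [1, 54, 48, 8, 38, 36]]

theorem fixCodes_eq : fixWords.map code6 = fixCodes := by decide +kernel

/-- The orthogonal space of the first unit vector, modulo it. -/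
def perpReps : List ℕ := [0, 2, 4, 6, 16, 18, 20, 22, 32, 34, 36, 38, 48, 50, 52, 54]

theorem perpReps_spec : ∀ k < 64, sf k 1 = false → k - k % 2 ∈ perpReps := by decide +kernel

theorem rep_sf : ∀ k < 64, ∀ m < 64, sf k 1 = false → sf m 1 = false →
    sf (k - k % 2) (m - m % 2) = sf k m := by decide +kernel

/-- No six vectors orthogonal to the first unit vector are pairwise non-orthogonal. -/
theorem no_six : ∀ a ∈ perpReps, ∀ b ∈ perpReps, sf a b = true → ∀ c ∈ perpReps, sf a c = true → sf b c = true →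
    ∀ d ∈ perpReps, sf a d = true → sf b d = true → sf c d = true →
    ∀ e ∈ perpReps, sf a e = true → sf b e = true → sf c e = true → sf d e = true →
    ∀ f ∈ perpReps, sf a f = true → sf b f = true → sf c f = true → sf d f = true → sf e f = false := by
  decide +kernel

/-- The span of the first unit vector and one vector. -/
def span2 (k : ℕ) : List ℕ := [0, 1, k, k ^^^ 1]

/-- The span of the first unit vector and two vectors. -/
def span3 (k m : ℕ) : List ℕ := span2 k ++ (span2 k).map (· ^^^ m)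

theorem span3_full : ∀ k < 64, ∀ m < 64, sf k 1 = false → sf m 1 = false → sf k m = false → 1 < k → m ∉ span2 k →
    ∀ l < 64, sf l 1 = false → sf l k = false → sf l m = false → l ∈ span3 k m := by
  have h : ∀ k < 64, ∀ m < 64, (sf k 1 || sf m 1 || sf k m || decide (k ≤ 1) || (span2 k).contains m ||
      (List.range 64).all fun l => sf l 1 || sf l k || sf l m || (span3 k m).contains l) = true := by
    decide +kernel
  intro k hk m hm a b c d e l hl a' b' c'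
  have h' := h k hk m hm
  simp only [a, b, c, Bool.false_or, Bool.or_eq_true, decide_eq_true_eq, List.contains_iff_mem, List.all_eq_true,
    List.mem_range] at h'
  rcases h' with (h' | h') | h'
  · omega
  · exact absurd h' e
  · simpa [a', b', c', List.contains_iff_mem] using h' l hl

/-- The images of a set under the nine elements. -/
def orbitSets (S : List ℕ) : List (Finset ℕ) := (fixCodes.map fun a => (S.map (ap a)).toFinset).dedup

theorem orbit_two : ∀ k < 64, sf k 1 = false → 1 < k → 7 ≤ (orbitSets (span2 k)).length := by decide +kernel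

theorem orbit_three : ∀ k < 64, ∀ m < 64, sf k 1 = false → sf m 1 = false → sf k m = false → 1 < k → m ∉ span2 k →
    7 ≤ (orbitSets (span3 k m)).length := by decide +kernel

/-- The images of the unit vectors decide an element of `Sp₆(2)`. -/
theorem nat_ext {g g' : X6} (h : ∀ i < 6, ∀ m < 64, ∀ m' < 64,
    (g : Matrix (Fin 3 ⊕ Fin 3) (Fin 3 ⊕ Fin 3) (ZMod 2)).mulVec (dec6 (2 ^ i)) = dec6 m →
    (g' : Matrix (Fin 3 ⊕ Fin 3) (Fin 3 ⊕ Fin 3) (ZMod 2)).mulVec (dec6 (2 ^ i)) = dec6 m' → m = m') : g = g' := by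
  have key : ∀ f : X6, ∀ a b : ℕ, (f : Matrix (Fin 3 ⊕ Fin 3) (Fin 3 ⊕ Fin 3) (ZMod 2)).mulVec (dec6 (a ^^^ b)) =
      (f : Matrix (Fin 3 ⊕ Fin 3) (Fin 3 ⊕ Fin 3) (ZMod 2)).mulVec (dec6 a) +
      (f : Matrix (Fin 3 ⊕ Fin 3) (Fin 3 ⊕ Fin 3) (ZMod 2)).mulVec (dec6 b) := fun f a b => by
    rw [dec6_xor, Matrix.mulVec_add]
  have h6 : ∀ i < 6, (g : Matrix (Fin 3 ⊕ Fin 3) (Fin 3 ⊕ Fin 3) (ZMod 2)).mulVec (dec6 (2 ^ i)) =
      (g' : Matrix (Fin 3 ⊕ Fin 3) (Fin 3 ⊕ Fin 3) (ZMod 2)).mulVec (dec6 (2 ^ i)) := by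
    intro i hi
    obtain ⟨m, hm, e⟩ := exists_dec6_image g (2 ^ i)
    obtain ⟨m', hm', e'⟩ := exists_dec6_image g' (2 ^ i)
    rw [e, e', h i hi m hm m' hm' e e']
  have all : ∀ i ≤ 6, ∀ n < 2 ^ i, (g : Matrix (Fin 3 ⊕ Fin 3) (Fin 3 ⊕ Fin 3) (ZMod 2)).mulVec (dec6 n) =
      (g' : Matrix (Fin 3 ⊕ Fin 3) (Fin 3 ⊕ Fin 3) (ZMod 2)).mulVec (dec6 n) := by
    intro i
    induction i with
    | zero =>
      intro _ n hn
      rw [pow_zero, Nat.lt_one_iff] at hn
      rw [hn, dec6_zero, Matrix.mulVec_zero, Matrix.mulVec_zero]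
    | succ i ih =>
      intro hi n hn
      by_cases hlt : n < 2 ^ i
      · exact ih (by omega) n hlt
      have hm : n % 2 ^ i < 2 ^ i := Nat.mod_lt _ (Nat.two_pow_pos i)
      have e : n = 2 ^ i ^^^ n % 2 ^ i := by
        refine Nat.eq_of_testBit_eq fun j => ?_
        rw [Nat.testBit_xor, Nat.testBit_two_pow, Nat.testBit_mod_two_pow]
        rcases Nat.lt_trichotomy j i with hj | rfl | hj
        · simp [hj, (Nat.ne_of_gt hj)]
        · have : n.testBit j = true := by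
            rw [Nat.testBit_eq_decide_div_mod_eq, decide_eq_true_eq]
            have h1 : 1 ≤ n / 2 ^ j := (Nat.one_le_div_iff (Nat.two_pow_pos j)).2 (by omega)
            have h2 : n / 2 ^ j < 2 := Nat.div_lt_of_lt_mul (by rw [pow_succ] at hn; omega)
            omega
          simp [this]
        · rw [Nat.testBit_lt_two_pow (lt_of_lt_of_le hn (Nat.pow_le_pow_right (by norm_num) hj))]
          simp [(Nat.ne_of_lt hj), Nat.not_lt.2 hj.le]
      rw [e, key, key, h6 i (by omega), ih (by omega) _ hm]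
  refine Cfsg.Agent.Forms.SympStd.sp_ext fun u => ?_
  obtain ⟨n, hn, rfl⟩ := dec6_surj u
  exact all 6 le_rfl n hn

end Cfsg.Agent.Co2Type
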