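import Cfsg.Agent.Lib.Co2Type.ExclQ
import Cfsg.Agent.Lib.Co2Type.ExclTables

/-!
No fixed vector: a conjugate of `t` outside `Q` induces a transvection, and its centraliser in `Q`.
-/

set_option autoImplicit false
set_option linter.unusedSectionVars false
set_option maxRecDepth 20000

namespace Cfsg.Agent.Co2Type

open Subgroup Cfsg.Agent.LargeExtra

variable {G : Type*} [Group G] [Finite G] {V : Type*} [AddCommGroup V] [Finite V] {M : Mod V} {t : G}
  {Q : Subgroup G} (S : Coord M t Q) (F : NatFrame M) {q : G} (hq : q ∈ Q) (hqv : S.mk q = F.v)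

include hqv hq

omit hqv hq in
theorem conj_sq {g : G} (h : t * t = 1) : g * t * g⁻¹ * (g * t * g⁻¹) = 1 := by
  rw [show g * t * g⁻¹ * (g * t * g⁻¹) = g * (t * t) * g⁻¹ by group, h, mul_one, mul_inv_cancel]

/-- `u` inverts `q`. -/
theorem q_conj_u {g : G} (hut : g * t * g⁻¹ * t = t * (g * t * g⁻¹)) (hu : g * t * g⁻¹ ≠ t) :
    q * (g * t * g⁻¹) * q⁻¹ = g * t * g⁻¹ * t := by
  have hi := inv_eq_of_mul_eq_one_right (conj_sq (g := g) S.ctr.zz)
  generalize hug : g * t * g⁻¹ = u at hut hu hi ⊢
  rcases conj_q S F hq hqv hut with e | e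
  · exfalso
    subst hug
    exact hu (eq_of_comm S F hq hqv hut (mul_inv_eq_iff_eq_mul.1 e))
  · calc q * u * q⁻¹ = u * (u⁻¹ * q * u) * q⁻¹ := by group
      _ = u * (u * q * u⁻¹) * q⁻¹ := by simp only [hi]
      _ = u * t := by rw [e, S.ctr.comm hq, mul_assoc u, mul_inv_cancel_right]

/-- A conjugate of `t` in `C` outside `Q` acts as a transvection, with centre `N n + v`. -/
theorem exists_refl {g : G} (hut : g * t * g⁻¹ * t = t * (g * t * g⁻¹)) (hu : g * t * g⁻¹ ≠ t) :
    ∃ n < 64, n ≠ 0 ∧ S.π ⟨g * t * g⁻¹, mem_centralizer_singleton_iff.2 hut⟩ = tau n ∧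
      ∀ y, dif M (tau n) y = if M.b y (F.N n + F.v) then F.N n + F.v else 0 := by
  classical
  set u := g * t * g⁻¹ with hug
  set U : ↥(centralizer ({t} : Set G)) := ⟨u, mem_centralizer_singleton_iff.2 hut⟩
  set h := S.π U with hh
  have huu : u * u = 1 := conj_sq S.ctr.zz
  have hui : u⁻¹ = u := inv_eq_of_mul_eq_one_right huu
  have huQ : u ∉ Q := fun e => hu (weak_fixed S F hq hqv e)
  have h2 : h * h = 1 := by
    rw [hh, ← map_mul, S.ker]; show u * u ∈ Q
    rw [huu]; exact Q.one_mem
  -- a moved vector is not orthogonal to its image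
  have hmv : ∀ y, dif M h y ≠ 0 → M.b y (dif M h y) = true := by
    intro y hy
    by_contra hb
    rw [Bool.not_eq_true] at hb
    obtain ⟨x, hx, hxy⟩ := S.mk_surj y
    have hxC := S.ctr.comm hx
    set d := x * u * x⁻¹ * u with hd
    have hdQ : d ∈ Q := by
      have e : d = x * (u * x⁻¹ * u⁻¹) := by rw [hd, hui]; group
      rw [e]; exact Q.mul_mem hx (S.conj_mem_Q hut (Q.inv_mem hx))
    have hdm : S.mk d = dif M h y := by
      have e : d = x * ((U : G) * x⁻¹ * (U : G)⁻¹) := by
        show d = x * (u * x⁻¹ * u⁻¹); rw [hd, hui]; group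
      rw [e, S.mk_mul _ hx _ (S.conj_mem_Q hut (Q.inv_mem hx)), S.mk_conj U _ (Q.inv_mem hx), S.mk_inv hx, hxy]
      rfl
    have hdd : d * d = 1 := by
      rw [S.sq_false hdQ, hdm, dif, M.q_add, M.q_inv, Bool.xor_self, Bool.false_xor]
      rw [dif, M.b_add_right, M.b_self, Bool.false_xor] at hb
      exact hb
    have hdu : d * u = u * d := by
      have e1 : u * d * u = d⁻¹ := by
        have e2 : d⁻¹ = u⁻¹ * x * u⁻¹ * x⁻¹ := by rw [hd]; group
        rw [e2, hui, hd, show u * (x * u * x⁻¹ * u) * u = u * x * u * x⁻¹ * (u * u) by group, huu, mul_one]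
      rw [inv_eq_of_mul_eq_one_right hdd] at e1
      calc d * u = u * d * u * u := by rw [e1]
        _ = u * d * (u * u) := by group
        _ = u * d := by rw [huu, mul_one]
    have hw : x * g * t * (x * g)⁻¹ = d * u := by
      rw [hd, mul_assoc _ u u, huu, mul_one, hug]; group
    have hwt : d * u * t = t * (d * u) := by rw [mul_assoc, hut, ← mul_assoc, S.ctr.comm hdQ, mul_assoc]
    have hwu : d * u * u = u * (d * u) := by rw [hdu, mul_assoc, hdu]
    have hne : d * u ≠ t := fun e => huQ (by
      rw [show u = d⁻¹ * (d * u) by group, e]; exact Q.mul_mem (Q.inv_mem hdQ) S.ctr.z_mem)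
    rcases only_pair S F hq hqv (g := g) (k := x * g) hut (by rw [hw]; exact hwt)
      (by rw [hw, ← hug]; exact hwu) hu (by rw [hw]; exact hne) with e | e
    · rw [hw, ← hug, mul_eq_right] at e
      exact hy (by rw [← hdm, e, S.mk_one])
    · rw [hw, ← hug, hdu] at e
      exact hy (by rw [← hdm, mul_left_cancel e, S.mk_t])
  -- one axis
  obtain ⟨y0, hy0⟩ : ∃ y, dif M h y ≠ 0 := by
    by_contra hc
    push Not at hc
    exact huQ (S.mem_of_rho (c := U) fun y => eq_of_dif_zero M (hc y))
  set a := dif M h y0 with ha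
  have hbs : ∀ y z, M.b y (M.ρ h z) = M.b (M.ρ h y) z := by
    intro y z
    have e := M.b_inv h y (M.ρ h z)
    rw [← Mod.rho_mul M h h, h2, Mod.rho_one] at e
    exact e.symm
  have hLadd : ∀ y z, M.b (y + z) (dif M h (y + z)) = xor (M.b y (dif M h y)) (M.b z (dif M h z)) := by
    intro y z
    have e : M.b z (dif M h y) = M.b y (dif M h z) := by
      rw [dif, dif, M.b_add_right, M.b_add_right, hbs z y, M.b_comm z y, M.b_comm (M.ρ h z) y]
    rw [dif_add, M.b_add_left, M.b_add_right, M.b_add_right, e]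
    generalize M.b y (dif M h y) = r1
    generalize M.b y (dif M h z) = r2
    generalize M.b z (dif M h z) = r3
    revert r1 r2 r3; decide
  have hval : ∀ y, dif M h y = 0 ∨ dif M h y = a := by
    intro y
    by_cases hy : dif M h y = 0
    · exact .inl hy
    right
    by_contra hne
    have hs : dif M h (y + y0) ≠ 0 := fun e => hne (by
      rw [dif_add, ← ha] at e
      calc dif M h y = dif M h y + (a + a) := by rw [M.add_self, add_zero]
        _ = a := by rw [← add_assoc, e, zero_add])
    have := hmv _ hs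
    rw [hLadd, hmv y hy, hmv y0 hy0] at this
    exact absurd this (by decide)
  have hqa : M.q a = true := by
    have e : M.q a = M.b y0 a := by
      have h1 := M.q_inv h y0
      rw [show M.ρ h y0 = y0 + a by rw [ha, dif, ← add_assoc, M.add_self, zero_add], M.q_add] at h1
      revert h1
      generalize M.q y0 = r
      generalize M.q a = r'
      generalize M.b y0 a = r''
      revert r r' r''; decide
    rw [e]; exact hmv y0 hy0
  have hform : ∀ y, dif M h y = if M.b y a then a else 0 := by
    intro y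
    rcases hval y with e | e
    · have h1 : M.b (y + y0) a = true := by
        have := hmv (y + y0) (by rw [dif_add, e, zero_add]; exact hy0)
        rwa [dif_add, e, zero_add] at this
      rw [M.b_add_left, show M.b y0 a = true from hmv y0 hy0] at h1
      rw [e, show M.b y a = false by revert h1; cases M.b y a <;> decide]; rfl
    · have h1 := hmv y (by rw [e]; exact hy0)
      rw [e] at h1
      rw [e, h1]; rfl
  -- the axis is orthogonal to `v`
  have hva : M.b F.v a = false := by
    have h1 : dif M h F.v = 0 := by rw [dif, F.fixed, M.add_self]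
    rw [hform] at h1
    by_contra hb
    rw [Bool.not_eq_false] at hb
    rw [hb, if_pos rfl] at h1
    exact hy0 h1
  have hav : a ≠ F.v := by
    intro e
    have hcen : h ∈ Subgroup.center X6 := by
      rw [Subgroup.mem_center_iff]
      intro k
      refine mul_inv_eq_one.1 (M.inj _ (DFunLike.ext _ _ fun y => ?_))
      have hh' : ∀ y, M.ρ h y = y + if M.b y a then a else 0 := fun y => by
        rw [← hform, dif, ← add_assoc, M.add_self, zero_add]
      have ec : ∀ y, M.ρ k (M.ρ h y) = M.ρ h (M.ρ k y) := by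
        intro y
        rw [hh', hh', map_add, e]
        congr 1
        rw [show M.b (M.ρ k y) F.v = M.b y F.v by conv_lhs => rw [← F.fixed k, M.b_inv]]
        split
        · exact F.fixed k
        · exact map_zero _
      show M.ρ (k * h * (h * k)⁻¹) y = y
      rw [Mod.rho_mul M (k * h), Mod.rho_mul M k h, ec, ← Mod.rho_mul M h k, ← Mod.rho_mul, mul_inv_cancel,
        Mod.rho_one]
    rw [Subgroup.card_eq_one.1 (show Nat.card ↥(Subgroup.center X6) = 1 by
      rw [Cfsg.Agent.S0246.result (ZMod.card 2) 3 (by norm_num)]; rfl), Subgroup.mem_bot] at hcen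
    exact hy0 (by rw [ha, hcen, dif, Mod.rho_one, M.add_self])
  obtain ⟨n, hn, en⟩ := F.surj (a + F.v) (by rw [M.b_add_right, hva, M.b_self]; rfl)
    (by rw [q_add_v F.qv F.fixed hva, hqa]; rfl)
  have ea : a = F.N n + F.v := by rw [← en, add_assoc, M.add_self, add_zero]
  have hn0 : n ≠ 0 := fun e => hav (by rw [ea, e, F.N_zero, zero_add])
  refine ⟨n, hn, hn0, ?_⟩
  have he : h = tau n := by
    have hcen : ∀ m < 64, M.ρ h (F.N m) = M.ρ (tau n) (F.N m) := by
      intro m hm
      rw [F.act (tau n) m hm _ (tmv_table n hn m hm).2 (tau_mulVec hn hm)]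
      have e : M.ρ h (F.N m) = F.N m + (if M.b (F.N m) a then a else 0) := by
        rw [← hform, dif, ← add_assoc, M.add_self, zero_add]
      rw [e, ea, M.b_add_right, M.b_comm _ F.v, F.bv m hm, Bool.xor_false, F.b_N m hm n hn, tmv]
      cases hs : sf m n
      · rw [if_neg (by decide), if_neg (by decide), add_zero]
      · rw [if_pos rfl, if_pos rfl, F.add m hm n hn, hs, if_pos rfl, add_assoc]
    refine nat_ext fun i hi m hm m' hm' e e' => ?_
    have hi' : 2 ^ i < 64 := lt_of_lt_of_le (Nat.pow_lt_pow_right (by norm_num) hi) (by norm_num)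
    exact F.inj m hm m' hm' (by rw [← F.act h _ hi' m hm e, ← F.act (tau n) _ hi' m' hm' e', hcen _ hi'])
  refine ⟨he, fun y => ?_⟩
  rw [← he, ← ea]
  exact hform y

/-- The centraliser in `Q` of a conjugate outside has at least 128 elements. -/
theorem card_cent {g : G} (hut : g * t * g⁻¹ * t = t * (g * t * g⁻¹)) (hu : g * t * g⁻¹ ≠ t) :
    128 ≤ Nat.card ↥(Q ⊓ centralizer ({g * t * g⁻¹} : Set G)) := by
  classical
  obtain ⟨n, hn, -, hπ, hform⟩ := exists_refl S F hq hqv hut hu
  set u := g * t * g⁻¹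
  set a := F.N n + F.v
  let f : ↥Q → Bool := fun y => M.b (S.mk (y : G)) a
  let K0 : Subgroup G := Q ⊓ centralizer ({u} : Set G)
  let P : Type _ := {y : ↥Q // f y = false}
  have hP : 256 ≤ Nat.card P := by
    by_cases hex : ∃ y : ↥Q, f y = true
    · obtain ⟨y1, hy1⟩ := hex
      have hle : Nat.card {y : ↥Q // f y = true} ≤ Nat.card P := by
        refine Nat.card_le_card_of_injective (fun y => ⟨y.1 * y1, ?_⟩) fun y y' e => ?_
        · show M.b (S.mk ((y.1 : G) * (y1 : G))) a = false
          rw [S.mk_mul _ y.1.2 _ y1.2, M.b_add_left, show M.b (S.mk (y.1 : G)) a = true from y.2,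
            show M.b (S.mk (y1 : G)) a = true from hy1]; rfl
        · exact Subtype.ext (mul_right_cancel (congrArg Subtype.val e))
      have h := Nat.card_congr (Equiv.sigmaFiberEquiv f)
      rw [S.card, Nat.card_sigma, Fintype.sum_bool] at h
      change _ + Nat.card P = 512 at h
      linarith
    · push Not at hex
      have h := Nat.card_congr (Equiv.subtypeUnivEquiv (p := fun y : ↥Q => f y = false) fun y => Bool.eq_false_iff.2 (hex y))
      change Nat.card P = Nat.card ↥Q at h
      rw [S.card] at h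
      omega
  have hPfix : ∀ y : P, (u * (y.1 : G) * u⁻¹ = y.1) ∨ (u * (y.1 : G) * u⁻¹ = (y.1 : G) * t) := by
    intro y
    refine S.mk_eq y.1.2 (S.conj_mem_Q hut y.1.2) ?_
    rw [S.mk_conj' (mem_centralizer_singleton_iff.2 hut) y.1.2, hπ]
    refine (eq_of_dif_zero M ?_).symm
    rw [hform, show M.b (S.mk (y.1 : G)) a = false from y.2]; rfl
  let k : P → Bool := fun y => decide (u * (y.1 : G) * u⁻¹ = y.1)
  have hfib : ∀ b, Nat.card {y : P // k y = b} ≤ Nat.card ↥K0 := by
    intro b
    by_cases h : Nonempty {y : P // k y = b}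
    · obtain ⟨y0⟩ := h
      refine Nat.card_le_card_of_injective (fun y => ⟨(y.1.1 : G) * (y0.1.1 : G)⁻¹,
        mem_inf.2 ⟨Q.mul_mem y.1.1.2 (Q.inv_mem y0.1.1.2), mem_centralizer_singleton_iff.2 ?_⟩⟩)
        fun y y' e => Subtype.ext (Subtype.ext (Subtype.ext (mul_right_cancel (congrArg Subtype.val e))))
      have e : u * ((y.1.1 : G) * (y0.1.1 : G)⁻¹) * u⁻¹ = (y.1.1 : G) * (y0.1.1 : G)⁻¹ := by
        have hyk : k y.1 = k y0.1 := y.2.trans y0.2.symm
        simp only [k, decide_eq_decide] at hyk
        calc u * ((y.1.1 : G) * (y0.1.1 : G)⁻¹) * u⁻¹ =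
            (u * (y.1.1 : G) * u⁻¹) * (u * (y0.1.1 : G) * u⁻¹)⁻¹ := by group
          _ = _ := by
            rcases hPfix y.1 with e1 | e1
            · rw [e1, hyk.1 e1]
            · rcases hPfix y0.1 with e2 | e2
              · rw [hyk.2 e2, e2]
              · rw [e1, e2]; group
      exact (mul_inv_eq_iff_eq_mul.1 e).symm
    · rw [not_nonempty_iff] at h
      simp [Nat.card_of_isEmpty]
  have h := Nat.card_congr (Equiv.sigmaFiberEquiv k)
  rw [Nat.card_sigma, Fintype.sum_bool] at h
  linarith [hfib true, hfib false]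

end Cfsg.Agent.Co2Type
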