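import Cfsg.Agent.Lib.Co2Type.Assembly
import Cfsg.Agent.Lib.Co2Type.Co2Hyps
import Cfsg.Agent.Lib.Co2Type.Local.Main
import Cfsg.Agent.Lib.Co2Type.Rank3.Transport
import Cfsg.Agent.Lib.Walter.ComponentsSimple

/-!
The recognition of the second Conway group from its involution centraliser, given the exclusion of the
other classes in every group that satisfies the hypotheses.
-/

set_option autoImplicit false

namespace Cfsg.Agent.Co2Type.Final

open Local

universe u

/-- The exclusion, in every group with the hypotheses. -/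
def Exclusion : Prop :=
  ∀ (G : Type u) [Group G] [Finite G] (t : G) (χ : Code.Q8 →* G), orderOf t = 2 → Coo t χ →
    Nat.card (Subgroup.centralizer ({t} : Set G)) = 512 * 1451520 →
    (∃ g : G, g * t * g⁻¹ ∈ Subgroup.centralizer ({t} : Set G) ∧ g * t * g⁻¹ ≠ t) → Excluded t χ

/-- The second Conway group has no odd core and no centre. -/
theorem spor_cores : Cfsg.oddCore ↥Cfsg.Spor.Co2 = ⊥ ∧ Subgroup.center ↥Cfsg.Spor.Co2 = ⊥ := by
  haveI : IsSimpleGroup ↥Cfsg.Spor.Co2 := Cfsg.Agent.MonsterBaby.co2_simple.1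
  haveI : Finite ↥Cfsg.Spor.Co2 := Nat.finite_of_card_ne_zero (by rw [Model.card_spor]; norm_num)
  obtain ⟨t, -, -, -, hcard, ⟨e⟩⟩ := Co2Hyps.exists_involution
  have hnc : ¬ IsMulCommutative ↥Cfsg.Spor.Co2 := fun h => by
    have htop : Subgroup.centralizer ({t} : Set ↥Cfsg.Spor.Co2) = ⊤ :=
      (Subgroup.eq_top_iff' _).2 fun g => Subgroup.mem_centralizer_singleton_iff.2 (h.is_comm.comm g t)
    have h1 := Subgroup.card_eq_card_quotient_mul_card_subgroup
      (Cfsg.pCore 2 ↥(Subgroup.centralizer ({t} : Set ↥Cfsg.Spor.Co2)))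
    rw [hcard, Nat.card_congr e.toEquiv, OctadInv.Co2Cent.card_sp,
      Nat.card_congr ((MulEquiv.subgroupCongr htop).trans Subgroup.topEquiv).toEquiv, Model.card_spor] at h1
    norm_num at h1
  exact ⟨Walter.oddCore_eq_bot_of_simple hnc, Walter.center_eq_bot_of_simple hnc⟩

/-- **The recognition.** -/
theorem iso (hX : Exclusion.{u}) (hX0 : Exclusion.{0}) {G : Type u} [Group G] [Finite G]
    (hO : Cfsg.oddCore G = ⊥) (hZ : Subgroup.center G = ⊥) (t : G) (ht : orderOf t = 2)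
    (hcon : Cfsg.IsPConstrained 2 ↥(Subgroup.centralizer ({t} : Set G)))
    (hQ : Cfsg.IsExtraspecial 2 ↥(Cfsg.pCore 2 ↥(Subgroup.centralizer ({t} : Set G))))
    (hcard : Nat.card ↥(Cfsg.pCore 2 ↥(Subgroup.centralizer ({t} : Set G))) = 2 ^ 9)
    (e : ↥(Subgroup.centralizer ({t} : Set G)) ⧸ Cfsg.pCore 2 ↥(Subgroup.centralizer ({t} : Set G)) ≃*
      Matrix.symplecticGroup (Fin 3) (ZMod 2)) :
    Nonempty (G ≃* ↥Cfsg.Spor.Co2) := by
  haveI : Finite ↥Cfsg.Spor.Co2 := Nat.finite_of_card_ne_zero (by rw [Model.card_spor]; norm_num)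
  obtain ⟨s, hs, hscon, hsQ, hscard, ⟨se⟩⟩ := Co2Hyps.exists_involution
  exact nonempty_iso
    (hasCoords_of hO hZ t ht hcon hQ hcard e fun χ S hC hg => hX G t χ ht S hC hg)
    (hasCoords_of spor_cores.1 spor_cores.2 s hs hscon hsQ hscard se fun χ S hC hg => hX0 _ s χ hs S hC hg)

end Cfsg.Agent.Co2Type.Final
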