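import Cfsg.Agent.Lib.Co2Type.Proj
import Cfsg.Agent.Lib.Co2Type.SpinFrame

/-!
The dichotomy: the orthogonal module of `Sp₆(2)` with 256 vectors is the spin module or has a fixed
non-singular vector.
-/

set_option autoImplicit false
set_option maxRecDepth 20000
set_option linter.unusedSectionVars false

namespace Cfsg.Agent.Co2Type

theorem gen_rot_code : code6 ([2] ++ (plane 2 false ++ plane 2 true)) = code6 ((plane 2 false ++ plane 2 true) ++ [2]) ∧
    code6 ([3] ++ (plane 0 false ++ plane 0 true)) = code6 ((plane 0 false ++ plane 0 true) ++ [3]) := by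
  decide +kernel

theorem gen_ne_code : (∃ n : Fin 6, dec6 (ap (code6 [2]) (2 ^ n.val)) ≠ dec6 (ap (code6 [1]) (2 ^ n.val))) ∧
    (∃ n : Fin 6, dec6 (ap (code6 [2]) (2 ^ n.val)) ≠ dec6 (ap (code6 [6]) (2 ^ n.val))) ∧
    (∃ n : Fin 6, dec6 (ap (code6 [2]) (2 ^ n.val)) ≠ dec6 (ap (code6 []) (2 ^ n.val))) := by
  decide +kernel

theorem plane_list : ∀ k : Fin 7, k = 2 ∨ k = 3 ∨ ∃ i s, plane i s = [k] := by decide +kernel

theorem plane_third : ∀ (i : Fin 3) (s : Bool), code6 (plane i (!s) ++ plane i s ++ plane i s ++ plane i (!s)) = code6 [] := by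
  decide +kernel

variable {V : Type*} [AddCommGroup V] (M : Mod V)

theorem plane_inv (i : Fin 3) (s : Bool) (v : V) :
    M.ρ (xw (plane i s)) (M.ρ (xw (plane i s)) v) = v := by
  rw [← Mod.rho_mul, plane_sq', Mod.rho_one]

theorem plane_true_eq (i : Fin 3) {u : V} (hu : proj M i u = u) :
    M.ρ (xw (plane i true)) u = M.ρ (xw (plane i false)) u := by
  have h : M.ρ (xw (plane i false)) (M.ρ (xw (plane i true)) u) = u := by
    rw [← Mod.rho_mul, ← xw_append]; exact (proj_eq_self M).1 hu
  have := congrArg (M.ρ (xw (plane i false))) h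
  rwa [plane_inv] at this

theorem dif_comm_map {g h : X6} (hc : h * g = g * h) (v : V) : M.ρ h (dif M g v) = dif M g (M.ρ h v) :=
  rho_dif_comm M hc v

theorem eq_of_dif_zero {g : X6} {v : V} (h : dif M g v = 0) : M.ρ g v = v := by
  calc M.ρ g v = (v + v) + M.ρ g v := by rw [M.add_self, zero_add]
    _ = v := by rw [add_assoc]; rw [dif] at h; rw [h, add_zero]

theorem dif_zero' (g : X6) : dif M g (0 : V) = 0 := by simp [dif]

/-- The vectors fixed by the three rotations. -/
def InU (u : V) : Prop := ∀ i, proj M i u = u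

theorem inU_proj (v : V) : InU M (proj M 0 (proj M 1 (proj M 2 v))) := by
  intro i
  fin_cases i
  · exact proj_idem M 0 _
  · show proj M 1 _ = _
    rw [proj_comm M 1 0, proj_idem]
  · show proj M 2 _ = _
    rw [proj_comm M 2 0, proj_comm M 2 1, proj_idem]

variable (hN : NoMoved M) [Finite V]
include hN

theorem moved_other {i j : Fin 3} (hij : i ≠ j) {w : V} (hw : proj M i w = 0) : proj M j w = w := by
  have h : w + proj M j w = 0 := by
    refine pair_zero M hN hij ?_ ?_
    · rw [proj_add, hw, proj_comm, hw, proj_zero, add_zero]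
    · rw [proj_add, proj_idem, M.add_self]
  calc proj M j w = (w + w) + proj M j w := by rw [M.add_self, zero_add]
    _ = w := by rw [add_assoc, h, add_zero]

theorem decomp (v : V) :
    v = proj M 0 (proj M 1 (proj M 2 v)) + ((v + proj M 0 v) + (v + proj M 1 v) + (v + proj M 2 v)) := by
  set m : Fin 3 → V := fun i => v + proj M i v with hm
  set u := proj M 0 (proj M 1 (proj M 2 v)) with hu
  have hm0 : ∀ i, proj M i (m i) = 0 := fun i => by rw [hm, proj_add, proj_idem, M.add_self]
  have hmj : ∀ i j, i ≠ j → proj M j (m i) = m i := fun i j h => moved_other M hN h (hm0 i)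
  have hmu : ∀ i, proj M i u = u := inU_proj M v
  set D := v + u + (m 0 + m 1 + m 2) with hD
  have hfix : ∀ i, D + proj M i D = 0 := by
    intro i
    have e : D + proj M i D = (v + proj M i v) + (u + proj M i u) +
        ((m 0 + proj M i (m 0)) + (m 1 + proj M i (m 1)) + (m 2 + proj M i (m 2))) := by
      rw [hD]; simp only [proj_add]; abel
    have e' : ∀ j, m j + proj M i (m j) = if i = j then m i else 0 := by
      intro j
      by_cases h : i = j
      · subst h; rw [if_pos rfl, hm0, add_zero]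
      · rw [if_neg h, hmj j i (Ne.symm h), M.add_self]
    rw [e, e', e', e', hmu, M.add_self, add_zero]
    fin_cases i <;> simp [hm, M.add_self]
  have hD' : ∀ i, proj M i D = D := fun i => by
    calc proj M i D = (D + D) + proj M i D := by rw [M.add_self, zero_add]
      _ = D := by rw [add_assoc, hfix, add_zero]
  have hD0 : D = 0 := by
    calc D = proj M 0 (proj M 1 (proj M 2 D)) := by rw [hD', hD', hD']
      _ = u + u := by
        rw [hD]
        simp only [proj_add, hmu]
        rw [hm0 2, hmj 0 2 (by decide), hmj 1 2 (by decide)]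
        simp only [hm0 1, proj_zero, hmj 0 1 (by decide), hm0 0, add_zero]
        rfl
      _ = 0 := M.add_self u
  calc v = (v + D) := by rw [hD0, add_zero]
    _ = (v + v) + (u + (m 0 + m 1 + m 2)) := by rw [hD]; abel
    _ = _ := by rw [M.add_self, zero_add]

theorem exists_moved (i : Fin 3) : ∃ w, w ≠ 0 ∧ proj M i w = 0 := by
  by_contra h
  push Not at h
  refine rot_ne i (M.inj _ (DFunLike.ext _ _ fun v => ?_))
  show M.ρ (rot i) v = v
  refine (proj_eq_self M).1 ?_
  by_contra e
  refine h (v + proj M i v) (fun h0 => e ?_) (by rw [proj_add, proj_idem, M.add_self])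
  calc proj M i v = (v + v) + proj M i v := by rw [M.add_self, zero_add]
    _ = v := by rw [add_assoc, h0, add_zero]

omit hN in
theorem three_moved {i : Fin 3} {w : V} (hw0 : w ≠ 0) (hw : proj M i w = 0) :
    M.ρ (rot i) w ≠ w ∧ M.ρ (rot i) (M.ρ (rot i) w) ≠ w := by
  have h1 : M.ρ (rot i) w ≠ w := fun e => hw0 (by rw [← (proj_eq_self M).2 e, hw])
  refine ⟨h1, fun e => h1 ?_⟩
  have := congrArg (M.ρ (rot i)) e
  rw [rot_cube] at this
  exact this.symm

theorem sizes : Nat.card {w : V // proj M 0 w = 0} = 4 ∧ Nat.card {u : V // InU M u} = 4 := by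
  classical
  let m : Fin 3 → Type _ := fun i => {w : V // proj M i w = 0}
  let Φ : {u : V // InU M u} × m 0 × m 1 × m 2 → V := fun c => c.1.1 + (c.2.1.1 + c.2.2.1.1 + c.2.2.2.1)
  have hp : ∀ (i : Fin 3) (c), Φ c + proj M i (Φ c) =
      if i = 0 then c.2.1.1 else if i = 1 then c.2.2.1.1 else c.2.2.2.1 := by
    intro i ⟨⟨u, hu⟩, ⟨a, ha⟩, ⟨b, hb⟩, ⟨c, hc⟩⟩
    show u + (a + b + c) + proj M i (u + (a + b + c)) = _
    simp only [proj_add, hu i]
    fin_cases i
    · simp only [Fin.zero_eta, if_true]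
      rw [ha, moved_other M hN (i := 1) (j := 0) (by decide) hb, moved_other M hN (i := 2) (j := 0) (by decide) hc,
        show u + (a + b + c) + (u + (0 + b + c)) = a + ((u + u) + (b + b) + (c + c)) by abel]
      simp [M.add_self]
    · simp only [Fin.mk_one, Fin.reduceEq, if_false, if_true]
      rw [hb, moved_other M hN (i := 0) (j := 1) (by decide) ha, moved_other M hN (i := 2) (j := 1) (by decide) hc,
        show u + (a + b + c) + (u + (a + 0 + c)) = b + ((u + u) + (a + a) + (c + c)) by abel]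
      simp [M.add_self]
    · simp only [Fin.reduceFinMk, Fin.reduceEq, if_false]
      rw [hc, moved_other M hN (i := 1) (j := 2) (by decide) hb, moved_other M hN (i := 0) (j := 2) (by decide) ha,
        show u + (a + b + c) + (u + (a + b + 0)) = c + ((u + u) + (b + b) + (a + a)) by abel]
      simp [M.add_self]
  have hbij : Function.Bijective Φ := by
    refine ⟨fun c c' e => ?_, fun v => ⟨⟨⟨_, inU_proj M v⟩, ⟨v + proj M 0 v, by rw [proj_add, proj_idem, M.add_self]⟩,
      ⟨v + proj M 1 v, by rw [proj_add, proj_idem, M.add_self]⟩,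
      ⟨v + proj M 2 v, by rw [proj_add, proj_idem, M.add_self]⟩⟩, (decomp M hN v).symm⟩⟩
    have h0 := hp 0 c; have h1 := hp 1 c; have h2 := hp 2 c
    rw [e, hp] at h0 h1 h2
    simp only [Fin.reduceEq, if_false, if_true] at h0 h1 h2
    have h3 : c.1.1 = c'.1.1 := by
      have e' : c.1.1 + (c.2.1.1 + c.2.2.1.1 + c.2.2.2.1) = c'.1.1 + (c'.2.1.1 + c'.2.2.1.1 + c'.2.2.2.1) := e
      rw [← h0, ← h1, ← h2] at e'
      exact add_right_cancel e'
    exact Prod.ext (Subtype.ext h3) (Prod.ext (Subtype.ext h0.symm) (Prod.ext (Subtype.ext h1.symm) (Subtype.ext h2.symm)))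
  have hc : ∀ a i, Nat.card (m i) ≤ Nat.card (m (sg a i)) := fun a i =>
    Nat.card_le_card_of_injective
      (fun w => (⟨M.ρ (xw (sw a)) w.1, by rw [← proj_sw, w.2, map_zero]⟩ : m (sg a i)))
      (fun w w' e => Subtype.ext (M.rho_inj_eq (congrArg Subtype.val e)))
  have h1 : Nat.card (m 1) = Nat.card (m 0) := le_antisymm (hc 2 1) (hc 2 0)
  have h2 : Nat.card (m 2) = Nat.card (m 0) := le_antisymm (hc 1 2) (hc 1 0)
  have hcard := Nat.card_congr (Equiv.ofBijective Φ hbij)
  rw [M.card, Nat.card_prod, Nat.card_prod, Nat.card_prod, h1, h2] at hcard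
  obtain ⟨w, hw0, hw⟩ := exists_moved M hN 0
  obtain ⟨n1, n2⟩ := three_moved M hw0 hw
  have h4 : 4 ≤ Nat.card (m 0) := by
    have hr : ∀ {y : V}, proj M 0 y = 0 → proj M 0 (M.ρ (rot 0) y) = 0 := fun {y} hy => by
      rw [← proj_map M (rot_comm 0 0), hy, map_zero]
    let f : Fin 4 → m 0 := ![⟨0, proj_zero M 0⟩, ⟨w, hw⟩, ⟨_, hr hw⟩, ⟨_, hr (hr hw)⟩]
    have z1 : M.ρ (rot 0) w ≠ 0 := fun e => hw0 (M.rho_inj_eq (e.trans (map_zero _).symm))
    have z2 : M.ρ (rot 0) (M.ρ (rot 0) w) ≠ 0 := fun e => z1 (M.rho_inj_eq (e.trans (map_zero _).symm))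
    have n3 : M.ρ (rot 0) (M.ρ (rot 0) w) ≠ M.ρ (rot 0) w := fun e => n1 (M.rho_inj_eq e)
    have : Function.Injective f := by
      intro a b e
      fin_cases a <;> fin_cases b <;> first | rfl | (exfalso; simp [f] at e; grind)
    simpa using Nat.card_le_card_of_injective f this
  have hupos : 0 < Nat.card {u : V // InU M u} := by
    have : Nonempty {u : V // InU M u} := ⟨⟨0, fun i => proj_zero M i⟩⟩
    exact Nat.card_pos
  generalize hU : Nat.card {u : V // InU M u} = U at hcard hupos
  generalize hk : Nat.card (m 0) = k at hcard h4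
  have hk4 : k = 4 := by
    have hk6 : k ≤ 6 := by
      by_contra hk6
      have : 7 * (7 * 7) ≤ k * (k * k) := Nat.mul_le_mul (by omega) (Nat.mul_le_mul (by omega) (by omega))
      have : k * (k * k) ≤ U * (k * (k * k)) := Nat.le_mul_of_pos_left _ hupos
      omega
    interval_cases k <;> omega
  subst hk4
  exact ⟨by omega, by omega⟩

end Cfsg.Agent.Co2Type
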