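import Cfsg.Agent.Lib.Co2Type.Fixed

/-!
Without a vector moved by the three rotations the module has a fixed non-singular vector.
-/

set_option autoImplicit false
set_option maxRecDepth 20000
set_option linter.unusedSectionVars false

namespace Cfsg.Agent.Co2Type

theorem braid_comm_eq {H : Type*} [Group H] {g h : H} (hb : h * g * h = g * h * g) (hc : g * h = h * g) :
    g = h := by
  have e : h * g * h = h * g * g := by rw [hb, hc]
  exact (mul_left_cancel e).symm

variable {V : Type*} [AddCommGroup V] (M : Mod V)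

/-- The differences of `g` take one non-zero value. -/
def RankOne (g : X6) : Prop := ∀ y z, dif M g y ≠ 0 → dif M g z ≠ 0 → dif M g y = dif M g z

theorem RankOne.conj {g h c : X6} (hg : RankOne M g) (e : c * g = h * c) : RankOne M h := by
  have key : ∀ y, ∃ y', dif M h y = M.ρ c (dif M g y') := by
    intro y
    refine ⟨M.ρ c⁻¹ y, ?_⟩
    rw [dif, dif, map_add, ← Mod.rho_mul, ← Mod.rho_mul M g c⁻¹, ← Mod.rho_mul, ← mul_assoc, e, mul_assoc,
      mul_inv_cancel, mul_one, Mod.rho_one]
  intro y z hy hz
  obtain ⟨y', ey⟩ := key y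
  obtain ⟨z', ez⟩ := key z
  rw [ey, ez, hg y' z' (fun e0 => hy (by rw [ey, e0, map_zero])) (fun e0 => hz (by rw [ez, e0, map_zero]))]

theorem gen_braids : gen 1 * gen 2 * gen 1 = gen 2 * gen 1 * gen 2 ∧ gen 4 * gen 3 * gen 4 = gen 3 * gen 4 * gen 3 ∧
    gen 6 * gen 2 * gen 6 = gen 2 * gen 6 * gen 2 := by
  obtain ⟨-, -, -, -, b21, b26, -⟩ := mv2_comm
  obtain ⟨-, -, -, -, b34, -, -⟩ := mv3_comm
  refine ⟨?_, ?_, ?_⟩
  · have := xw_eq b21; simp only [xw_append, xw_single] at this; exact this.symm
  · have := xw_eq b34; simp only [xw_append, xw_single] at this; exact this.symm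
  · have := xw_eq b26; simp only [xw_append, xw_single] at this; exact this.symm

theorem fixed_of_gen {v : V} (h : ∀ k, M.ρ (gen k) v = v) (g : X6) : M.ρ g v = v := by
  have hg : g ∈ Subgroup.closure (Set.range gen) := closure_gen ▸ Subgroup.mem_top g
  induction hg using Subgroup.closure_induction with
  | mem x hx => obtain ⟨k, rfl⟩ := hx; exact h k
  | one => exact M.rho_one v
  | mul x y _ _ hx hy => rw [Mod.rho_mul, hy, hx]
  | inv x _ hx =>
    calc M.ρ x⁻¹ v = M.ρ x⁻¹ (M.ρ x v) := by rw [hx]
      _ = v := by rw [← Mod.rho_mul, inv_mul_cancel, Mod.rho_one]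

variable (hN : NoMoved M) [Finite V]
include hN

theorem rho_inU {g : X6} {u : V} (hu : InU M u) (s : Fin 3 → Fin 3) (hs : Function.Surjective s)
    (h : ∀ i v, M.ρ g (proj M i v) = proj M (s i) (M.ρ g v)) : InU M (M.ρ g u) := by
  intro j
  obtain ⟨i, rfl⟩ := hs j
  rw [← h, hu i]

theorem plane_inU {u : V} (hu : InU M u) (i : Fin 3) (s : Bool) : InU M (M.ρ (xw (plane i s)) u) :=
  fun j => by rw [← proj_plane, hu j]

theorem inU_perp {u w : V} {i : Fin 3} (hu : InU M u) (hw : proj M i w = 0) : M.b u w = false :=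
  b_fixed_moved M (hu i) hw

theorem moved_perp {i j : Fin 3} (h : i ≠ j) {w w' : V} (hw : proj M i w = 0) (hw' : proj M j w' = 0) :
    M.b w w' = false :=
  b_fixed_moved M (moved_other M hN h hw) hw'

theorem inU_pair {u : V} (hu : InU M u) (hu0 : u ≠ 0) : ∃ w, InU M w ∧ M.b u w = true := by
  by_contra h
  push Not at h
  refine hu0 (M.nondeg u fun w => ?_)
  rw [decomp M hN w, M.b_add_right, M.b_add_right, M.b_add_right]
  rw [Bool.eq_false_iff.2 (fun e => h _ (inU_proj M w) e)]
  rw [inU_perp M hN (i := 0) hu (by rw [proj_add, proj_idem, M.add_self]),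
    inU_perp M hN (i := 1) hu (by rw [proj_add, proj_idem, M.add_self]),
    inU_perp M hN (i := 2) hu (by rw [proj_add, proj_idem, M.add_self])]
  rfl

theorem inU_four {u w : V} (hu : InU M u) (hw : InU M w) (hu0 : u ≠ 0) (hw0 : w ≠ 0) (hne : u ≠ w) {z : V}
    (hz : InU M z) : z = 0 ∨ z = u ∨ z = w ∨ z = u + w := by
  classical
  by_contra h
  push Not at h
  have hs : InU M (u + w) := fun i => by rw [proj_add, hu i, hw i]
  let f : Fin 5 → {y : V // InU M y} := ![⟨0, fun i => proj_zero M i⟩, ⟨u, hu⟩, ⟨w, hw⟩, ⟨u + w, hs⟩, ⟨z, hz⟩]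
  have n1 : u + w ≠ 0 := fun e => hne (by
    calc u = u + (w + w) := by rw [M.add_self, add_zero]
      _ = w := by rw [← add_assoc, e, zero_add])
  have n2 : u + w ≠ u := fun e => hw0 (add_eq_left.1 e)
  have n3 : u + w ≠ w := fun e => hu0 (add_eq_right.1 e)
  obtain ⟨h0, h1, h2, h3⟩ := h
  have hf : Function.Injective f := by
    intro a b e
    fin_cases a <;> fin_cases b <;> first | rfl | (exfalso; simp [f] at e; grind)
  have := Nat.card_le_card_of_injective f hf
  rw [Nat.card_fin, (sizes M hN).2] at this
  omega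

theorem moved_four {w : V} (hw0 : w ≠ 0) {i : Fin 3} (hw : proj M i w = 0) {z : V} (hz : proj M i z = 0) :
    z = 0 ∨ z = w ∨ z = M.ρ (rot i) w ∨ z = M.ρ (rot i) (M.ρ (rot i) w) := by
  classical
  by_contra h
  push Not at h
  obtain ⟨n1, n2⟩ := three_moved M hw0 hw
  have hr : ∀ {y : V}, proj M i y = 0 → proj M i (M.ρ (rot i) y) = 0 := fun {y} hy => by
    rw [← proj_map M (rot_comm i i), hy, map_zero]
  have hk : Nat.card {y : V // proj M i y = 0} = 4 := by
    rw [← (sizes M hN).1]
    obtain ⟨a, ha⟩ := (by decide : ∀ i : Fin 3, ∃ a, sg a i = 0 ∧ sg a 0 = i) i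
    refine le_antisymm (Nat.card_le_card_of_injective (fun y => ⟨M.ρ (xw (sw a)) y.1, ?_⟩) ?_)
      (Nat.card_le_card_of_injective (fun y => ⟨M.ρ (xw (sw a)) y.1, ?_⟩) ?_)
    · rw [← ha.1, ← proj_sw, y.2, map_zero]
    · exact fun y y' e => Subtype.ext (M.rho_inj_eq (congrArg Subtype.val e))
    · rw [← ha.2, ← proj_sw, y.2, map_zero]
    · exact fun y y' e => Subtype.ext (M.rho_inj_eq (congrArg Subtype.val e))
  let f : Fin 5 → {y : V // proj M i y = 0} := ![⟨0, proj_zero M i⟩, ⟨w, hw⟩, ⟨_, hr hw⟩, ⟨_, hr (hr hw)⟩, ⟨z, hz⟩]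
  have z1 : M.ρ (rot i) w ≠ 0 := fun e => hw0 (M.rho_inj_eq (e.trans (map_zero _).symm))
  have z2 : M.ρ (rot i) (M.ρ (rot i) w) ≠ 0 := fun e => z1 (M.rho_inj_eq (e.trans (map_zero _).symm))
  have n3 : M.ρ (rot i) (M.ρ (rot i) w) ≠ M.ρ (rot i) w := fun e => n1 (M.rho_inj_eq e)
  obtain ⟨h0, h1, h2, h3⟩ := h
  have hf : Function.Injective f := by
    intro a b e
    fin_cases a <;> fin_cases b <;> first | rfl | (exfalso; simp [f] at e; grind)
  have := Nat.card_le_card_of_injective f hf
  rw [Nat.card_fin, hk] at this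
  omega

/-- A plane transvection fixes the vectors moved by the rotation of another plane. -/
theorem plane_fix {i j : Fin 3} (hij : i ≠ j) (s : Bool) {w : V} (hw : proj M i w = 0) :
    M.ρ (xw (plane j s)) w = w := by
  by_cases hw0 : w = 0
  · rw [hw0, map_zero]
  obtain ⟨n1, n2⟩ := three_moved M hw0 hw
  have hp : proj M i (M.ρ (xw (plane j s)) w) = 0 := by rw [← proj_plane, hw, map_zero]
  have hc : xw (plane j s) * rot i = rot i * xw (plane j s) := by
    simp only [rot]
    rw [← xw_append, ← xw_append, xw_eq (plane_rot j i s hij.symm)]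
  have hcx : ∀ y, M.ρ (xw (plane j s)) (M.ρ (rot i) y) = M.ρ (rot i) (M.ρ (xw (plane j s)) y) := fun y => by
    rw [← Mod.rho_mul, hc, Mod.rho_mul]
  rcases moved_four M hN hw0 hw hp with e | e | e | e
  · exact absurd (M.rho_inj_eq (e.trans (map_zero _).symm)) hw0
  · exact e
  · have := congrArg (M.ρ (xw (plane j s))) e
    rw [plane_inv, hcx, e] at this
    exact absurd this.symm n2
  · have := congrArg (M.ρ (xw (plane j s))) e
    rw [plane_inv, hcx, hcx, e, rot_cube] at this
    exact absurd this.symm n1

theorem dif_plane_decomp (i : Fin 3) (s : Bool) (z : V) :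
    dif M (xw (plane i s)) z =
      dif M (xw (plane i s)) (proj M 0 (proj M 1 (proj M 2 z))) + dif M (xw (plane i s)) (z + proj M i z) := by
  conv_lhs => rw [decomp M hN z]
  rw [dif_add, dif_add, dif_add]
  have h : ∀ j, j ≠ i → dif M (xw (plane i s)) (z + proj M j z) = 0 := fun j hj => by
    rw [dif, plane_fix M hN hj s (by rw [proj_add, proj_idem, M.add_self]), M.add_self]
  fin_cases i
  · rw [h 1 (by decide), h 2 (by decide), add_zero, add_zero]
    rfl
  · rw [h 0 (by decide), h 2 (by decide), zero_add, add_zero]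
    rfl
  · rw [h 0 (by decide), h 1 (by decide), zero_add, zero_add]
    rfl

/-- The case that some vector of `U` is moved by the first plane transvection. -/
theorem fixedVec_moved {u : V} (hu : InU M u) (hpu : M.ρ (xw (plane 0 false)) u ≠ u) : FixedVec M := by
  set p := xw (plane 0 false) with hp
  set v := dif M p u with hv
  have hpu' : InU M (M.ρ p u) := plane_inU M hN hu 0 false
  have hu0 : u ≠ 0 := fun e => hpu (by rw [e, map_zero])
  have hpu0 : M.ρ p u ≠ 0 := fun e => hu0 (M.rho_inj_eq (e.trans (map_zero _).symm))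
  have hvU : InU M v := fun i => by rw [hv, dif, proj_add, hu i, hpu' i]
  have hv0 : v ≠ 0 := fun e => hpu (eq_of_dif_zero M e)
  -- the differences on `U`
  have himg : ∀ y, InU M y → dif M p y = 0 ∨ dif M p y = v := by
    intro y hy
    have hpp : dif M p (M.ρ p u) = v := by rw [dif, plane_inv, add_comm]; rfl
    rcases inU_four M hN hu hpu' hu0 hpu0 (Ne.symm hpu) hy with rfl | rfl | rfl | rfl
    · exact .inl (dif_zero' M p)
    · exact .inr rfl
    · exact .inr hpp
    · exact .inl (by rw [dif_add, hpp, ← hv, M.add_self])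
  have hfixU : ∀ y, InU M y → M.ρ p y = y → y = 0 ∨ y = v := by
    intro y hy he
    rcases inU_four M hN hu hpu' hu0 hpu0 (Ne.symm hpu) hy with rfl | rfl | rfl | rfl
    · exact .inl rfl
    · exact absurd he hpu
    · rw [plane_inv] at he; exact absurd he.symm hpu
    · exact .inr rfl
  have hp0v : ∀ s, M.ρ (xw (plane 0 s)) v = v := by
    have h := dif_dif M (plane_sq' 0 false) u
    intro s; cases s
    · exact h
    · rw [plane_true_eq M 0 (hvU 0)]; exact h
  -- transvections of the other planes
  have hpi : ∀ i s, M.ρ (xw (plane i s)) v = v := by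
    intro i s
    by_cases hi : i = 0
    · subst hi; exact hp0v s
    have e : M.ρ (xw (plane i s)) v = dif M p (M.ρ (xw (plane i s)) u) :=
      rho_dif_comm M (plane_comm' hi s false) u
    rcases himg _ (plane_inU M hN hu i s) with h | h
    · rw [← e] at h; exact absurd (M.rho_inj_eq (h.trans (map_zero _).symm)) hv0
    · rw [e, h]
  -- the crossing transvections
  have cross : ∀ (k : Fin 7) (i : Fin 3) (q : X6) (w : V), q = xw (plane i false) →
      InU M w → dif M q w = v → (∀ y, InU M y → dif M q y = 0 ∨ dif M q y = v) →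
      gen k * q = q * gen k → gen k * rot i = rot i * gen k → M.ρ (gen k) v = v := by
    intro k i q w hq hw hwv himq hc hr
    have e : M.ρ (gen k) v = dif M q (M.ρ (gen k) w) := by rw [← hwv]; exact rho_dif_comm M hc w
    have hz : proj M i (M.ρ (gen k) w) = M.ρ (gen k) w := by rw [← proj_map M hr, hw i]
    rw [hq, dif_plane_decomp M hN, hz, M.add_self, dif_zero', add_zero, ← hq] at e
    rcases himq _ (inU_proj M _) with h | h
    · rw [h] at e; exact absurd (M.rho_inj_eq (e.trans (map_zero _).symm)) hv0
    · rw [e, h]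
  have g3 : M.ρ (gen 3) v = v := by
    refine cross 3 0 p u rfl hu rfl himg ?_ ?_
    · rw [hp, show plane 0 false = [1] from rfl, xw_single]
      have := xw_eq mv3_comm.2.1
      rwa [xw_append, xw_append, xw_single, xw_single] at this
    · have := xw_eq gen_rot_code.2
      simp only [rot, xw_append, xw_single] at this ⊢
      exact this
  have g2 : M.ρ (gen 2) v = v := by
    set q := xw (plane 2 false) with hq
    set w := M.ρ (xw (sw 1)) u with hw
    have hwU : InU M w := rho_inU M hN hu (sg 1) (by decide) fun i y => proj_sw M 1 i y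
    have hqe : xw (sw 1) * p = q * xw (sw 1) := by
      rw [hp, hq, ← xw_append, ← xw_append]; exact xw_eq (sw_plane 1 0 false)
    have hmove : dif M q w = M.ρ (xw (sw 1)) v := by
      rw [hv, dif, dif, map_add, ← Mod.rho_mul M (xw (sw 1)) p, hqe, Mod.rho_mul]
    have hqw : dif M q w = v := by
      have hU : InU M (dif M q w) := fun i => by rw [dif, proj_add, hwU i, plane_inU M hN hwU 2 false i]
      have hf : M.ρ p (dif M q w) = dif M q w := by
        have hpc : p * q = q * p := plane_comm' (by decide) false false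
        rw [rho_dif_comm M hpc]
        rcases hfixU (dif M p w) (fun i => by rw [dif, proj_add, hwU i, plane_inU M hN hwU 0 false i])
          (dif_dif M (plane_sq' 0 false) w) with h | h
        · rw [eq_of_dif_zero M h]
        · have h2 : dif M q (dif M p w) = 0 := by rw [h, dif, hpi, M.add_self]
          rw [dif, dif, map_add] at h2
          rw [dif, dif]
          calc M.ρ p w + M.ρ q (M.ρ p w) = (w + M.ρ p w + (M.ρ q w + M.ρ q (M.ρ p w))) + (w + M.ρ q w) := by
                rw [show w + M.ρ p w + (M.ρ q w + M.ρ q (M.ρ p w)) + (w + M.ρ q w) =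
                  M.ρ p w + M.ρ q (M.ρ p w) + ((w + w) + (M.ρ q w + M.ρ q w)) by abel, M.add_self, M.add_self,
                  add_zero, add_zero]
            _ = w + M.ρ q w := by rw [h2, zero_add]
      rcases hfixU _ hU hf with h | h
      · rw [hmove] at h; exact absurd (M.rho_inj_eq (h.trans (map_zero _).symm)) hv0
      · exact h
    have hw0 : w ≠ 0 := fun e => hu0 (M.rho_inj_eq (e.trans (map_zero _).symm))
    have hqw' : InU M (M.ρ q w) := plane_inU M hN hwU 2 false
    have hne : M.ρ q w ≠ w := fun e => hv0 (by rw [← hqw, dif, e, M.add_self])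
    have hqw0 : M.ρ q w ≠ 0 := fun e => hw0 (M.rho_inj_eq (e.trans (map_zero _).symm))
    refine cross 2 2 q w rfl hwU hqw (fun y hy => ?_) ?_ ?_
    · have hqq : dif M q (M.ρ q w) = v := by rw [dif, plane_inv, add_comm, ← hqw]; rfl
      rcases inU_four M hN hwU hqw' hw0 hqw0 (Ne.symm hne) hy with rfl | rfl | rfl | rfl
      · exact .inl (dif_zero' M q)
      · exact .inr hqw
      · exact .inr hqq
      · exact .inl (by rw [dif_add, hqq, hqw, M.add_self])
    · rw [hq, show plane 2 false = [4] from rfl, xw_single]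
      have := xw_eq mv2_comm.2.2.1
      rwa [xw_append, xw_append, xw_single, xw_single] at this
    · have := xw_eq gen_rot_code.1
      simp only [rot, xw_append, xw_single] at this ⊢
      exact this
  refine ⟨v, ?_, fixed_of_gen M fun k => ?_⟩
  · rw [hv, dif, M.q_add, M.q_inv, Bool.xor_self, Bool.false_xor]
    obtain ⟨w, hw, hb⟩ := inU_pair M hN hu hu0
    rcases inU_four M hN hu hpu' hu0 hpu0 (Ne.symm hpu) hw with rfl | rfl | rfl | rfl
    · rw [M.b_comm, M.b_zero_left] at hb; exact absurd hb (by decide)
    · rw [M.b_self] at hb; exact absurd hb (by decide)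
    · exact hb
    · rw [M.b_add_right, M.b_self, Bool.false_xor] at hb; exact hb
  · rcases plane_list k with rfl | rfl | ⟨i, s, e⟩
    · exact g2
    · exact g3
    · rw [← xw_single, ← e]; exact hpi i s

/-- The case that `U` is fixed by the plane transvections. -/
theorem fixedVec_fixed (hU : ∀ u, InU M u → M.ρ (xw (plane 0 false)) u = u) : FixedVec M := by
  classical
  have hUp : ∀ i s u, InU M u → M.ρ (xw (plane i s)) u = u := by
    intro i s u hu
    obtain ⟨a, ha, hs⟩ := (by decide : ∀ i : Fin 3, ∃ a, sg a i = 0 ∧ Function.Surjective (sg a)) i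
    have h := hU _ (rho_inU M hN hu (sg a) hs fun j y => proj_sw M a j y)
    rw [← Mod.rho_mul, show xw (plane 0 false) * xw (sw a) = xw (sw a) * xw (plane i false) by
      rw [← xw_append, ← xw_append, xw_eq (sw_plane a i false), ha], Mod.rho_mul] at h
    have h' := M.rho_inj_eq h
    cases s
    · exact h'
    · rw [plane_true_eq M i (hu i)]; exact h'
  have hrank : ∀ i s, RankOne M (xw (plane i s)) := by
    intro i s
    have hpr : xw (plane i s) * rot i = rot i * rot i * xw (plane i s) := by
      simp only [rot]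
      rw [← xw_append, ← xw_append, ← xw_append, xw_eq (plane_rot_self i s)]
    have key : ∀ z, dif M (xw (plane i s)) z = dif M (xw (plane i s)) (z + proj M i z) := fun z => by
      rw [dif_plane_decomp M hN, show dif M (xw (plane i s)) (proj M 0 (proj M 1 (proj M 2 z))) = 0 by
        rw [dif, hUp i s _ (inU_proj M z), M.add_self], zero_add]
    intro y z hy hz
    rw [key] at hy hz ⊢
    rw [key z]
    set y' := dif M (xw (plane i s)) (y + proj M i y)
    set z' := dif M (xw (plane i s)) (z + proj M i z)
    have hm : ∀ {x : V}, proj M i (dif M (xw (plane i s)) (x + proj M i x)) = 0 := fun {x} => by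
      rw [dif, proj_add, ← proj_plane, proj_add M i x, proj_idem, M.add_self, map_zero, add_zero]
    have fy : M.ρ (xw (plane i s)) y' = y' := dif_dif M (plane_sq' i s) _
    have fz : M.ρ (xw (plane i s)) z' = z' := dif_dif M (plane_sq' i s) _
    obtain ⟨n1, n2⟩ := three_moved M hy (hm (x := y))
    rcases moved_four M hN hy hm (hm (x := z)) with e | e | e | e
    · exact absurd e hz
    · exact e.symm
    · exfalso
      rw [show z' = _ from e, ← Mod.rho_mul, hpr, Mod.rho_mul, fy, Mod.rho_mul] at fz
      exact n1 (M.rho_inj_eq fz)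
    · exfalso
      rw [show z' = _ from e, ← Mod.rho_mul, ← Mod.rho_mul, hpr, mul_assoc (rot i * rot i), hpr, ← mul_assoc,
        show rot i * rot i * (rot i * rot i) = rot i by rw [← mul_assoc, rot_three, one_mul],
        Mod.rho_mul, fy] at fz
      exact n1 (M.rho_inj_eq fz).symm
  obtain ⟨b12, b43, b62⟩ := gen_braids
  have hr2 : RankOne M (gen 2) := (hrank 0 false).conj M (c := gen 1 * gen 2) (by
    rw [show plane 0 false = [1] from rfl, xw_single, b12, mul_assoc])
  have hr3 : RankOne M (gen 3) := (hrank 2 false).conj M (c := gen 4 * gen 3) (by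
    rw [show plane 2 false = [4] from rfl, xw_single, b43, mul_assoc])
  have hrk : ∀ k, RankOne M (gen k) := by
    intro k
    rcases plane_list k with rfl | rfl | ⟨i, s, e⟩
    · exact hr2
    · exact hr3
    · rw [← xw_single, ← e]; exact hrank i s
  -- a fixed vector
  obtain ⟨v, hv0, hv⟩ : ∃ v, v ≠ 0 ∧ ∀ k, M.ρ (gen k) v = v := by
    have hlt : Nat.card (Fin 7 → Bool) < Nat.card V := by simp [M.card, Nat.card_eq_fintype_card]
    have hni : ¬ Function.Injective (fun y : V => fun k => decide (dif M (gen k) y = 0)) := fun h =>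
      absurd (Nat.card_le_card_of_injective _ h) (not_le.2 hlt)
    simp only [Function.Injective, not_forall] at hni
    obtain ⟨y, z, e, hne⟩ := hni
    refine ⟨y + z, fun h => hne ?_, fun k => eq_of_dif_zero M ?_⟩
    · calc y = y + (z + z) := by rw [M.add_self, add_zero]
        _ = z := by rw [← add_assoc, h, zero_add]
    · have ek := congrFun e k
      simp only [decide_eq_decide] at ek
      rw [dif_add]
      by_cases hy : dif M (gen k) y = 0
      · rw [hy, ek.1 hy, add_zero]
      · rw [hrk k y z hy (fun h => hy (ek.2 h)), M.add_self]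
  have hvall := fixed_of_gen M hv
  refine ⟨v, ?_, hvall⟩
  have hvU : InU M v := fun i => (proj_eq_self M).2 (hvall _)
  -- the axis of the first crossing transvection
  set g := gen 2
  have hgne : g ≠ 1 := fun e => xw_ne gen_ne_code.2.2 (by rw [xw_single]; exact e)
  obtain ⟨y0, hy0⟩ : ∃ y, dif M g y ≠ 0 := by
    by_contra h
    push Not at h
    exact hgne (M.inj _ (DFunLike.ext _ _ fun y => eq_of_dif_zero M (h y)))
  set a := dif M g y0 with ha
  have hval : ∀ y, dif M g y = 0 ∨ dif M g y = a := fun y =>
    or_iff_not_imp_left.2 fun h => hr2 y y0 h hy0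
  have hbq : ∀ y, dif M g y = a → M.q a = M.b y a := by
    intro y hy
    have e : M.ρ g y = y + a := by rw [← hy, dif, ← add_assoc, M.add_self, zero_add]
    have := M.q_inv g y
    rw [e, M.q_add] at this
    revert this
    generalize M.q y = r
    generalize M.q a = r'
    generalize M.b y a = r''
    revert r r' r''; decide
  have hqa : M.q a = true := by
    by_contra hq
    rw [Bool.not_eq_true] at hq
    refine hy0 (M.nondeg a fun y => ?_)
    rw [M.b_comm]
    rcases hval y with h | h
    · have h2 : dif M g (y + y0) = a := by rw [dif_add, h, zero_add]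
      have h3 := hbq _ h2
      rw [M.b_add_left, ← hbq y0 rfl, hq, Bool.xor_false] at h3
      exact h3.symm
    · rw [← hbq y h, hq]
  have hva : M.b v a = false := by
    have h := M.b_inv g v y0
    rw [hvall, show M.ρ g y0 = y0 + a by rw [ha, dif, ← add_assoc, M.add_self, zero_add], M.b_add_right] at h
    revert h
    generalize M.b v y0 = r
    generalize M.b v a = r'
    revert r r'; decide
  have hcomp : ∀ i, proj M i (a + proj M i a) = 0 := fun i => by rw [proj_add, proj_idem, M.add_self]
  have hm2 : a + proj M 2 a = 0 := by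
    have hr : g * rot 2 = rot 2 * g := by
      have := xw_eq gen_rot_code.1
      simp only [rot, xw_append, xw_single, g] at this ⊢
      exact this
    have e : M.ρ (rot 2) a = dif M g (M.ρ (rot 2) y0) := rho_dif_comm M hr.symm y0
    rcases hval (M.ρ (rot 2) y0) with h | h
    · rw [h] at e; exact absurd (M.rho_inj_eq (e.trans (map_zero _).symm)) hy0
    · rw [h] at e
      rw [(proj_eq_self M).2 e, M.add_self]
  -- the components in the first two planes do not vanish
  have hne : ∀ (i : Fin 3) (s : Bool) (k : Fin 7), plane i s = [k] → gen k * g * gen k = g * gen k * g →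
      g ≠ gen k → a + proj M i a ≠ 0 := by
    intro i s k hk hb hgk h0
    have hpa : M.ρ (gen k) a = a := by
      rw [← xw_single, ← hk]
      refine eq_of_dif_zero M ?_
      rw [dif_plane_decomp M hN, h0, dif_zero', add_zero, dif, hUp i s _ (inU_proj M a), M.add_self]
    have hcomm : g * gen k = gen k * g := by
      have e : ∀ y, dif M g (M.ρ (gen k) y) = dif M g y := by
        intro y
        have hby : ∀ z, dif M g z = if M.b z a then a else 0 := by
          intro z
          rcases hval z with h | h
          · have h2 : dif M g (z + y0) = a := by rw [dif_add, h, zero_add]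
            have h3 := hbq _ h2
            rw [M.b_add_left, ← hbq y0 rfl, hqa] at h3
            rw [h, show M.b z a = false by revert h3; cases M.b z a <;> decide]
            rfl
          · rw [h, ← hbq z h, hqa]; rfl
        rw [hby, hby]
        conv_lhs => rw [← hpa, M.b_inv]
        rw [hpa]
      refine eq_of_mul_inv_eq_one (M.inj _ (DFunLike.ext _ _ fun y => ?_))
      have hcom : ∀ y, M.ρ g (M.ρ (gen k) y) = M.ρ (gen k) (M.ρ g y) := by
        intro y
        have hz : ∀ z, M.ρ g z = z + dif M g z := fun z => by rw [dif, ← add_assoc, M.add_self, zero_add]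
        rw [hz, hz y, map_add, e]
        congr 1
        rcases hval y with h | h <;> rw [h]
        · rw [map_zero]
        · rw [hpa]
      show M.ρ (g * gen k * (gen k * g)⁻¹) y = y
      rw [Mod.rho_mul, Mod.rho_mul, hcom, ← Mod.rho_mul, ← Mod.rho_mul, mul_inv_cancel, Mod.rho_one]
    exact hgk (braid_comm_eq hb hcomm)
  have hm0 : a + proj M 0 a ≠ 0 := hne 0 false 1 rfl b12
    fun e => xw_ne gen_ne_code.1 (by rw [xw_single, xw_single]; exact e)
  have hm1 : a + proj M 1 a ≠ 0 := hne 1 true 6 rfl b62
    fun e => xw_ne gen_ne_code.2.1 (by rw [xw_single, xw_single]; exact e)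
  have hq1 : ∀ (i : Fin 3) (w : V), w ≠ 0 → proj M i w = 0 → M.q w = true := by
    intro i w hw0 hw
    by_contra hq
    rw [Bool.not_eq_true] at hq
    refine hw0 (M.nondeg w fun y => ?_)
    obtain ⟨n1, n2⟩ := three_moved M hw0 hw
    have hb : M.b w (M.ρ (rot i) w) = false := by
      have h3 : w + M.ρ (rot i) w = M.ρ (rot i) (M.ρ (rot i) w) := by
        calc w + M.ρ (rot i) w = proj M i w + M.ρ (rot i) (M.ρ (rot i) w) := by
              rw [proj, add_assoc _ _ (M.ρ (rot i) (M.ρ (rot i) w)), M.add_self, add_zero]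
          _ = _ := by rw [hw, zero_add]
      have := M.q_add w (M.ρ (rot i) w)
      rw [h3, M.q_inv, M.q_inv, hq] at this
      simpa using this.symm
    have hMi : M.b w (y + proj M i y) = false := by
      rcases moved_four M hN hw0 hw (show proj M i (y + proj M i y) = 0 by rw [proj_add, proj_idem, M.add_self])
        with e | e | e | e
      · rw [e, M.b_comm, M.b_zero_left]
      · rw [e, M.b_self]
      · rw [e, hb]
      · rw [e, ← M.b_inv (rot i) w, rot_cube, M.b_comm, hb]
    have hy := M.b_comm (proj M i y) w ▸ b_fixed_moved M (proj_idem M i y) hw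
    rw [M.b_add_right, hy, Bool.xor_false] at hMi
    exact hMi
  set u := proj M 0 (proj M 1 (proj M 2 a))
  have hdec := decomp M hN a
  rw [hm2, add_zero] at hdec
  have hu : InU M u := inU_proj M a
  have hqu : M.q u = true := by
    have h := congrArg M.q hdec
    rw [M.q_add, M.q_add, hqa, hq1 0 _ hm0 (hcomp 0), hq1 1 _ hm1 (hcomp 1),
      M.b_add_right u (a + proj M 0 a) (a + proj M 1 a),
      inU_perp M hN hu (hcomp 0), inU_perp M hN hu (hcomp 1),
      moved_perp M hN (by decide) (hcomp 0) (hcomp 1)] at h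
    simpa using h.symm
  have hu0 : u ≠ 0 := fun e => by rw [e, M.q_zero] at hqu; exact absurd hqu (by decide)
  have hbvu : M.b v u = false := by
    have h := hva
    rw [hdec, M.b_add_right, M.b_add_right, inU_perp M hN hvU (hcomp 0), inU_perp M hN hvU (hcomp 1)] at h
    simpa using h
  by_cases huv : u = v
  · rw [← huv]; exact hqu
  exfalso
  obtain ⟨w, hw, hb⟩ := inU_pair M hN hvU hv0
  rcases inU_four M hN hvU hu hv0 hu0 (Ne.symm huv) hw with rfl | rfl | rfl | rfl
  · rw [M.b_comm, M.b_zero_left] at hb; exact absurd hb (by decide)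
  · rw [M.b_self] at hb; exact absurd hb (by decide)
  · rw [hbvu] at hb; exact absurd hb (by decide)
  · rw [M.b_add_right, M.b_self, hbvu] at hb; exact absurd hb (by decide)

/-- The fixed vector. -/
theorem fixedVec_of_noMoved : FixedVec M := by
  by_cases h : ∀ u, InU M u → M.ρ (xw (plane 0 false)) u = u
  · exact fixedVec_fixed M hN h
  · push Not at h
    obtain ⟨u, hu, hne⟩ := h
    exact fixedVec_moved M hN hu hne

omit hN in
/-- The dichotomy. -/
theorem spinFrame_or_fixedVec : Nonempty (SpinFrame M) ∨ FixedVec M := by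
  by_cases h : NoMoved M
  · exact .inr (fixedVec_of_noMoved M h)
  · simp only [NoMoved, not_forall] at h
    obtain ⟨v, hv, hv0⟩ := h
    exact .inl (exists_frame_of_moved M hv0 hv)

end Cfsg.Agent.Co2Type
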