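import Cfsg.Agent.Lib.Co2Type.ModTools
import Cfsg.Agent.Lib.Co2Type.SpinFrame

/-!
The form of the spin module in a frame: the hyperbolic form pairing `i` with `7 - i`.
-/

set_option autoImplicit false
set_option maxRecDepth 20000

namespace Cfsg.Agent.Co2Type

/-- The quadratic form on bit vectors. -/
def qf (n : ℕ) : Bool :=
  xor (xor (n.testBit 0 && n.testBit 7) (n.testBit 1 && n.testBit 6))
    (xor (n.testBit 2 && n.testBit 5) (n.testBit 3 && n.testBit 4))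

/-- Its bilinear form. -/
def bf (n m : ℕ) : Bool := xor (xor (qf (n ^^^ m)) (qf n)) (qf m)

/-- For each non-zero vector its orbit and a word reaching it from `1` or from `129`. -/
def orbTbl : List (Bool × List (Fin 7)) :=
  [(false, []), (false, []), (false, [5, 4]), (false, [5]), (false, [0, 1, 6, 2, 1, 0]), (false, [6]),
    (false, [3, 4]), (false, [3]), (false, [0, 1, 5, 4, 3, 2, 1, 0]), (false, [3, 5, 4]), (false, [5, 4, 3]),
    (false, [3, 6]), (false, [0, 1, 5, 6, 2, 1, 0]), (false, [3, 5]), (false, [3, 4, 5]), (false, [5, 6]),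
    (false, [0, 1]), (false, [0]), (false, [3, 2, 6, 2, 1, 3]), (false, [3, 2, 6, 2, 3]), (false, [0, 6, 2]),
    (false, [0, 6, 2, 1]), (false, [0, 3, 2]), (false, [0, 3, 2, 1]), (true, [0, 1, 0]), (true, [1, 0]),
    (true, [2, 1, 0]), (true, [2, 3, 6]), (true, [0, 1, 0, 4]), (true, [1, 0, 4]), (true, [1, 6, 2, 3]),
    (true, [2, 1, 0, 4]), (false, [0, 1, 5, 4]), (false, [0, 3, 2, 5, 4, 3, 6]), (false, [0, 5, 4]),
    (false, [0, 3, 2, 6, 2, 3]), (true, [2, 4, 6, 2]), (true, [0, 2, 6]), (true, [4, 3, 2]), (true, [0, 2, 3]),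
    (false, [0, 5, 4, 3, 2]), (false, [0, 3, 6, 2]), (false, [0, 5, 4, 3, 2, 1]), (false, [0, 3, 2, 5, 4]),
    (true, [1, 2, 1, 4]), (true, [0, 2, 3, 5]), (true, [1, 2, 4]), (true, [0, 1, 2, 4]), (false, [0, 1, 5]),
    (false, [3, 2, 5, 4, 3, 6]), (false, [0, 3, 2, 6, 2, 3, 4]), (false, [0, 5]), (true, [2, 6, 2]),
    (true, [0, 2, 4, 6]), (true, [2, 3, 2]), (true, [0, 4, 3]), (true, [1, 2, 1]), (true, [0, 1, 2, 1]),
    (true, [0, 1, 2]), (true, [1, 2]), (false, [0, 5, 6, 2]), (false, [0, 3, 2, 1, 5]), (false, [0, 3, 2, 5]),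
    (false, [0, 5, 6, 2, 1]), (false, [0, 1, 6, 2]), (false, [6, 2, 1, 0]), (true, [4, 5, 4]), (true, [4, 5]),
    (false, [0, 1, 6, 2, 1]), (false, [0, 6, 2, 1, 0]), (true, [3, 4, 3]), (true, [4, 3]),
    (false, [3, 2, 1, 5, 4, 6, 2]), (false, [0, 5, 6, 2, 1, 0, 3]), (true, [5, 4, 3]), (true, [4, 3, 6]),
    (false, [3, 2, 1, 5, 6, 2]), (false, [5, 6, 2, 1, 0, 3]), (true, [3, 4, 5]), (true, [4, 5, 6]),
    (false, [0, 1, 6]), (false, [6, 2, 1]), (true, [2, 1, 3]), (true, [0, 2, 4, 5]), (false, [6, 2]),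
    (false, [0, 6]), (true, [2, 3, 4]), (true, [2, 3]), (true, [0, 1, 0, 6]), (true, [0, 3, 5, 4]),
    (false, [3, 6, 2, 1, 3]), (false, [0, 3, 2, 1, 6]), (true, [1, 3, 2]), (true, [0, 3, 5]),
    (false, [0, 3, 2, 6]), (false, [3, 6, 2, 3]), (false, [0, 1, 3, 2]), (false, [3, 2, 1, 0]),
    (true, [0, 4, 5, 4]), (true, [2, 4, 5]), (true, [0, 1, 4, 5, 4]), (true, [2, 4, 6]), (false, [0, 3, 4]),
    (false, [3, 2, 4]), (false, [0, 6, 2, 3, 4]), (false, [3, 2, 4, 5, 6]), (true, [0, 1, 6, 2]),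
    (true, [1, 4, 6, 2]), (true, [0, 1, 0, 3, 4]), (true, [2, 4, 3, 5]), (false, [0, 6, 2, 1, 3, 4]),
    (false, [3, 2, 1, 0, 5, 6]), (false, [0, 1, 3]), (false, [3, 2, 1]), (true, [2, 1, 6]), (true, [0, 4, 5]),
    (true, [0, 1, 4, 5]), (true, [2, 6]), (false, [3, 2]), (false, [0, 3]), (true, [0, 1, 0, 3]),
    (true, [1, 6, 2, 1]), (false, [3, 2, 6, 2, 1]), (false, [0, 6, 2, 1, 3]), (false, [0, 6, 2, 3]),
    (false, [3, 2, 6, 2]), (true, [1, 6, 2]), (true, [0, 5, 6]), (false, [0, 1, 5, 4, 3, 2]), (true, []),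
    (false, [5, 4, 3, 2, 1, 0]), (true, [5]), (false, [3, 2, 1, 0, 6, 2]), (true, [6]),
    (false, [6, 2, 1, 0, 3, 2]), (true, [3]), (false, [0, 1, 5, 4, 3, 2, 1]), (true, [1]),
    (false, [0, 5, 4, 3, 2, 1, 0]), (true, [1, 5]), (false, [3, 2, 1, 0, 5, 6, 2]), (true, [1, 6]),
    (false, [0, 6, 2, 1, 0, 3, 4]), (true, [1, 3]), (false, [0, 1, 3, 5, 4]), (true, [0]),
    (false, [3, 2, 1, 5, 4]), (true, [2, 5]), (false, [5, 6, 2, 3]), (true, [0, 4, 6]), (false, [3, 2, 5, 6]),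
    (true, [3, 2, 4]), (true, [0, 1]), (false, [0, 3, 5, 4]), (true, [2, 1, 5]), (false, [3, 2, 5, 4]),
    (true, [6, 2, 3]), (false, [5, 6, 2, 1, 3]), (true, [3, 2, 6]), (false, [3, 2, 1, 5, 6]),
    (false, [0, 1, 5, 4, 3]), (true, [0, 2]), (false, [5, 4, 3, 2, 1]), (true, [0, 2, 5]), (true, [4, 6, 2]),
    (false, [0, 3, 2, 5, 4, 3]), (true, [0, 3, 4]), (false, [0, 3, 2, 5, 4, 6]), (false, [5, 4, 3, 2]),
    (true, [0, 2, 1, 5]), (false, [0, 5, 4, 3]), (true, [0, 2, 1]), (true, [0, 1, 3, 4]),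
    (false, [0, 3, 2, 6, 2]), (true, [0, 3, 4, 5]), (false, [0, 3, 6, 2, 3]), (false, [0, 1, 3, 6]),
    (true, [2]), (false, [3, 6, 2, 1]), (true, [0, 5]), (true, [0, 6, 2]), (false, [3, 2, 1, 6]),
    (true, [0, 3, 2]), (false, [6, 2, 1, 3]), (true, [0, 1, 5]), (false, [3, 6, 2]), (true, [2, 1]),
    (false, [0, 3, 6]), (false, [6, 2, 3]), (true, [0, 3, 2, 1]), (false, [3, 2, 6]), (true, [0, 4, 5, 6]),
    (false, [0, 1, 5, 6, 2]), (true, [4]), (true, [5, 4]), (false, [5, 6, 2, 1, 0]), (false, [3, 2, 1, 6, 2]),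
    (true, [4, 6]), (true, [3, 4]), (false, [6, 2, 1, 0, 3]), (false, [3, 2, 1, 6, 2, 1]), (true, [1, 4, 6]),
    (true, [1, 3, 4]), (false, [0, 6, 2, 1, 0, 3]), (false, [0, 1, 5, 6, 2, 1]), (true, [1, 4]),
    (true, [1, 5, 4]), (false, [0, 5, 6, 2, 1, 0]), (false, [0, 1, 3, 5]), (true, [0, 4]), (true, [2, 5, 4]),
    (false, [3, 2, 1, 5]), (false, [0, 5, 6, 2, 3]), (true, [0, 6]), (true, [3, 2]), (false, [3, 2, 5, 4, 6]),
    (true, [0, 1, 6]), (false, [0, 5, 6, 2, 1, 3]), (false, [3, 2, 1, 5, 4, 6]), (true, [3, 2, 1]),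
    (true, [0, 1, 4]), (false, [0, 3, 5]), (false, [3, 2, 5]), (true, [2, 5, 6]), (false, [0, 1, 3, 2, 5]),
    (true, [2, 4]), (true, [0, 5, 4]), (false, [3, 2, 1, 0, 5]), (true, [0, 4, 6, 2]),
    (false, [3, 2, 1, 0, 6]), (false, [6, 2, 1, 3, 2]), (true, [2, 4, 3]), (false, [6, 2, 3, 4]),
    (true, [2, 1, 4, 3]), (true, [0, 5, 4, 3]), (false, [3, 2, 4, 6]), (true, [0, 1, 5, 4]),
    (false, [3, 2, 4, 5]), (false, [0, 3, 4, 5]), (true, [2, 1, 4]), (false, [0, 1, 5, 6]), (true, [0, 2, 4]),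
    (true, [0, 1, 2, 6]), (false, [5, 6, 2, 1]), (true, [6, 2]), (false, [3, 2, 5, 4, 3]),
    (false, [0, 3, 2, 5, 6]), (true, [0, 3]), (true, [0, 1, 3]), (false, [0, 3, 2, 1, 5, 6]),
    (false, [0, 3, 6, 2, 3, 4]), (true, [6, 2, 1]), (false, [5, 6, 2]), (true, [2, 3, 5]),
    (true, [0, 2, 1, 4]), (false, [0, 5, 6])]

theorem orbTbl_check : ∀ n < 256, n = 0 ∨
    ((orbTbl.getD n (false, [])).2.foldl (fun x k => ap (sp8 k) x) (if (orbTbl.getD n (false, [])).1 then 129 else 1) = n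
      ∧ (orbTbl.getD n (false, [])).1 = qf n) := by decide +kernel

theorem sp8_lt : ∀ k : Fin 7, ∀ n < 256, ap (sp8 k) n < 256 := by decide +kernel

namespace SpinFrame

variable {V : Type*} [AddCommGroup V] {M : Mod V} (F : SpinFrame M)
include F

theorem E_zero : F.E 0 = 0 := by
  have := F.add 0 0
  rw [Nat.xor_self] at this
  exact left_eq_add.1 this

theorem E_ne {n : ℕ} (hn : n < 256) (h : n ≠ 0) : F.E n ≠ 0 := fun e =>
  h (F.inj n hn 0 (by norm_num) (e.trans F.E_zero.symm))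

theorem q_foldl (w : List (Fin 7)) (x : ℕ) :
    M.q (F.E (w.foldl (fun x k => ap (sp8 k) x) x)) = M.q (F.E x) := by
  induction w generalizing x with
  | nil => rfl
  | cons k w ih => rw [List.foldl_cons, ih, ← F.act, M.q_inv]

theorem q_orbit {n : ℕ} (hn : n < 256) (h0 : n ≠ 0) :
    M.q (F.E n) = if qf n then M.q (F.E 129) else M.q (F.E 1) := by
  obtain ⟨h1, h2⟩ := (orbTbl_check n hn).resolve_left h0
  conv_lhs => rw [← h1, F.q_foldl]
  rw [h2]
  cases qf n <;> rfl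

theorem b_eq (x y : ℕ) : M.b (F.E x) (F.E y) = xor (xor (M.q (F.E (x ^^^ y))) (M.q (F.E x))) (M.q (F.E y)) := by
  rw [F.add, M.q_add]
  generalize M.q (F.E x) = a
  generalize M.q (F.E y) = c
  generalize M.b (F.E x) (F.E y) = d
  revert a c d; decide

theorem q_E {n : ℕ} (hn : n < 256) : M.q (F.E n) = qf n := by
  by_cases h0 : n = 0
  · rw [h0, F.E_zero, M.q_zero]; decide
  have key : M.q (F.E 1) = false ∧ M.q (F.E 129) = true := by
    have hlin : M.b (F.E 1) (F.E 6) = xor (M.b (F.E 1) (F.E 2)) (M.b (F.E 1) (F.E 4)) := by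
      rw [← M.b_add_right, ← F.add]
      rfl
    rw [F.b_eq, F.b_eq, F.b_eq] at hlin
    simp only [show (1 : ℕ) ^^^ 6 = 7 from rfl, show (1 : ℕ) ^^^ 2 = 3 from rfl, show (1 : ℕ) ^^^ 4 = 5 from rfl] at hlin
    rw [F.q_orbit (n := 7) (by norm_num) (by decide), F.q_orbit (n := 6) (by norm_num) (by decide),
      F.q_orbit (n := 3) (by norm_num) (by decide), F.q_orbit (n := 2) (by norm_num) (by decide),
      F.q_orbit (n := 5) (by norm_num) (by decide), F.q_orbit (n := 4) (by norm_num) (by decide)] at hlin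
    rw [show qf 7 = false from rfl, show qf 6 = false from rfl, show qf 3 = false from rfl, show qf 2 = false from rfl,
      show qf 5 = false from rfl, show qf 4 = false from rfl] at hlin
    have h1 : M.q (F.E 1) = false := by
      revert hlin; cases M.q (F.E 1) <;> simp
    refine ⟨h1, ?_⟩
    by_contra h2
    rw [Bool.not_eq_true] at h2
    refine F.E_ne (by norm_num : 1 < 256) one_ne_zero (M.nondeg _ fun w => ?_)
    obtain ⟨m, hm, rfl⟩ := F.surj w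
    have hall : ∀ k < 256, M.q (F.E k) = false := fun k hk => by
      by_cases hk0 : k = 0
      · rw [hk0, F.E_zero, M.q_zero]
      · rw [F.q_orbit hk hk0, h1, h2]; split <;> rfl
    rw [F.b_eq, hall _ (Nat.xor_lt_two_pow (n := 8) (by norm_num) hm), hall 1 (by norm_num), hall m hm]
    rfl
  rw [F.q_orbit hn h0, key.1, key.2]
  cases qf n <;> rfl

theorem b_E {x y : ℕ} (hx : x < 256) (hy : y < 256) : M.b (F.E x) (F.E y) = bf x y := by
  rw [F.b_eq, F.q_E (Nat.xor_lt_two_pow (n := 8) hx hy), F.q_E hx, F.q_E hy, bf]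

end SpinFrame

end Cfsg.Agent.Co2Type
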