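import Cfsg.Agent.Lib.Co2Type.Mod
import Cfsg.Agent.Lib.PLocal.Cores
import Cfsg.Agent.S0245
import Cfsg.Agent.S0246
import Cfsg.Agent.S0270

/-!
The setting of the recognition of the second Conway group, from the hypotheses on the centraliser.
-/

set_option autoImplicit false

namespace Cfsg.Agent.Co2Type

open Subgroup Cfsg.Agent.LargeExtra

theorem simple_X6 : IsSimpleGroup X6 := by
  have h := Cfsg.Agent.S0270.result (F := ZMod 2) 3 (by norm_num) (by norm_num)
  have c : Subgroup.center (Matrix.symplecticGroup (Fin 3) (ZMod 2)) = ⊥ :=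
    Subgroup.card_eq_one.1 (by rw [Cfsg.Agent.S0246.result (ZMod.card 2) 3 (by norm_num)]; rfl)
  have e : Cfsg.PSp 3 (ZMod 2) ≃* X6 :=
    (QuotientGroup.quotientMulEquivOfEq c).trans QuotientGroup.quotientBot
  exact e.symm.isSimpleGroup

theorem card_X6 : Nat.card X6 = 1451520 := by
  rw [X6, Cfsg.Agent.S0245.result (ZMod.card 2) 3]
  decide +kernel

/-- The setting: `Q = O₂(C(t))` and the projection onto `Sp₆(2)`. -/
theorem exists_setting {G : Type*} [Group G] [Finite G] (t : G) (ht : orderOf t = 2)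
    (hcon : Cfsg.IsPConstrained 2 ↥(centralizer ({t} : Set G)))
    (hQ : Cfsg.IsExtraspecial 2 ↥(Cfsg.pCore 2 ↥(centralizer ({t} : Set G))))
    (hcard : Nat.card ↥(Cfsg.pCore 2 ↥(centralizer ({t} : Set G))) = 2 ^ 9)
    (e : ↥(centralizer ({t} : Set G)) ⧸ Cfsg.pCore 2 ↥(centralizer ({t} : Set G)) ≃* X6) :
    ∃ (Q : Subgroup G) (π0 : ↥(centralizer ({t} : Set G)) →* X6),
      Ctr Q t ∧ Nat.card ↥Q = 512 ∧ Function.Surjective π0 ∧ ∀ c, π0 c = 1 ↔ (c : G) ∈ Q := by
  haveI : Fact (Nat.Prime 2) := ⟨Nat.prime_two⟩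
  haveI := simple_X6
  let C := centralizer ({t} : Set G)
  let P := Cfsg.pCore 2 ↥C
  let f : G → Subgroup G := fun x => (Cfsg.pCore 2 ↥(centralizer ({x} : Set G))).map (centralizer ({x} : Set G)).subtype
  let π0 : ↥C →* X6 := e.toMonoidHom.comp (QuotientGroup.mk' P)
  have hsurj : Function.Surjective π0 := e.surjective.comp (QuotientGroup.mk'_surjective P)
  have hker : ∀ c : ↥C, π0 c = 1 ↔ c ∈ P := fun c => by
    rw [← QuotientGroup.eq_one_iff (N := P)]; exact e.map_eq_one_iff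
  have hPC : IsPGroup 2 ↥P := PLocal.Cores.isPGroup_pCore
  have hO : Cfsg.pPrimeCore 2 ↥C = ⊥ := by
    have hcop : (Nat.card ↥(Cfsg.pPrimeCore 2 ↥C)).Coprime 2 := PLocal.Cores.coprime_card_pPrimeCore
    have hle : Cfsg.pPrimeCore 2 ↥C ≤ P := by
      haveI hn : ((Cfsg.pPrimeCore 2 ↥C).map π0).Normal := Normal.map inferInstance π0 hsurj
      rcases IsSimpleGroup.eq_bot_or_eq_top_of_normal _ hn with h | h
      · intro c hc
        exact (hker c).1 (mem_bot.1 (h ▸ mem_map_of_mem π0 hc))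
      · exfalso
        have h1 : Nat.card ↥((Cfsg.pPrimeCore 2 ↥C).map π0) ∣ Nat.card ↥(Cfsg.pPrimeCore 2 ↥C) := card_map_dvd _ _
        rw [h, card_top, card_X6] at h1
        exact absurd (Nat.eq_one_of_dvd_coprimes hcop ((show 2 ∣ 1451520 by norm_num).trans h1) dvd_rfl) (by norm_num)
    have h1 : Nat.card ↥(Cfsg.pPrimeCore 2 ↥C) ∣ 2 ^ 9 := hcard ▸ card_dvd_of_le hle
    exact Subgroup.card_eq_one.1 (Nat.eq_one_of_dvd_coprimes (hcop.pow_right 9) dvd_rfl h1)
  have hW : Cfsg.pPrimePCore 2 ↥C = P := by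
    refine le_antisymm ?_ PLocal.Cores.pCore_le_pPrimePCore
    refine PLocal.Cores.le_pCore ?_
    obtain ⟨k, hk⟩ := PLocal.Cores.relIndex_pPrimePCore (G := ↥C) (p := 2)
    rw [hO, relIndex_bot_left] at hk
    exact IsPGroup.of_card hk
  have hC : centralizer ((f t : Subgroup G) : Set G) ≤ f t := by
    intro x hx
    have hxC : x ∈ C := by
      rw [mem_centralizer_singleton_iff]
      refine (mem_centralizer_iff.1 hx t ?_).symm
      have htC : t ∈ centralizer ({t} : Set G) := mem_centralizer_singleton_iff.2 rfl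
      have hn : (zpowers (⟨t, htC⟩ : ↥C)).Normal := by
        refine ⟨fun w hw u => ?_⟩
        have hc : (⟨t, htC⟩ : ↥C) ∈ center ↥C :=
          mem_center_iff.2 fun v => Subtype.ext (mem_centralizer_singleton_iff.1 v.2)
        rw [mem_center_iff.1 ((zpowers_le.2 hc) hw) u, mul_inv_cancel_right]
        exact hw
      exact ⟨⟨t, htC⟩, PLocal.Cores.le_pCore (IsPGroup.of_card (G := ↥(zpowers (⟨t, htC⟩ : ↥C))) (n := 1)
        (by rw [Nat.card_zpowers, ← Subgroup.orderOf_coe, ht, pow_one])) (mem_zpowers _), rfl⟩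
    obtain ⟨S⟩ : Nonempty (Sylow 2 ↥(Cfsg.pPrimePCore 2 ↥C)) := inferInstance
    have hm : (⟨x, hxC⟩ : ↥C) ∈ Cfsg.pPrimePCore 2 ↥C := by
      refine hcon S (mem_centralizer_iff.2 ?_)
      rintro w ⟨⟨v, hv⟩, -, rfl⟩
      exact Subtype.ext (mem_centralizer_iff.1 hx v ⟨v, show v ∈ P by rw [← hW]; exact hv, rfl⟩)
    rw [hW] at hm
    exact ⟨_, hm, rfl⟩
  have hE : Cfsg.IsExtraspecial 2 ↥(f t) :=
    isExtraspecial_of_equiv hQ (P.equivMapOfInjective C.subtype C.subtype_injective)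
  refine ⟨f t, π0, setting_base f (fun _ => rfl) ht hE hC, ?_, hsurj, fun c => ?_⟩
  · rw [card_map_of_injective C.subtype_injective, hcard]; norm_num
  · rw [hker]
    constructor
    · exact fun h => ⟨c, h, rfl⟩
    · rintro ⟨d, hd, e'⟩
      rwa [← Subtype.ext e']

end Cfsg.Agent.Co2Type
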