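import Cfsg.Agent.Lib.Co2Type.XGens
import Cfsg.Agent.Lib.LargeExtra.Setting
import Cfsg.Agent.Lib.Transfer.Special
import Cfsg.Agent.Lib.SuzukiType.Frame
import Cfsg.Agent.S0303
import Cfsg.Agent.S0822

/-!
The orthogonal module on `O₂(C(t))` modulo `⟨t⟩` for a centraliser of shape `2^(1+8).Sp6(2)`.
-/

set_option autoImplicit false
set_option linter.unusedSectionVars false

namespace Cfsg.Agent.Co2Type

open Subgroup Cfsg.Agent.LargeExtra
open scoped commutatorElement

universe u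

variable {G : Type u} [Group G]

/-- a power of `z` with a Boolean exponent -/
def zb (z : G) (t : Bool) : G := if t then z else 1

theorem zb_false (z : G) : zb z false = 1 := rfl

theorem zb_true (z : G) : zb z true = z := rfl

/-- A faithful orthogonal module of `Sp₆(2)` with 256 vectors. -/
structure Mod (V : Type*) [AddCommGroup V] where
  q : V → Bool
  b : V → V → Bool
  add_self : ∀ v : V, v + v = 0
  q_add : ∀ v w, q (v + w) = xor (xor (q v) (q w)) (b v w)
  b_add_left : ∀ u v w, b (u + v) w = xor (b u w) (b v w)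
  b_comm : ∀ v w, b v w = b w v
  nondeg : ∀ v, (∀ w, b v w = false) → v = 0
  card : Nat.card V = 256
  ρ : X6 →* AddMonoid.End V
  q_inv : ∀ x v, q (ρ x v) = q v
  inj : ∀ x, ρ x = 1 → x = 1

theorem rearr : ∀ a b c : Bool, xor (xor c a) b = xor (xor a b) c := by decide

theorem zb_ne {z : G} (hz : z ≠ 1) {t t' : Bool} (h : zb z t = zb z t') : t = t' := by
  cases t <;> cases t' <;> simp_all [zb, eq_comm]

theorem zb_mul {z : G} (hz : z * z = 1) (t t' : Bool) : zb z t * zb z t' = zb z (xor t t') := by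
  cases t <;> cases t' <;> simp [zb, hz]

theorem zb_central {z x : G} (h : x * z = z * x) (t : Bool) : x * zb z t = zb z t * x := by
  cases t <;> simp [zb, h]

set_option maxHeartbeats 4000000 in
/-- the orthogonal module on the quotient by the centre -/
theorem exists_mod [Finite G] {Q : Subgroup G} {z : G} (h : Ctr Q z) (hQ : Nat.card ↥Q = 512)
    (π0 : ↥(centralizer ({z} : Set G)) →* X6) (hsurj : Function.Surjective π0)
    (hker : ∀ c, π0 c = 1 ↔ (c : G) ∈ Q) :
    ∃ (V : Type u) (_ : AddCommGroup V) (_ : Finite V) (M : Mod V) (mkV : G → V),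
      (∀ x ∈ Q, ∀ y ∈ Q, mkV (x * y) = mkV x + mkV y) ∧ mkV z = 0 ∧
      (∀ x ∈ Q, mkV x = 0 → x = 1 ∨ x = z) ∧ (∀ v, ∃ x ∈ Q, mkV x = v) ∧
      (∀ x ∈ Q, x * x = zb z (M.q (mkV x))) ∧
      (∀ x ∈ Q, ∀ y ∈ Q, x * y = zb z (M.b (mkV x) (mkV y)) * (y * x)) ∧
      ∀ (c : ↥(centralizer ({z} : Set G))) (x : G), x ∈ Q →
        mkV ((c : G) * x * (c : G)⁻¹) = M.ρ (π0 c) (mkV x) := by
  classical
  haveI : Fact (Nat.Prime 2) := ⟨Nat.prime_two⟩
  set Z := center ↥Q with hZ
  haveI : Z.Normal := inferInstance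
  letI instC : CommGroup (↥Q ⧸ Z) :=
    { (inferInstance : Group (↥Q ⧸ Z)) with
      mul_comm := by
        intro a b
        obtain ⟨x, rfl⟩ := QuotientGroup.mk'_surjective Z a
        obtain ⟨y, rfl⟩ := QuotientGroup.mk'_surjective Z b
        rw [← map_mul, ← map_mul]
        refine QuotientGroup.eq.2 ?_
        have e : ⁅y⁻¹, x⁻¹⁆ ∈ Z := by
          rw [hZ, ← h.ext.1.2.2]
          exact commutator_mem_commutator (mem_top _) (mem_top _)
        simpa [commutatorElement_def, mul_assoc] using e }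
  let mkV : G → Additive (↥Q ⧸ Z) := fun x =>
    if hx : x ∈ Q then Additive.ofMul (QuotientGroup.mk' Z ⟨x, hx⟩) else 0
  have hmk : ∀ {x : G} (hx : x ∈ Q), mkV x = Additive.ofMul (QuotientGroup.mk' Z ⟨x, hx⟩) :=
    fun hx => dif_pos hx
  have hmul : ∀ x ∈ Q, ∀ y ∈ Q, mkV (x * y) = mkV x + mkV y := by
    intro x hx y hy
    rw [hmk hx, hmk hy, hmk (Q.mul_mem hx hy), ← ofMul_mul, ← map_mul]
    rfl
  have hcases : ∀ x ∈ Q, mkV x = 0 → x = 1 ∨ x = z := by
    intro x hx h0
    rw [hmk hx, ofMul_eq_zero, QuotientGroup.mk'_apply, QuotientGroup.eq_one_iff] at h0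
    exact h.center_cases h0
  have hzero : mkV z = 0 := by
    rw [hmk h.z_mem, ofMul_eq_zero, QuotientGroup.mk'_apply, QuotientGroup.eq_one_iff, hZ, mem_center_iff]
    exact fun u => Subtype.ext (h.comm u.2)
  have hsurjV : ∀ v, ∃ x ∈ Q, mkV x = v := by
    intro v
    obtain ⟨x, hx⟩ := QuotientGroup.mk'_surjective Z (Additive.toMul v)
    exact ⟨x, x.2, by rw [hmk x.2, Subtype.coe_eta, hx, ofMul_toMul]⟩
  have hfib : ∀ x ∈ Q, ∀ y ∈ Q, mkV x = mkV y → ∃ t, y = x * zb z t := by
    intro x hx y hy e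
    have h1 := hmul _ (Q.inv_mem hx) _ hy
    have h2 := hmul _ (Q.inv_mem hx) _ hx
    rw [inv_mul_cancel, e, ← h1, show mkV 1 = 0 by
      rw [hmk Q.one_mem, ofMul_eq_zero]; exact map_one _] at h2
    rcases hcases _ (Q.mul_mem (Q.inv_mem hx) hy) h2.symm with e' | e'
    · exact ⟨false, by rw [zb_false, mul_one, inv_mul_eq_one.1 e']⟩
    · exact ⟨true, by rw [zb_true, ← e', mul_inv_cancel_left]⟩
  choose out hout houtv using hsurjV
  -- squares and commutators
  let q : Additive (↥Q ⧸ Z) → Bool := fun v => decide (out v * out v ≠ 1)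
  let b : Additive (↥Q ⧸ Z) → Additive (↥Q ⧸ Z) → Bool := fun v w =>
    decide (out v * out w ≠ out w * out v)
  have hzc : ∀ t {x : G}, x ∈ Q → x * zb z t = zb z t * x := fun t x hx => zb_central (h.comm hx) t
  have hzQ : ∀ t, zb z t ∈ Q := fun t => by cases t <;> simp [zb, h.z_mem]
  have hsq : ∀ x ∈ Q, x * x = zb z (q (mkV x)) := by
    intro x hx
    obtain ⟨t, ht⟩ := hfib _ (hout (mkV x)) _ hx (houtv (mkV x))
    have e : x * x = out (mkV x) * out (mkV x) := by
      calc x * x = out (mkV x) * (zb z t * out (mkV x)) * zb z t := by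
            conv_lhs => rw [ht]
            group
        _ = out (mkV x) * out (mkV x) * (zb z t * zb z t) := by rw [← hzc t (hout _)]; group
        _ = _ := by rw [zb_mul h.zz, Bool.xor_self, zb_false, mul_one]
    rw [e]
    rcases h.sq_cases (hout (mkV x)) with e' | e'
    · simp [q, e', zb]
    · simp [q, e', zb, h.ne_one]
  have hcomm : ∀ x ∈ Q, ∀ y ∈ Q, x * y = zb z (b (mkV x) (mkV y)) * (y * x) := by
    intro x hx y hy
    obtain ⟨t, ht⟩ := hfib _ (hout (mkV x)) _ hx (houtv (mkV x))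
    obtain ⟨t', ht'⟩ := hfib _ (hout (mkV y)) _ hy (houtv (mkV y))
    set X := out (mkV x) with hX
    set Y := out (mkV y) with hY
    have hXQ : X ∈ Q := hout _
    have hYQ : Y ∈ Q := hout _
    have key : X * Y = zb z (b (mkV x) (mkV y)) * (Y * X) := by
      rcases h.comm_cases hXQ hYQ with e | e
      · rw [commutatorElement_eq_one_iff_mul_comm] at e
        simp [b, ← hX, ← hY, e, zb]
      · have e' : X * Y = z * (Y * X) := by rw [← e, commutatorElement_def]; group
        have hne : X * Y ≠ Y * X := fun e2 => h.ne_one (mul_eq_right.1 (e'.symm.trans e2))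
        simp [b, ← hX, ← hY, hne, zb, e']
    have hpush : ∀ {A B : G} (u u' : Bool), B ∈ Q → A * zb z u * (B * zb z u') = A * B * zb z (xor u u') := by
      intro A B u u' hB
      rw [← zb_mul h.zz, ← mul_assoc, mul_assoc A, ← hzc u hB]
      group
    conv_lhs => rw [ht, ht', hpush t t' hYQ]
    conv_rhs => arg 2; rw [ht', ht, hpush t' t hXQ, Bool.xor_comm t']
    rw [key]
    group
  have hzinj : ∀ {s s' : Bool}, zb z s = zb z s' → s = s' := fun e => zb_ne h.ne_one e
  have hqadd : ∀ v w, q (v + w) = xor (xor (q v) (q w)) (b v w) := by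
    intro v w
    obtain ⟨x, hx, rfl⟩ : ∃ x ∈ Q, mkV x = v := ⟨_, hout v, houtv v⟩
    obtain ⟨y, hy, rfl⟩ : ∃ y ∈ Q, mkV y = w := ⟨_, hout w, houtv w⟩
    apply hzinj
    rw [← hmul x hx y hy, ← hsq _ (Q.mul_mem hx hy)]
    have hc := hcomm y hy x hx
    have hsym : b (mkV y) (mkV x) = b (mkV x) (mkV y) := by simp only [b, ne_comm]
    rw [hsym] at hc
    calc x * y * (x * y) = x * (y * x) * y := by group
      _ = x * (zb z (b (mkV x) (mkV y)) * (x * y)) * y := by rw [hc]
      _ = (x * zb z (b (mkV x) (mkV y))) * x * (y * y) := by group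
      _ = zb z (b (mkV x) (mkV y)) * (x * x) * (y * y) := by rw [hzc _ hx]; group
      _ = _ := by rw [hsq x hx, hsq y hy, zb_mul h.zz, zb_mul h.zz]; congr 1; exact rearr _ _ _
  have hbadd : ∀ u v w, b (u + v) w = xor (b u w) (b v w) := by
    intro u v w
    obtain ⟨x, hx, rfl⟩ : ∃ x ∈ Q, mkV x = u := ⟨_, hout u, houtv u⟩
    obtain ⟨y, hy, rfl⟩ : ∃ y ∈ Q, mkV y = v := ⟨_, hout v, houtv v⟩
    obtain ⟨t, ht, rfl⟩ : ∃ t ∈ Q, mkV t = w := ⟨_, hout w, houtv w⟩
    apply hzinj
    rw [← hmul x hx y hy]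
    have h1 := hcomm _ (Q.mul_mem hx hy) t ht
    have h2 : x * y * t = zb z (xor (b (mkV x) (mkV t)) (b (mkV y) (mkV t))) * (t * (x * y)) := by
      calc x * y * t = x * (zb z (b (mkV y) (mkV t)) * (t * y)) := by rw [mul_assoc, hcomm y hy t ht]
        _ = (x * zb z (b (mkV y) (mkV t))) * (t * y) := by group
        _ = zb z (b (mkV y) (mkV t)) * (x * t) * y := by rw [hzc _ hx]; group
        _ = (zb z (b (mkV y) (mkV t)) * zb z (b (mkV x) (mkV t))) * (t * (x * y)) := by
          rw [hcomm x hx t ht]; group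
        _ = _ := by rw [zb_mul h.zz, Bool.xor_comm]
    exact mul_right_cancel (h1.symm.trans h2)
  have hnon : ∀ v, (∀ w, b v w = false) → v = 0 := by
    intro v hv
    obtain ⟨x, hx, rfl⟩ : ∃ x ∈ Q, mkV x = v := ⟨_, hout v, houtv v⟩
    rw [hmk hx, ofMul_eq_zero, QuotientGroup.mk'_apply, QuotientGroup.eq_one_iff, hZ, mem_center_iff]
    intro u
    apply Subtype.ext
    show (u : G) * x = x * u
    rw [hcomm x hx u u.2, hv, zb_false, one_mul]
  -- the action
  have hcz : ∀ c : ↥(centralizer ({z} : Set G)), (c : G) * z = z * (c : G) :=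
    fun c => mem_centralizer_singleton_iff.1 c.2
  have hcQ : ∀ (c : ↥(centralizer ({z} : Set G))) {x : G}, x ∈ Q → (c : G) * x * (c : G)⁻¹ ∈ Q :=
    fun c x hx => h.conj_mem (hcz c) hx
  have hwd : ∀ (c : ↥(centralizer ({z} : Set G))) (x : G), x ∈ Q →
      mkV ((c : G) * x * (c : G)⁻¹) = mkV ((c : G) * out (mkV x) * (c : G)⁻¹) := by
    intro c x hx
    obtain ⟨t, ht⟩ := hfib _ (hout (mkV x)) _ hx (houtv (mkV x))
    have e : (c : G) * x * (c : G)⁻¹ = (c : G) * out (mkV x) * (c : G)⁻¹ * zb z t := by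
      conv_lhs => rw [ht]
      rw [mul_assoc _ _ (zb z t), zb_central (x := (c : G)⁻¹)
        (by rw [inv_mul_eq_iff_eq_mul, ← mul_assoc, hcz c, mul_inv_cancel_right]) t]
      group
    rw [e, hmul _ (hcQ c (hout _)) _ (hzQ t)]
    cases t
    · rw [zb_false, hmk Q.one_mem, show (⟨1, Q.one_mem⟩ : ↥Q) = 1 from rfl, map_one, ofMul_one, add_zero]
    · rw [zb_true, hzero, add_zero]
  let act : ↥(centralizer ({z} : Set G)) →* AddMonoid.End (Additive (↥Q ⧸ Z)) :=
    { toFun := fun c => AddMonoidHom.mk' (fun v => mkV ((c : G) * out v * (c : G)⁻¹)) (fun v w => by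
        have e := hwd c _ (Q.mul_mem (hout v) (hout w))
        rw [hmul _ (hout v) _ (hout w), houtv, houtv] at e
        rw [← hmul _ (hcQ c (hout v)) _ (hcQ c (hout w)), ← e]
        congr 1; group)
      map_one' := AddMonoidHom.ext fun v => by
        show mkV ((1 : G) * out v * (1 : G)⁻¹) = v
        rw [one_mul, inv_one, mul_one, houtv]
      map_mul' := fun c d => AddMonoidHom.ext fun v => by
        show mkV (((c * d : ↥(centralizer ({z} : Set G))) : G) * out v * ((c * d : ↥(centralizer ({z} : Set G))) : G)⁻¹) =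
          mkV ((c : G) * out (mkV ((d : G) * out v * (d : G)⁻¹)) * (c : G)⁻¹)
        rw [← hwd c _ (hcQ d (hout v))]
        congr 1
        push_cast
        group }
  have hact : ∀ c (x : G), x ∈ Q → act c (mkV x) = mkV ((c : G) * x * (c : G)⁻¹) :=
    fun c x hx => (hwd c x hx).symm
  have hkle : π0.ker ≤ act.ker := by
    intro c hc
    rw [MonoidHom.mem_ker] at hc ⊢
    have hcQ' := (hker c).1 hc
    refine DFunLike.ext _ _ fun v => ?_
    obtain ⟨x, hx, rfl⟩ : ∃ x ∈ Q, mkV x = v := ⟨_, hout v, houtv v⟩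
    rw [hact c x hx]
    show _ = mkV x
    rw [hmul _ (Q.mul_mem hcQ' hx) _ (Q.inv_mem hcQ'), hmul _ hcQ' _ hx, add_comm (mkV (c : G)), add_assoc,
      ← hmul _ hcQ' _ (Q.inv_mem hcQ'), mul_inv_cancel,
      hmk Q.one_mem, show (⟨1, Q.one_mem⟩ : ↥Q) = 1 from rfl, map_one, ofMul_one, add_zero]
  have hwell : ∀ c d, π0 c = π0 d → act c = act d := by
    intro c d e
    have hk : d⁻¹ * c ∈ act.ker := hkle (by
      rw [MonoidHom.mem_ker, map_mul, e, ← map_mul, inv_mul_cancel, map_one])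
    calc act c = act (d * (d⁻¹ * c)) := by rw [mul_inv_cancel_left]
      _ = act d * act (d⁻¹ * c) := map_mul act _ _
      _ = act d := by rw [MonoidHom.mem_ker.1 hk, mul_one]
  let ρ : X6 →* AddMonoid.End (Additive (↥Q ⧸ Z)) :=
    { toFun := fun o => act (Function.surjInv hsurj o)
      map_one' := (hwell _ 1 (by rw [Function.surjInv_eq hsurj, map_one])).trans (map_one act)
      map_mul' := fun o o' => (hwell _ (Function.surjInv hsurj o * Function.surjInv hsurj o')
        (by rw [map_mul, Function.surjInv_eq hsurj, Function.surjInv_eq hsurj, Function.surjInv_eq hsurj])).trans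
          (map_mul act _ _) }
  have hρ : ∀ c, ρ (π0 c) = act c := fun c => hwell _ c (Function.surjInv_eq hsurj _)
  have hqinv : ∀ o v, q (ρ o v) = q v := by
    intro o v
    obtain ⟨c, rfl⟩ := hsurj o
    obtain ⟨x, hx, rfl⟩ : ∃ x ∈ Q, mkV x = v := ⟨_, hout v, houtv v⟩
    apply hzinj
    rw [hρ, hact c x hx, ← hsq _ (hcQ c hx), ← hsq x hx]
    rcases h.sq_cases hx with e | e
    · calc (c : G) * x * (c : G)⁻¹ * ((c : G) * x * (c : G)⁻¹) = (c : G) * (x * x) * (c : G)⁻¹ := by group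
        _ = x * x := by rw [e]; group
    · calc (c : G) * x * (c : G)⁻¹ * ((c : G) * x * (c : G)⁻¹) = (c : G) * (x * x) * (c : G)⁻¹ := by group
        _ = x * x := by rw [e, hcz c, mul_inv_cancel_right]
  have hinj : ∀ o, ρ o = 1 → o = 1 := by
    intro o ho
    obtain ⟨c, rfl⟩ := hsurj o
    rw [hρ] at ho
    rw [hker]
    obtain ⟨g, hg⟩ := Cfsg.Agent.Transfer.Special.exists_inner_of_trivial_mod_center h.ext
      (Cfsg.Agent.SuzukiType.conjQ h c) (fun x => by
        have e := DFunLike.congr_fun ho (mkV (x : G))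
        rw [hact c _ x.2] at e
        change mkV ((c : G) * x * (c : G)⁻¹) = mkV (x : G) at e
        obtain ⟨t, ht⟩ := hfib _ (hcQ c x.2) _ x.2 e
        rw [mem_center_iff]
        intro u
        apply Subtype.ext
        have e2 : (c : G) * x * (c : G)⁻¹ * (x : G)⁻¹ = zb z t := by
          have hti : (zb z t)⁻¹ = zb z t :=
            inv_eq_of_mul_eq_one_right (by rw [zb_mul h.zz, Bool.xor_self, zb_false])
          calc (c : G) * x * (c : G)⁻¹ * (x : G)⁻¹
              = (c : G) * x * (c : G)⁻¹ * (zb z t)⁻¹ * ((c : G) * x * (c : G)⁻¹)⁻¹ := by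
                conv_lhs => arg 2; rw [ht]
                rw [mul_inv_rev]
                simp only [mul_assoc]
            _ = (zb z t)⁻¹ * ((c : G) * x * (c : G)⁻¹) * ((c : G) * x * (c : G)⁻¹)⁻¹ := by
                rw [hti, hzc t (hcQ c x.2)]
            _ = zb z t := by rw [mul_inv_cancel_right, hti]
        show (u : G) * ((c : G) * x * (c : G)⁻¹ * (x : G)⁻¹) = (c : G) * x * (c : G)⁻¹ * (x : G)⁻¹ * u
        rw [e2, hzc t u.2])
    exact Cfsg.Agent.SuzukiType.mem_of_inner h g.2 fun y hy => congrArg Subtype.val (hg ⟨y, hy⟩)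
  have hcardV : Nat.card (Additive (↥Q ⧸ Z)) = 256 := by
    have e := Z.card_mul_index
    rw [hQ, hZ, h.ext.2] at e
    show Z.index = 256
    rw [hZ]
    omega
  have hadd : ∀ v : Additive (↥Q ⧸ Z), v + v = 0 := by
    intro v
    obtain ⟨x, hx, rfl⟩ : ∃ x ∈ Q, mkV x = v := ⟨_, hout v, houtv v⟩
    rw [← hmul x hx x hx, hsq x hx]
    cases q (mkV x)
    · rw [zb_false, hmk Q.one_mem, show (⟨1, Q.one_mem⟩ : ↥Q) = 1 from rfl, map_one, ofMul_one]
    · rw [zb_true, hzero]
  refine ⟨Additive (↥Q ⧸ Z), inferInstance, inferInstance,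
    ⟨q, b, hadd, hqadd, hbadd, fun v w => by simp only [b, ne_comm], hnon, hcardV, ρ, hqinv, hinj⟩,
    mkV, hmul, hzero, hcases, fun v => ⟨_, hout v, houtv v⟩, hsq, hcomm, fun c x hx => ?_⟩
  show mkV _ = ρ (π0 c) (mkV x)
  rw [hρ, hact c x hx]

end Cfsg.Agent.Co2Type
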