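import Cfsg.Agent.Lib.Co2Type.Mod
import Cfsg.Agent.Lib.Co2Type.Gens

/-!
Tools for the orthogonal module of `Sp₆(2)`: invariance, words, coordinates, frames.
-/

set_option autoImplicit false
set_option maxRecDepth 20000

namespace Cfsg.Agent.Co2Type

/-- The element of a word in the seven transvections. -/
noncomputable def xw (w : List (Fin 7)) : X6 := (w.map gen).prod

/-- The natural images of the unit vectors under a word. -/
def code6 : List (Fin 7) → List ℕ
  | [] => El.id.1
  | k :: w => (code6 w).map (ap (gen6 k))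

theorem nat6_xw (w : List (Fin 7)) : Nat6 (xw w) (code6 w) := by
  induction w with
  | nil => simpa [xw, code6] using nat6_one
  | cons k w ih => simpa [xw, code6] using nat6_mul (nat6_gen k) ih

theorem xw_eq {w w' : List (Fin 7)} (h : code6 w = code6 w') : xw w = xw w' :=
  nat6_eq (nat6_xw w) (h ▸ nat6_xw w')

theorem xw_append (w w' : List (Fin 7)) : xw (w ++ w') = xw w * xw w' := by
  simp [xw]

theorem xw_single (k : Fin 7) : xw [k] = gen k := by simp [xw]

/-- The word of the transvection of the second unit vector. -/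
def wE2 : List (Fin 7) :=
  [3, 4, 2, 3, 1, 2, 6, 5, 4, 3, 2, 1, 0, 1, 2, 3, 4, 5, 6, 2, 1, 3, 2, 4, 3]

/-- The six plane transvections, by their words: `plane i false` fixes the `i`-th `e`, `plane i true` the `i`-th `f`. -/
def plane : Fin 3 → Bool → List (Fin 7)
  | 0, false => [1]
  | 0, true => [0]
  | 1, false => wE2
  | 1, true => [6]
  | 2, false => [4]
  | 2, true => [5]

theorem plane_sq : ∀ i s, code6 (plane i s ++ plane i s) = code6 [] := by decide +kernel

theorem plane_comm : ∀ i j : Fin 3, i ≠ j → ∀ s s',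
    code6 (plane i s ++ plane j s') = code6 (plane j s' ++ plane i s) := by decide +kernel

theorem plane_braid : ∀ (i : Fin 3) (s : Bool),
    code6 (plane i s ++ plane i (!s) ++ plane i s) = code6 (plane i (!s) ++ plane i s ++ plane i (!s)) := by
  decide +kernel

namespace Mod

variable {V : Type*} [AddCommGroup V] (M : Mod V)

theorem rho_mul (g h : X6) (v : V) : M.ρ (g * h) v = M.ρ g (M.ρ h v) := by rw [map_mul]; rfl

theorem rho_one (v : V) : M.ρ 1 v = v := by rw [map_one]; rfl

theorem rho_inj_eq {g : X6} {v w : V} (h : M.ρ g v = M.ρ g w) : v = w := by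
  have := congrArg (M.ρ g⁻¹) h
  rwa [← rho_mul, ← rho_mul, inv_mul_cancel, rho_one, rho_one] at this

theorem b_add_right (u v w : V) : M.b u (v + w) = xor (M.b u v) (M.b u w) := by
  rw [M.b_comm, M.b_add_left, M.b_comm v u, M.b_comm w u]

theorem b_inv (g : X6) (v w : V) : M.b (M.ρ g v) (M.ρ g w) = M.b v w := by
  have h1 := M.q_add (M.ρ g v) (M.ρ g w)
  rw [← map_add, M.q_inv, M.q_inv, M.q_inv, M.q_add] at h1
  exact (Bool.xor_right_inj.1 h1).symm

theorem b_zero_left (v : V) : M.b 0 v = false := by
  have := M.b_add_left 0 0 v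
  rw [add_zero] at this
  simpa using this

theorem q_zero : M.q 0 = false := by
  have := M.q_add 0 0
  rw [add_zero, b_zero_left] at this
  simpa using this

theorem b_self (v : V) : M.b v v = false := by
  have := M.q_add v v
  rw [M.add_self, q_zero] at this
  simpa using this.symm

/-- The vectors moved without fixed part by an element of order three. -/
def Moved (x : X6) (v : V) : Prop := v + M.ρ x v + M.ρ x (M.ρ x v) = 0

theorem moved_map {x : X6} {g : X6} (h : g * x = x * g ∨ g * x = x * x * g) (h3 : x * x * x = 1) {v : V}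
    (hv : M.Moved x v) : M.Moved x (M.ρ g v) := by
  unfold Moved at *
  have hg := congrArg (M.ρ g) hv
  rw [map_add, map_add, map_zero] at hg
  rcases h with h | h
  · rwa [← rho_mul, ← rho_mul M g x (M.ρ x v), h, rho_mul, rho_mul M x g (M.ρ x v), ← rho_mul M g x, h,
      rho_mul] at hg
  · have e1 : g * x * x = x * g := by
      calc g * x * x = x * x * (g * x) := by rw [h]; simp only [mul_assoc]; rw [h]; simp only [mul_assoc]
        _ = x * x * (x * x) * g := by rw [h]; simp only [mul_assoc]
        _ = x * g := by rw [← mul_assoc (x * x), h3, one_mul]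
    rw [← rho_mul, ← rho_mul M g x (M.ρ x v), ← rho_mul M (g * x) x v, e1, h, rho_mul, rho_mul, rho_mul] at hg
    rw [← hg]
    abel

theorem moved_add {x : X6} {v w : V} (hv : M.Moved x v) (hw : M.Moved x w) : M.Moved x (v + w) := by
  unfold Moved at *
  simp only [map_add]
  calc v + w + (M.ρ x v + M.ρ x w) + (M.ρ x (M.ρ x v) + M.ρ x (M.ρ x w))
      = (v + M.ρ x v + M.ρ x (M.ρ x v)) + (w + M.ρ x w + M.ρ x (M.ρ x w)) := by abel
    _ = 0 := by rw [hv, hw, add_zero]

end Mod

/-- The spin images of the unit vectors under a generator. -/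
def sp8 (k : Fin 7) : List ℕ := List.ofFn (actTbl k)

/-- A frame in which the generators act by the tables of the spin module. -/
structure SpinFrame {V : Type*} [AddCommGroup V] (M : Mod V) where
  E : ℕ → V
  add : ∀ x y, E (x ^^^ y) = E x + E y
  inj : ∀ x < 256, ∀ y < 256, E x = E y → x = y
  surj : ∀ v, ∃ x < 256, E x = v
  act : ∀ k n, M.ρ (gen k) (E n) = E (ap (sp8 k) n)

/-- A vector fixed by the whole group and not singular. -/
def FixedVec {V : Type*} [AddCommGroup V] (M : Mod V) : Prop :=
  ∃ v, M.q v = true ∧ ∀ g : X6, M.ρ g v = v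

end Cfsg.Agent.Co2Type
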