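import Cfsg.Agent.Lib.Co2Type.Spin

/-!
The projections on the fixed vectors of the three plane rotations, and the decomposition of the
module when no vector is moved by all three.
-/

set_option autoImplicit false
set_option maxRecDepth 20000
set_option linter.unusedSectionVars false

namespace Cfsg.Agent.Co2Type

/-- The words of the permutations of the planes. -/
def sw : Fin 3 → List (Fin 7)
  | 0 => [5, 4, 3, 2, 6, 5, 4, 1, 2, 3, 0, 1, 2, 6, 0, 1, 2, 3, 4, 5, 0, 1, 2, 3, 4, 0, 1, 0]
  | 1 => [2, 6, 1, 2, 3, 0, 1, 2, 6, 4, 5, 3, 4, 2, 3, 1, 2, 6, 0, 1, 2]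
  | 2 => [3, 0, 1, 2, 6, 4, 5, 3, 4, 2, 3, 0, 1, 2, 6, 1, 2, 3, 4, 5, 1, 2, 3, 4, 1, 2, 3, 0, 1, 0]

/-- The exchange of the two planes other than the `k`-th. -/
def sg (k i : Fin 3) : Fin 3 := if i = k then k else -(k + i)

theorem sw_plane : ∀ k i : Fin 3, ∀ s,
    code6 (sw k ++ plane i s) = code6 (plane (sg k i) s ++ sw k) := by decide +kernel

theorem rot_comm_code : ∀ i j : Fin 3,
    code6 ((plane i false ++ plane i true) ++ (plane j false ++ plane j true)) =
      code6 ((plane j false ++ plane j true) ++ (plane i false ++ plane i true)) := by decide +kernel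

theorem xw_ne {w w' : List (Fin 7)} (h : ∃ n : Fin 6, dec6 (ap (code6 w) (2 ^ n.val)) ≠ dec6 (ap (code6 w') (2 ^ n.val))) :
    xw w ≠ xw w' := by
  intro e
  obtain ⟨n, hn⟩ := h
  exact hn (by rw [← (nat6_xw w).2, ← (nat6_xw w').2, e])

theorem rot_ne_code : ∀ i : Fin 3, ∃ n : Fin 6,
    dec6 (ap (code6 (plane i false ++ plane i true)) (2 ^ n.val)) ≠ dec6 (ap (code6 []) (2 ^ n.val)) := by
  decide +kernel

theorem rot_ne (i : Fin 3) : rot i ≠ 1 := xw_ne (rot_ne_code i)

theorem rot_comm (i j : Fin 3) : rot i * rot j = rot j * rot i := by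
  simp only [rot]
  rw [← xw_append, ← xw_append, xw_eq (rot_comm_code i j)]

theorem sw_rot (k i : Fin 3) : xw (sw k) * rot i = rot (sg k i) * xw (sw k) := by
  simp only [rot]
  rw [xw_append, xw_append, ← mul_assoc, ← xw_append (sw k), xw_eq (sw_plane k i false), xw_append,
    mul_assoc, ← xw_append (sw k), xw_eq (sw_plane k i true), xw_append, ← mul_assoc]

variable {V : Type*} [AddCommGroup V] (M : Mod V)

/-- The projection on the fixed vectors of a rotation. -/
noncomputable def proj (i : Fin 3) (v : V) : V := v + M.ρ (rot i) v + M.ρ (rot i) (M.ρ (rot i) v)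

theorem moved_iff {i : Fin 3} {v : V} : M.Moved (rot i) v ↔ proj M i v = 0 := Iff.rfl

theorem proj_add (i : Fin 3) (v w : V) : proj M i (v + w) = proj M i v + proj M i w := by
  simp only [proj, map_add]; abel

theorem proj_zero (i : Fin 3) : proj M i 0 = 0 := by simp [proj]

theorem rot_cube (i : Fin 3) (v : V) : M.ρ (rot i) (M.ρ (rot i) (M.ρ (rot i) v)) = v := by
  rw [← Mod.rho_mul, ← Mod.rho_mul, rot_three, Mod.rho_one]

theorem rot_proj (i : Fin 3) (v : V) : M.ρ (rot i) (proj M i v) = proj M i v := by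
  rw [proj, map_add, map_add, rot_cube]; abel

theorem proj_eq_self {i : Fin 3} {v : V} : proj M i v = v ↔ M.ρ (rot i) v = v := by
  refine ⟨fun h => by rw [← h, rot_proj], fun h => ?_⟩
  rw [proj, h, h, M.add_self, zero_add]

theorem proj_idem (i : Fin 3) (v : V) : proj M i (proj M i v) = proj M i v :=
  (proj_eq_self M).2 (rot_proj M i v)

theorem proj_map {i j : Fin 3} {g : X6} (h : g * rot i = rot j * g) (v : V) :
    M.ρ g (proj M i v) = proj M j (M.ρ g v) := by
  rw [proj, proj, map_add, map_add, ← Mod.rho_mul, ← Mod.rho_mul M g (rot i) (M.ρ (rot i) v), h,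
    Mod.rho_mul, Mod.rho_mul M (rot j) g (M.ρ (rot i) v), ← Mod.rho_mul M g, h, Mod.rho_mul]

theorem proj_map_inv {i : Fin 3} {g : X6} (h : g * rot i = rot i * rot i * g) (v : V) :
    M.ρ g (proj M i v) = proj M i (M.ρ g v) := by
  have e : ∀ u, M.ρ g (M.ρ (rot i) u) = M.ρ (rot i) (M.ρ (rot i) (M.ρ g u)) := fun u => by
    rw [← Mod.rho_mul, h, Mod.rho_mul, Mod.rho_mul]
  rw [proj, proj, map_add, map_add, e, e, e, rot_cube]
  abel

theorem proj_plane (i j : Fin 3) (s : Bool) (v : V) :
    M.ρ (xw (plane j s)) (proj M i v) = proj M i (M.ρ (xw (plane j s)) v) := by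
  by_cases h : j = i
  · subst h
    refine proj_map_inv M ?_ v
    simp only [rot]
    rw [← xw_append, ← xw_append, ← xw_append, xw_eq (plane_rot_self j s)]
  · refine proj_map M ?_ v
    simp only [rot]
    rw [← xw_append, ← xw_append, xw_eq (plane_rot j i s h)]

theorem proj_comm (i j : Fin 3) (v : V) : proj M i (proj M j v) = proj M j (proj M i v) := by
  have h := fun u => proj_map M (i := j) (j := j) (rot_comm i j) u
  conv_lhs => rw [proj, h, h]
  rw [← proj_add, ← proj_add]
  rfl

theorem proj_sw (k i : Fin 3) (v : V) : M.ρ (xw (sw k)) (proj M i v) = proj M (sg k i) (M.ρ (xw (sw k)) v) :=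
  proj_map M (sw_rot k i) v

/-- A fixed vector is orthogonal to a moved one. -/
theorem b_fixed_moved {i : Fin 3} {u w : V} (hu : proj M i u = u) (hw : proj M i w = 0) : M.b u w = false := by
  have hu' := (proj_eq_self M).1 hu
  have h1 : M.b u (M.ρ (rot i) w) = M.b u w := by
    conv_lhs => rw [← hu', M.b_inv]
  have h2 : M.b u (M.ρ (rot i) (M.ρ (rot i) w)) = M.b u w := by
    conv_lhs => rw [← hu', M.b_inv, h1]
  have h3 := congrArg (M.b u) hw
  rw [proj, M.b_add_right, M.b_add_right, h1, h2, M.b_comm u 0, M.b_zero_left, Bool.xor_self, Bool.false_xor] at h3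
  exact h3

/-- No vector is moved by the three rotations. -/
def NoMoved : Prop := ∀ v, (∀ i, proj M i v = 0) → v = 0

variable (hN : NoMoved M)
include hN

theorem third {i j k : Fin 3} (hij : i ≠ j) (hik : i ≠ k) (hjk : j ≠ k) {v : V} (hi : proj M i v = 0)
    (hj : proj M j v = 0) : proj M k v = v := by
  have h : v + proj M k v = 0 := by
    refine hN _ fun l => ?_
    rw [proj_add]
    rcases (by decide : ∀ a b c l : Fin 3, a ≠ b → a ≠ c → b ≠ c → l = a ∨ l = b ∨ l = c) i j k l hij hik hjk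
      with rfl | rfl | rfl
    · rw [proj_comm, hi, proj_zero, add_zero]
    · rw [proj_comm, hj, proj_zero, add_zero]
    · rw [proj_idem, M.add_self]
  calc proj M k v = (v + v) + proj M k v := by rw [M.add_self, zero_add]
    _ = v := by rw [add_assoc, h, add_zero]

variable [Finite V]

theorem pair_zero {i j : Fin 3} (hij : i ≠ j) {v : V} (hi : proj M i v = 0) (hj : proj M j v = 0) : v = 0 := by
  classical
  by_contra hv0
  obtain ⟨k, hki, hkj⟩ : ∃ k, k ≠ i ∧ k ≠ j :=
    (by decide : ∀ a b : Fin 3, ∃ c, c ≠ a ∧ c ≠ b) i j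
  -- the vectors moved by the rotations other than the `l`-th
  let P : Fin 3 → V → Prop := fun l w => ∀ m, m ≠ l → proj M m w = 0
  have hvP : P k v := fun m hm => by
    rcases (by decide : ∀ a b c m : Fin 3, a ≠ b → c ≠ a → c ≠ b → m ≠ c → m = a ∨ m = b) i j k m hij hki hkj hm
      with rfl | rfl
    exacts [hi, hj]
  have hmove : ∀ (a l : Fin 3) (w : V), P l w → P (sg a l) (M.ρ (xw (sw a)) w) := by
    intro a l w hw m hm
    obtain ⟨m', rfl, hm'⟩ := (by decide : ∀ a l m : Fin 3, m ≠ sg a l → ∃ m', sg a m' = m ∧ m' ≠ l) a l m hm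
    rw [← proj_sw, hw m' hm', map_zero]
  -- a non-zero vector fixed by the two `e`-transvections
  have hlow : ∃ w, w ≠ 0 ∧ P 2 w := by
    obtain ⟨a, ha⟩ := (by decide : ∀ k : Fin 3, ∃ a, sg a k = 2) k
    refine ⟨_, fun e => hv0 ?_, ha ▸ hmove a k v hvP⟩
    exact M.rho_inj_eq (e.trans (map_zero _).symm)
  obtain ⟨w0, hw0, hP0⟩ := hlow
  have step : ∀ (a : Fin 3) (w : V), w ≠ 0 → P 2 w → ∃ w', w' ≠ 0 ∧ P 2 w' ∧
      M.ρ (xw (plane a false)) w' = w' ∧
      ∀ b, b ≠ a → M.ρ (xw (plane b false)) w = w → M.ρ (xw (plane b false)) w' = w' := by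
    intro a w hw hP
    by_cases h : dif M (xw (plane a false)) w = 0
    · refine ⟨w, hw, hP, ?_, fun b _ hb => hb⟩
      calc M.ρ (xw (plane a false)) w = (w + w) + M.ρ (xw (plane a false)) w := by rw [M.add_self, zero_add]
        _ = w := by rw [add_assoc]; rw [dif] at h; rw [h, add_zero]
    · refine ⟨_, h, fun m hm => ?_, dif_dif M (plane_sq' a false) w, fun b hb e => ?_⟩
      · rw [dif, proj_add, ← proj_plane, hP m hm, map_zero, add_zero]
      · rw [rho_dif_comm M (plane_comm' hb false false), e]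
  obtain ⟨w1, hw1, hP1, hf0, -⟩ := step 0 w0 hw0 hP0
  obtain ⟨w, hw, hP, hf1, hk⟩ := step 1 w1 hw1 hP1
  have hf0 : M.ρ (xw (plane 0 false)) w = w := hk 0 (by decide) hf0
  have hPd : ∀ (a : Fin 3) (y : V), P 2 y → P 2 (dif M (xw (plane a true)) y) := by
    intro a y hy m hm
    rw [dif, proj_add, ← proj_plane, hy m hm, map_zero, add_zero]
  set d0 := dif M (xw (plane 0 true)) w with hd0
  set d1 := dif M (xw (plane 1 true)) w with hd1
  set d01 := dif M (xw (plane 0 true)) d1 with hd01
  have dadd := dif_add M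
  have dz : ∀ g, dif M g (0 : V) = 0 := fun g => by simp [dif]
  have dfix : ∀ {g : X6} {y : V}, M.ρ g y = y → dif M g y = 0 := fun {g y} e => by rw [dif, e, M.add_self]
  have dlow : ∀ (a : Fin 3) (y : V), a ≠ 2 → P 2 y → M.ρ (xw (plane a false)) y = y →
      dif M (xw (plane a false)) (dif M (xw (plane a true)) y) = y := by
    intro a y ha hy e
    rw [dif, plane_dif M ((moved_iff M).2 (hy a ha)) e, add_comm y, ← add_assoc, M.add_self, zero_add]
  have f1d0 : M.ρ (xw (plane 1 false)) d0 = d0 := by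
    rw [hd0, rho_dif_comm M (plane_comm' (by decide) false true), hf1]
  have f0d1 : M.ρ (xw (plane 0 false)) d1 = d1 := by
    rw [hd1, rho_dif_comm M (plane_comm' (by decide) false true), hf0]
  have a1 : dif M (xw (plane 1 false)) d1 = w := dlow 1 w (by decide) hP hf1
  have a0 : dif M (xw (plane 0 false)) d0 = w := dlow 0 w (by decide) hP hf0
  have a01 : dif M (xw (plane 0 false)) d01 = d1 := dlow 0 d1 (by decide) (hPd 1 w hP) f0d1
  let F : Bool × Bool × Bool × Bool → V := fun c =>
    (if c.1 then w else 0) + (if c.2.1 then d0 else 0) + (if c.2.2.1 then d1 else 0) + (if c.2.2.2 then d01 else 0)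
  have hF : ∀ c, F c = 0 → c = (false, false, false, false) := by
    rintro ⟨c0, c1, c2, c3⟩ h
    simp only [F] at h
    have hL0 := congrArg (dif M (xw (plane 0 false))) h
    simp only [dadd, apply_ite (dif M (xw (plane 0 false))), dz, dfix hf0, dfix f0d1, a0, a01, ite_self,
      zero_add, add_zero] at hL0
    have hL01 := congrArg (dif M (xw (plane 1 false))) hL0
    simp only [dadd, apply_ite (dif M (xw (plane 1 false))), dz, dfix hf1, a1, ite_self, zero_add] at hL01
    have e3 : c3 = false := by cases c3; rfl; exact absurd hL01 hw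
    subst e3
    simp only [Bool.false_eq_true, if_false, add_zero] at hL0 h
    have e1 : c1 = false := by cases c1; rfl; exact absurd hL0 hw
    subst e1
    simp only [Bool.false_eq_true, if_false, add_zero] at h
    have hL1 := congrArg (dif M (xw (plane 1 false))) h
    simp only [dadd, apply_ite (dif M (xw (plane 1 false))), dz, dfix hf1, a1, ite_self, zero_add] at hL1
    have e2 : c2 = false := by cases c2; rfl; exact absurd hL1 hw
    subst e2
    simp only [Bool.false_eq_true, if_false, add_zero] at h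
    have e0 : c0 = false := by cases c0; rfl; exact absurd h hw
    subst e0
    rfl
  have hFadd : ∀ c c', F c + F c' = F (xor c.1 c'.1, xor c.2.1 c'.2.1, xor c.2.2.1 c'.2.2.1, xor c.2.2.2 c'.2.2.2) := by
    rintro ⟨c0, c1, c2, c3⟩ ⟨d0', d1', d2', d3'⟩
    have e : ∀ (p q : Bool) (y : V), (if xor p q then y else 0) = (if p then y else 0) + (if q then y else 0) := by
      intro p q y; cases p <;> cases q <;> simp [M.add_self]
    simp only [F, e]; abel
  have hFP : ∀ c, P 2 (F c) := by
    intro c m hm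
    simp only [F, proj_add, apply_ite (proj M m), proj_zero, hP m hm, hPd 0 w hP m hm, hPd 1 w hP m hm,
      hPd 0 d1 (hPd 1 w hP) m hm, d0, d1, d01]
    simp
  have hFinj : Function.Injective F := by
    intro c c' e
    have := hF _ ((hFadd c c').symm.trans (by rw [e, M.add_self]))
    obtain ⟨c0, c1, c2, c3⟩ := c
    obtain ⟨d0', d1', d2', d3'⟩ := c'
    simpa using this
  -- three such families are independent
  obtain ⟨s0, hs0⟩ : ∃ a, sg a 2 = 0 := ⟨1, by decide⟩
  obtain ⟨s1, hs1⟩ : ∃ a, sg a 2 = 1 := ⟨0, by decide⟩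
  let Φ : (Bool × Bool × Bool × Bool) × (Bool × Bool × Bool × Bool) × (Bool × Bool × Bool × Bool) → V :=
    fun c => M.ρ (xw (sw s0)) (F c.1) + M.ρ (xw (sw s1)) (F c.2.1) + F c.2.2
  have hΦ : Function.Injective Φ := by
    intro c c' e
    have hd : ∀ (l : Fin 3) (y : V), P l y → ∀ m, m ≠ l → y + proj M m y = y := by
      intro l y hy m hm; rw [hy m hm, add_zero]
    have hsplit : ∀ (l m : Fin 3) (y : V), P l y → m = l → y + proj M m y = 0 := by
      rintro l m y hy rfl
      obtain ⟨n1, n2, n3⟩ := (by decide : ∀ m : Fin 3, m + 1 ≠ m + 2 ∧ m + 1 ≠ m ∧ m + 2 ≠ m) m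
      rw [third M hN n1 n2 n3 (hy _ n2) (hy _ n3), M.add_self]
    have key : ∀ (m : Fin 3) (y0 y1 y2 : V), P 0 y0 → P 1 y1 → P 2 y2 →
        (y0 + y1 + y2) + proj M m (y0 + y1 + y2) =
          (if m = 0 then 0 else y0) + (if m = 1 then 0 else y1) + (if m = 2 then 0 else y2) := by
      intro m y0 y1 y2 p0 p1 p2
      rw [proj_add, proj_add, show y0 + y1 + y2 + (proj M m y0 + proj M m y1 + proj M m y2) =
        (y0 + proj M m y0) + (y1 + proj M m y1) + (y2 + proj M m y2) by abel]
      congr 1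
      · congr 1
        · split
          · exact hsplit 0 m y0 p0 ‹_›
          · exact hd 0 y0 p0 m ‹_›
        · split
          · exact hsplit 1 m y1 p1 ‹_›
          · exact hd 1 y1 p1 m ‹_›
      · split
        · exact hsplit 2 m y2 p2 ‹_›
        · exact hd 2 y2 p2 m ‹_›
    have g : ∀ (c : (Bool × Bool × Bool × Bool) × (Bool × Bool × Bool × Bool) × (Bool × Bool × Bool × Bool)),
        P 0 (M.ρ (xw (sw s0)) (F c.1)) ∧ P 1 (M.ρ (xw (sw s1)) (F c.2.1)) ∧ P 2 (F c.2.2) := fun c =>
      ⟨hs0 ▸ hmove s0 2 _ (hFP _), hs1 ▸ hmove s1 2 _ (hFP _), hFP _⟩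
    have two : ∀ (m : Fin 3), (Φ c + proj M m (Φ c)) = (Φ c' + proj M m (Φ c')) := fun m => by rw [e]
    have k0 := two 0; have k1 := two 1
    simp only [Φ] at k0 k1 e
    rw [key 0 _ _ _ (g c).1 (g c).2.1 (g c).2.2, key 0 _ _ _ (g c').1 (g c').2.1 (g c').2.2] at k0
    rw [key 1 _ _ _ (g c).1 (g c).2.1 (g c).2.2, key 1 _ _ _ (g c').1 (g c').2.1 (g c').2.2] at k1
    simp only [Fin.reduceEq, if_false, if_true, zero_add, add_zero, ↓reduceIte] at k0 k1
    have e0 : M.ρ (xw (sw s0)) (F c.1) = M.ρ (xw (sw s0)) (F c'.1) := by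
      rw [add_assoc, add_assoc, k0] at e
      exact add_right_cancel e
    rw [e0] at k1
    have e2 := add_left_cancel k1
    rw [e2] at k0
    exact Prod.ext (hFinj (M.rho_inj_eq e0)) (Prod.ext (hFinj (M.rho_inj_eq (add_right_cancel k0))) (hFinj e2))
  have := Nat.card_le_card_of_injective Φ hΦ
  rw [M.card] at this
  simp [Nat.card_prod, Nat.card_eq_fintype_card] at this

end Cfsg.Agent.Co2Type
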