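import Cfsg.Agent.Lib.Co2Type.Final
import Cfsg.Agent.Lib.Co2Type.Local.Twist
import Cfsg.Agent.Lib.Co2Type.Local.Kill
import Cfsg.Agent.Lib.Co2Type.Local.Two

/-!
The two statements on the second Conway group, given that only roots are conjugate to the involution in exact
coordinates.
-/

set_option autoImplicit false

open Cfsg

namespace Cfsg.Agent.Co2Type.Final

open Local

universe u

/-- The exclusion, given the roots. -/
theorem exclusion_of_roots
    (hroots : ∀ (G : Type u) [Group G] [Finite G] (t : G) (χ : Code.Q8 →* G), orderOf t = 2 → Coo t χ →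
      Nat.card (Subgroup.centralizer ({t} : Set G)) = 512 * 1451520 →
      ∀ φ : Code.C0 →* G, Function.Injective φ → φ.range = Subgroup.centralizer ({t} : Set G) → φ Code.tau = t →
      (∀ x, Rel χ (φ x) x) → ∀ c, (∃ g, g * φ Code.tau * g⁻¹ = φ c) → Code.Root c) : Exclusion.{u} :=
  fun G _ _ t χ ht S hcard hpart =>
    ⟨fun htw => twist_false S ht htw (fun g x h1 h2 => kill_free S ht hcard g x h1 h2) hpart,
      hroots G t χ ht S hcard⟩

/-- The recognition, given the exclusion. -/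
theorem rowA (hX : Exclusion.{u}) (hX0 : Exclusion.{0}) {G : Type u} [Group G] [Finite G] (hO : Cfsg.oddCore G = ⊥) (hZ : Subgroup.center G = ⊥) (t : G) (ht : orderOf t = 2) (hcon : Cfsg.IsPConstrained 2 (Subgroup.centralizer ({t} : Set G))) (hQ : Cfsg.IsExtraspecial 2 (Cfsg.pCore 2 (Subgroup.centralizer ({t} : Set G)))) (hcard : Nat.card (Cfsg.pCore 2 (Subgroup.centralizer ({t} : Set G))) = 2 ^ 9) (e : (Subgroup.centralizer ({t} : Set G)) ⧸ Cfsg.pCore 2 (Subgroup.centralizer ({t} : Set G)) ≃* Matrix.symplecticGroup (Fin 3) (ZMod 2)) : Cfsg.Spor.IsoCo2 G :=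
  iso hX hX0 hO hZ t ht hcon hQ hcard e

/-- The rank three subgroup, given the exclusion. -/
theorem rowB (hX : Exclusion.{u}) (hX0 : Exclusion.{0}) {G : Type u} [Group G] [Finite G] (hO : Cfsg.oddCore G = ⊥) (hZ : Subgroup.center G = ⊥) (t : G) (ht : orderOf t = 2) (hcon : Cfsg.IsPConstrained 2 (Subgroup.centralizer ({t} : Set G))) (hQ : Cfsg.IsExtraspecial 2 (Cfsg.pCore 2 (Subgroup.centralizer ({t} : Set G)))) (hcard : Nat.card (Cfsg.pCore 2 (Subgroup.centralizer ({t} : Set G))) = 2 ^ 9) (e : (Subgroup.centralizer ({t} : Set G)) ⧸ Cfsg.pCore 2 (Subgroup.centralizer ({t} : Set G)) ≃* Matrix.symplecticGroup (Fin 3) (ZMod 2)) : ∃ H : Subgroup G, IsCoatom H ∧ H.index = 2300 ∧ ∃ q₁ q₂ : G ⧸ H, (MulAction.orbit H q₁).ncard = 891 ∧ (MulAction.orbit H q₂).ncard = 1408 :=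
  Rank3.of_iso (iso hX hX0 hO hZ t ht hcon hQ hcard e)

end Cfsg.Agent.Co2Type.Final
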