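import Cfsg.Agent.Lib.Co2Type.ModTools

/-!
The spin module: if some vector is moved by the three plane rotations, the module has a frame in
which the seven generators act by the tables.
-/

set_option autoImplicit false
set_option maxRecDepth 20000

namespace Cfsg.Agent.Co2Type

/-- The rotation of a plane. -/
noncomputable def rot (i : Fin 3) : X6 := xw (plane i false ++ plane i true)

/-- The difference of a vector and its image. -/
def dif {V : Type*} [AddCommGroup V] (M : Mod V) (g : X6) (v : V) : V := v + M.ρ g v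

/-- The axes of the tensor factors: bit `2 - i` of the index. -/
def axis (i : Fin 3) : ℕ := 2 - i.val

/-- The spin images under the plane transvections. -/
def planeTbl (i : Fin 3) (s : Bool) : List ℕ :=
  List.ofFn fun j : Fin 8 =>
    if j.val.testBit (axis i) = s then 2 ^ j.val else 2 ^ j.val ^^^ 2 ^ (j.val ^^^ 2 ^ axis i)

/-- Composition of tables. -/
def tmul (a b : List ℕ) : List ℕ := b.map (ap a)

theorem planeTbl_eq : planeTbl 0 false = sp8 1 ∧ planeTbl 0 true = sp8 0 ∧ planeTbl 1 true = sp8 6 ∧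
    planeTbl 2 false = sp8 4 ∧ planeTbl 2 true = sp8 5 := by decide +kernel

theorem plane_rot : ∀ i j : Fin 3, ∀ s, i ≠ j →
    code6 (plane i s ++ (plane j false ++ plane j true)) =
      code6 ((plane j false ++ plane j true) ++ plane i s) := by decide +kernel

theorem plane_rot_self : ∀ i : Fin 3, ∀ s, code6 (plane i s ++ (plane i false ++ plane i true)) =
    code6 ((plane i false ++ plane i true) ++ (plane i false ++ plane i true) ++ plane i s) := by
  decide +kernel

theorem rot_three_code : ∀ i : Fin 3, code6 ((plane i false ++ plane i true) ++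
    (plane i false ++ plane i true) ++ (plane i false ++ plane i true)) = code6 [] := by decide +kernel

theorem rot_sq_code : ∀ i : Fin 3, code6 ((plane i false ++ plane i true) ++ (plane i false ++ plane i true)) =
    code6 (plane i true ++ plane i false) := by decide +kernel

theorem mv2_comm : code6 ([2] ++ wE2) = code6 (wE2 ++ [2]) ∧ code6 ([2] ++ [0]) = code6 ([0] ++ [2]) ∧
    code6 ([2] ++ [4]) = code6 ([4] ++ [2]) ∧ code6 ([2] ++ [5]) = code6 ([5] ++ [2]) ∧
    code6 ([2] ++ [1] ++ [2]) = code6 ([1] ++ [2] ++ [1]) ∧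
    code6 ([2] ++ [6] ++ [2]) = code6 ([6] ++ [2] ++ [6]) ∧ code6 ([2] ++ [2]) = code6 [] := by
  decide +kernel

theorem mv3_comm : code6 ([3] ++ [0]) = code6 ([0] ++ [3]) ∧ code6 ([3] ++ [1]) = code6 ([1] ++ [3]) ∧
    code6 ([3] ++ [6]) = code6 ([6] ++ [3]) ∧ code6 ([3] ++ [5]) = code6 ([5] ++ [3]) ∧
    code6 ([3] ++ [4] ++ [3]) = code6 ([4] ++ [3] ++ [4]) ∧
    code6 ([3] ++ [2] ++ [3]) = code6 ([2] ++ [3] ++ [2]) ∧ code6 ([3] ++ [3]) = code6 [] := by
  decide +kernel

variable {V : Type*} [AddCommGroup V] [Finite V] (M : Mod V)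

section Rules

omit [Finite V]

theorem dif_dif {g : X6} (hg : g * g = 1) (v : V) : M.ρ g (dif M g v) = dif M g v := by
  rw [dif, map_add, ← Mod.rho_mul, hg, Mod.rho_one, add_comm]

theorem dif_add (g : X6) (v w : V) : dif M g (v + w) = dif M g v + dif M g w := by
  simp only [dif, map_add]; abel

theorem rho_dif_comm {g h : X6} (hc : g * h = h * g) (v : V) : M.ρ g (dif M h v) = dif M h (M.ρ g v) := by
  simp only [dif, map_add]; rw [← Mod.rho_mul, hc, Mod.rho_mul]

theorem plane_sq' (i : Fin 3) (s : Bool) : xw (plane i s) * xw (plane i s) = 1 := by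
  rw [← xw_append, xw_eq (plane_sq i s)]; rfl

theorem plane_comm' {i j : Fin 3} (h : i ≠ j) (s s' : Bool) :
    xw (plane i s) * xw (plane j s') = xw (plane j s') * xw (plane i s) := by
  rw [← xw_append, ← xw_append, xw_eq (plane_comm i j h s s')]

theorem rot_three (i : Fin 3) : rot i * rot i * rot i = 1 := by
  rw [rot, ← xw_append, ← xw_append, xw_eq (rot_three_code i)]; rfl

theorem moved_plane {i : Fin 3} {v : V} (hv : M.Moved (rot i) v) (j : Fin 3) (s : Bool) :
    M.Moved (rot i) (M.ρ (xw (plane j s)) v) := by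
  refine M.moved_map ?_ (rot_three i) hv
  by_cases h : j = i
  · subst h
    refine Or.inr ?_
    rw [rot, ← xw_append, ← xw_append, ← xw_append, xw_eq (plane_rot_self j s)]
  · refine Or.inl ?_
    rw [rot, ← xw_append, ← xw_append, xw_eq (plane_rot j i s h)]

theorem moved_dif {i : Fin 3} {v : V} (hv : M.Moved (rot i) v) (j : Fin 3) (s : Bool) :
    M.Moved (rot i) (dif M (xw (plane j s)) v) :=
  M.moved_add hv (moved_plane M hv j s)

/-- `P Q w = w + Q w` for a vector moved by the rotation and fixed by `P`. -/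
theorem plane_dif {i : Fin 3} {w : V} (hw : M.Moved (rot i) w) (hP : M.ρ (xw (plane i false)) w = w) :
    M.ρ (xw (plane i false)) (dif M (xw (plane i true)) w) = w + dif M (xw (plane i true)) w := by
  have h := hw
  unfold Mod.Moved at h
  rw [← Mod.rho_mul M (rot i) (rot i), rot, ← xw_append, xw_eq (rot_sq_code i), xw_append, xw_append,
    Mod.rho_mul, Mod.rho_mul, hP] at h
  have e : M.ρ (xw (plane i false)) (M.ρ (xw (plane i true)) w) = w + M.ρ (xw (plane i true)) w := by
    calc M.ρ (xw (plane i false)) (M.ρ (xw (plane i true)) w)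
        = (w + M.ρ (xw (plane i false)) (M.ρ (xw (plane i true)) w) + M.ρ (xw (plane i true)) w) +
            (w + M.ρ (xw (plane i true)) w) := by
          rw [show ∀ a b c : V, (a + b + c) + (a + c) = b + ((a + a) + (c + c)) from fun a b c => by abel,
            M.add_self, M.add_self, add_zero, add_zero]
      _ = _ := by rw [h, zero_add]
  rw [dif, map_add, hP, e]

end Rules

/-- A common fixed vector of the three `e`-transvections among the vectors moved by the rotations. -/
theorem exists_low {v : V} (hv0 : v ≠ 0) (hv : ∀ i, M.Moved (rot i) v) :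
    ∃ w, w ≠ 0 ∧ (∀ i, M.Moved (rot i) w) ∧ ∀ i, M.ρ (xw (plane i false)) w = w := by
  have step : ∀ (j : Fin 3) (u : V), u ≠ 0 → (∀ i, M.Moved (rot i) u) →
      ∃ u', u' ≠ 0 ∧ (∀ i, M.Moved (rot i) u') ∧ M.ρ (xw (plane j false)) u' = u' ∧
        ∀ i, i ≠ j → M.ρ (xw (plane i false)) u = u → M.ρ (xw (plane i false)) u' = u' := by
    intro j u hu hm
    by_cases h : dif M (xw (plane j false)) u = 0
    · refine ⟨u, hu, hm, ?_, fun i _ hi => hi⟩
      rw [dif] at h
      calc M.ρ (xw (plane j false)) u = (u + u) + M.ρ (xw (plane j false)) u := by rw [M.add_self, zero_add]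
        _ = u := by rw [add_assoc, h, add_zero]
    · refine ⟨_, h, fun i => moved_dif M (hm i) j false, dif_dif M (plane_sq' j false) u, fun i hij hi => ?_⟩
      rw [rho_dif_comm M (plane_comm' hij false false), hi]
  obtain ⟨a, ha, hma, ha0, -⟩ := step 0 v hv0 hv
  obtain ⟨b, hb, hmb, hb1, hbk⟩ := step 1 a ha hma
  obtain ⟨c, hc, hmc, hc2, hck⟩ := step 2 b hb hmb
  refine ⟨c, hc, hmc, fun i => ?_⟩
  fin_cases i
  · exact hck 0 (by decide) (hbk 0 (by decide) ha0)
  · exact hck 1 (by decide) hb1
  · exact hc2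

/-- The iterated differences. -/
noncomputable def basVec (w : V) (j : ℕ) : V :=
  let d : Fin 3 → V → V := fun i u => if j.testBit (axis i) then dif M (xw (plane i true)) u else u
  d 0 (d 1 (d 2 w))

omit [Finite V] in
theorem basVec_rule {w : V} (hm : ∀ i, M.Moved (rot i) w) (hP : ∀ i, M.ρ (xw (plane i false)) w = w)
    (i : Fin 3) (s : Bool) (j : Fin 8) :
    M.ρ (xw (plane i s)) (basVec M w j.val) =
      if j.val.testBit (axis i) = s then basVec M w j.val
      else basVec M w j.val + basVec M w (j.val ^^^ 2 ^ axis i) := by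
  have hQ : ∀ (a : Fin 3) (u : V), M.ρ (xw (plane a true)) (dif M (xw (plane a true)) u) =
      dif M (xw (plane a true)) u := fun a u => dif_dif M (plane_sq' a true) u
  have hQ0 : ∀ (a : Fin 3) (u : V), M.ρ (xw (plane a true)) u = u + dif M (xw (plane a true)) u := by
    intro a u
    rw [dif, ← add_assoc, M.add_self, zero_add]
  have hc : ∀ (a b : Fin 3), a ≠ b → ∀ (c : Bool) (u : V), M.ρ (xw (plane a c)) (dif M (xw (plane b true)) u) =
      dif M (xw (plane b true)) (M.ρ (xw (plane a c)) u) :=
    fun a b h c u => rho_dif_comm M (plane_comm' h c true) u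
  have hdc : ∀ (a b : Fin 3), a ≠ b → ∀ u : V, dif M (xw (plane a true)) (dif M (xw (plane b true)) u) =
      dif M (xw (plane b true)) (dif M (xw (plane a true)) u) := by
    intro a b h u
    conv_lhs => rw [dif, hc a b h, ← dif_add, ← dif]
  have h01 : (0 : Fin 3) ≠ 1 := by decide
  have h02 : (0 : Fin 3) ≠ 2 := by decide
  have h12 : (1 : Fin 3) ≠ 2 := by decide
  have m0 := plane_dif M (hm 0) (hP 0)
  have m1 := plane_dif M (hm 1) (hP 1)
  have m2 := plane_dif M (hm 2) (hP 2)
  have p0 := hP 0
  have p1 := hP 1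
  have p2 := hP 2
  have m02 := plane_dif M (moved_dif M (hm 0) 2 true) (show M.ρ _ (dif M (xw (plane 2 true)) w) = _ by rw [hc 0 2 h02, p0])
  have m01 := plane_dif M (moved_dif M (hm 0) 1 true) (show M.ρ _ (dif M (xw (plane 1 true)) w) = _ by rw [hc 0 1 h01, p0])
  have m012 := plane_dif M (moved_dif M (moved_dif M (hm 0) 2 true) 1 true)
    (show M.ρ _ (dif M (xw (plane 1 true)) (dif M (xw (plane 2 true)) w)) = _ by rw [hc 0 1 h01, hc 0 2 h02, p0])
  have m12 := plane_dif M (moved_dif M (hm 1) 2 true) (show M.ρ _ (dif M (xw (plane 2 true)) w) = _ by rw [hc 1 2 h12, p1])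
  fin_cases i <;> cases s <;> fin_cases j <;>
    simp [basVec, axis, hc 0 1 h01, hc 0 2 h02, hc 1 0 h01.symm, hc 1 2 h12, hc 2 0 h02.symm, hc 2 1 h12.symm,
      hQ, hQ0, m0, m1, m2, m01, m02, m012, m12, p0, p1, p2, dif_add, hdc 1 0 h01.symm, hdc 2 0 h02.symm, hdc 2 1 h12.symm,
      add_comm, M.add_self, Nat.testBit, Nat.shiftRight_eq_div_pow]

end Cfsg.Agent.Co2Type
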