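import Cfsg.Agent.Lib.Sp6Mult.Model

/-!
Seven transvections of `Sp₆(2)` along the diagram `E7`, and a calculus for the action of words in
them on bit vectors.
-/

set_option autoImplicit false
set_option maxRecDepth 20000

namespace Cfsg.Agent.Co2Type

open Matrix Cfsg.Agent.Forms.SympStd Cfsg.Agent.Classical.Symplectic Cfsg.Agent.Sp6Mult

/-- The group `Sp₆(2)`. -/
abbrev X6 : Type := Matrix.symplecticGroup (Fin 3) (ZMod 2)

/-- The position of a coordinate. -/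
def pos : Fin 3 ⊕ Fin 3 → ℕ := Sum.elim (fun i => i.val) (fun i => 3 + i.val)

/-- The vector with given bits. -/
def dec6 (n : ℕ) : V2 := fun p => if n.testBit (pos p) then 1 else 0

/-- The bit masks of the seven transvection vectors. -/
def vec7 : Fin 7 → ℕ := ![8, 1, 10, 48, 4, 32, 16]

/-- The seven transvections. -/
noncomputable def gen (k : Fin 7) : X6 := tv (dec6 (vec7 k)) 1

/-- Words reaching every non-zero vector. -/
def reachTbl : List (Fin 7 × List (Fin 7)) :=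
  [(0, []), (1, []), (0, [1, 2, 3, 4, 5, 6, 2, 1, 3, 2, 4, 3]),
    (0, [1, 2]), (4, []), (1, [2, 3, 4, 5, 6, 2]),
    (0, [1, 2, 3, 4, 6, 2, 1, 3, 2, 6]), (0, [1, 2, 3, 4, 5, 6]), (0, []),
    (0, [1]), (2, []), (1, [2]),
    (0, [1, 2, 3, 4, 5, 6, 2, 1]), (0, [1, 2, 3, 4, 5, 6, 2]), (2, [3, 4, 5, 6]),
    (1, [2, 3, 4, 5, 6]), (6, []), (0, [1, 2, 3, 4, 5, 6, 2, 1, 3, 2, 4, 3, 6, 2, 1, 0]),
    (0, [1, 2, 3, 4, 5, 6, 2, 1, 3, 2, 4, 3, 6]), (0, [1, 2, 6]), (3, [4, 5]),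
    (1, [2, 3, 4, 6, 2, 3]), (0, [1, 2, 3, 4, 6, 2, 1, 3, 2]), (0, [1, 2, 3, 4, 5]),
    (0, [1, 2, 3, 4, 5, 6, 2, 1, 3, 2, 4, 3, 6, 2]), (0, [1, 2, 3, 4, 5, 6, 2, 1, 3, 2, 4, 3, 6, 2, 1]), (2, [6]),
    (1, [2, 6]), (0, [1, 2, 3, 4, 6, 2, 1, 3]), (0, [1, 2, 3, 4, 6, 2, 3]),
    (2, [3, 4, 5]), (1, [2, 3, 4, 5]), (5, []),
    (1, [2, 3, 6, 2]), (0, [1, 2, 3, 4, 5, 6, 2, 1, 3, 2, 4, 6]), (0, [1, 2, 3, 6]),
    (4, [5]), (1, [2, 3, 4, 6, 2]), (0, [1, 2, 3, 4, 5, 6, 2, 1, 3, 2, 6]),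
    (0, [1, 2, 3, 4, 6]), (0, [1, 2, 3, 6, 2, 1]), (0, [1, 2, 3, 6, 2]),
    (2, [3, 6]), (1, [2, 3, 6]), (0, [1, 2, 3, 4, 6, 2, 1]),
    (0, [1, 2, 3, 4, 6, 2]), (2, [3, 4, 6]), (1, [2, 3, 4, 6]),
    (3, []), (1, [2, 3, 4, 5, 6, 2, 3, 4]), (0, [1, 2, 3, 4, 5, 6, 2, 1, 3, 2, 4]),
    (0, [1, 2, 3]), (3, [4]), (1, [2, 3, 4, 5, 6, 2, 3]),
    (0, [1, 2, 3, 4, 5, 6, 2, 1, 3, 2]), (0, [1, 2, 3, 4]), (0, [1, 2, 3, 4, 5, 6, 2, 1, 3, 4]),
    (0, [1, 2, 3, 4, 5, 6, 2, 3, 4]), (2, [3]), (1, [2, 3]),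
    (0, [1, 2, 3, 4, 5, 6, 2, 1, 3]), (0, [1, 2, 3, 4, 5, 6, 2, 3]), (2, [3, 4]),
    (1, [2, 3, 4])]

/-- The move by a transvection, on vectors. -/
def mv (k : Fin 7) (u : V2) : V2 := u + Cfsg.sympForm 3 (ZMod 2) u (dec6 (vec7 k)) • dec6 (vec7 k)

theorem gen_mulVec (k : Fin 7) (u : V2) :
    ((gen k : X6) : Matrix (Fin 3 ⊕ Fin 3) (Fin 3 ⊕ Fin 3) (ZMod 2)) *ᵥ u = mv k u := by
  rw [gen, tv_mulVec, one_mul]
  rfl

theorem reach : ∀ u : V2, u ≠ 0 →
    (reachTbl.getD (enc u) (0, [])).2.foldl (fun x k => mv k x) (dec6 (vec7 (reachTbl.getD (enc u) (0, [])).1)) = u := by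
  decide +kernel

theorem closure_gen : Subgroup.closure (Set.range gen) = (⊤ : Subgroup X6) := by
  set H := Subgroup.closure (Set.range gen) with hH
  have hgen : ∀ i, gen i ∈ H := fun i => Subgroup.subset_closure ⟨i, rfl⟩
  have hfold : ∀ (w : List (Fin 7)) (x : V2), tv x (1 : ZMod 2) ∈ H →
      tv (w.foldl (fun x k => mv k x) x) (1 : ZMod 2) ∈ H := by
    intro w
    induction w with
    | nil => exact fun x hx => hx
    | cons k w ih =>
      intro x hx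
      refine ih (mv k x) ?_
      rw [← gen_mulVec, ← tv_conj]
      exact mul_mem (mul_mem (hgen k) hx) (inv_mem (hgen k))
  rw [eq_top_iff, ← closure_tvSet_eq_top, Subgroup.closure_le]
  rintro A ⟨w, c, -, hA⟩
  have hA' : A = tv w c := Subtype.ext hA
  rw [hA', SetLike.mem_coe]
  rcases (by decide : ∀ a : ZMod 2, a = 0 ∨ a = 1) c with rfl | rfl
  · rw [tv_zero]; exact one_mem _
  · by_cases h0 : w = 0
    · rw [h0, show tv (0 : V2) (1 : ZMod 2) = 1 from sp_ext fun x => by rw [tv_mulVec]; simp]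
      exact one_mem _
    · rw [← reach _ h0]
      exact hfold _ _ (hgen _)

theorem gen_sq (k : Fin 7) : gen k * gen k = 1 := by
  rw [gen, tv_mul, show (1 : ZMod 2) + 1 = 0 from rfl, tv_zero]

/-! ### Bit vectors -/

/-- The image of a vector under the linear map given by the images of the unit vectors. -/
def ap : List ℕ → ℕ → ℕ
  | [], _ => 0
  | x :: a, v => (if v.testBit 0 then x else 0) ^^^ ap a (v / 2)

/-- An element: the images of the six natural and of the eight spin unit vectors. -/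
abbrev El : Type := List ℕ × List ℕ

/-- The product of two elements. -/
def El.mul (a b : El) : El := (b.1.map (ap a.1), b.2.map (ap a.2))

/-- The element of the identity. -/
def El.id : El := ([1, 2, 4, 8, 16, 32], [1, 2, 4, 8, 16, 32, 64, 128])

theorem ap_sum {A : Type*} [AddCommMonoid A] (E : ℕ → A) (h0 : E 0 = 0)
    (hadd : ∀ x y, E (x ^^^ y) = E x + E y) (a : List ℕ) :
    ∀ v, E (ap a v) = ∑ j : Fin a.length, if v.testBit j.val then E (a.get j) else 0 := by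
  induction a with
  | nil => intro v; simp [ap, h0]
  | cons x a ih =>
    intro v
    rw [ap, hadd, ih]
    simp only [List.length_cons, Fin.sum_univ_succ, Fin.val_zero, Fin.val_succ, Nat.testBit_succ,
      List.get_cons_zero, List.get_cons_succ']
    congr 1
    rw [apply_ite E, h0]
    rfl

/-- The natural part of an element represents a matrix. -/
def Nat6 (g : X6) (a : List ℕ) : Prop :=
  a.length = 6 ∧ ∀ n : ℕ, (g : Matrix (Fin 3 ⊕ Fin 3) (Fin 3 ⊕ Fin 3) (ZMod 2)) *ᵥ dec6 n = dec6 (ap a n)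

theorem dec6_zero : dec6 0 = 0 := by
  funext p; simp [dec6]

theorem dec6_xor (x y : ℕ) : dec6 (x ^^^ y) = dec6 x + dec6 y := by
  funext p
  simp only [dec6, Pi.add_apply, Nat.testBit_xor]
  cases x.testBit (pos p) <;> cases y.testBit (pos p) <;> simp <;> decide

theorem dec6_surj : ∀ u : V2, ∃ n < 64, dec6 n = u := by
  decide +kernel

theorem nat6_mul {g h : X6} {a b : List ℕ} (hg : Nat6 g a) (hh : Nat6 h b) :
    Nat6 (g * h) (b.map (ap a)) := by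
  refine ⟨by simpa using hh.1, fun n => ?_⟩
  rw [mul_mulVec_sp, hh.2, hg.2]
  rw [ap_sum (fun m => dec6 (ap a m)) ?_ ?_ b n, ap_sum dec6 dec6_zero dec6_xor (b.map (ap a)) n]
  · exact Fintype.sum_equiv (finCongr (List.length_map _).symm) _ _ (fun j => by simp)
  · rw [← hg.2, dec6_zero, Matrix.mulVec_zero]
  · intro x y
    rw [← hg.2, ← hg.2, ← hg.2, dec6_xor, Matrix.mulVec_add]

theorem dec6_mod (n : ℕ) : dec6 (n % 64) = dec6 n := by
  funext p
  have hp : pos p < 6 := by rcases p with i | i <;> simp [pos] <;> omega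
  simp only [dec6]
  rw [show (64 : ℕ) = 2 ^ 6 by norm_num, Nat.testBit_mod_two_pow]
  simp [hp]

theorem ap6_mod {a : List ℕ} (hl : a.length = 6) (n : ℕ) : dec6 (ap a (n % 64)) = dec6 (ap a n) := by
  rw [ap_sum dec6 dec6_zero dec6_xor, ap_sum dec6 dec6_zero dec6_xor]
  refine Finset.sum_congr rfl fun j _ => ?_
  rw [show (64 : ℕ) = 2 ^ 6 by norm_num, Nat.testBit_mod_two_pow]
  have hj : j.val < 6 := hl ▸ j.isLt
  simp [hj]

theorem id6_table : ∀ n < 64, ap El.id.1 n = n := by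
  decide +kernel

theorem nat6_one : Nat6 1 El.id.1 := by
  refine ⟨rfl, fun n => ?_⟩
  rw [OneMemClass.coe_one, Matrix.one_mulVec, ← ap6_mod (by rfl) n,
    id6_table _ (Nat.mod_lt _ (by norm_num)), dec6_mod]

theorem nat6_eq {g h : X6} {a : List ℕ} (hg : Nat6 g a) (hh : Nat6 h a) : g = h :=
  sp_ext fun u => by
    obtain ⟨n, -, rfl⟩ := dec6_surj u
    rw [hg.2, hh.2]

/-- The natural parts of the seven transvections. -/
def gen6 : Fin 7 → List ℕ :=
  ![[9, 2, 4, 8, 16, 32], [1, 2, 4, 9, 16, 32], [11, 2, 4, 8, 26, 32], [1, 50, 52, 8, 16, 32],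
    [1, 2, 4, 8, 16, 36], [1, 2, 36, 8, 16, 32], [1, 18, 4, 8, 16, 32]]

theorem gen6_table : ∀ k : Fin 7, ∀ n < 64, mv k (dec6 n) = dec6 (ap (gen6 k) n) := by
  decide +kernel

theorem nat6_gen (k : Fin 7) : Nat6 (gen k) (gen6 k) := by
  have hl : (gen6 k).length = 6 := by fin_cases k <;> rfl
  refine ⟨hl, fun n => ?_⟩
  rw [gen_mulVec, ← dec6_mod, gen6_table k _ (Nat.mod_lt _ (by norm_num)), ap6_mod hl]

end Cfsg.Agent.Co2Type
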